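import Cfsg.Agent.TU18.Engine

/-!
The `p`-part of the product of two quadratic unipotent elements (helper18).
-/

set_option autoImplicit false
set_option linter.unusedSectionVars false

namespace Cfsg.Agent.TU18

open Matrix Module

variable {ι : Type} [Fintype ι] [DecidableEq ι] {F : Type*} [Field F] [Finite F]
variable {U X : Matrix ι ι F}

theorem mp_comp (A B : Matrix ι ι F) (P : Submodule F (ι → F)) : mp A (mp B P) = mp (A * B) P := by
  simp only [mp, Matrix.mulVecLin_mul, Submodule.map_comp]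

theorem mp_le_ran (A : Matrix ι ι F) (P : Submodule F (ι → F)) : mp A P ≤ ran A :=
  LinearMap.map_le_range

theorem mp_mono (A : Matrix ι ι F) {P Q : Submodule F (ι → F)} (h : P ≤ Q) : mp A P ≤ mp A Q :=
  Submodule.map_mono h

theorem rank_mul_unit (A : Matrix ι ι F) {B : Matrix ι ι F} (hB : IsUnit B) :
    (A * B).rank = A.rank :=
  Matrix.rank_mul_eq_left_of_isUnit_det B A ((Matrix.isUnit_iff_isUnit_det B).mp hB)

section
variable (hU : U * U = 0) (hX : X * X = 0)
include hU hX

theorem idem_comm_left : Commute (idem U X) U := cen_comm idem_mem (th_comm_U hU)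

theorem idem_comm_right : Commute (idem U X) X := cen_comm idem_mem (th_comm_X hX)

theorem idem_mul_eq_th {Y : Matrix ι ι F} (hY : Commute (th U X) Y) :
    idem U X * Y = th U X ^ (epow U X - 1) * idem U X * (th U X * Y) := by
  have hc : Commute (idem U X) (th U X) := cen_comm idem_mem (Commute.refl _)
  calc idem U X * Y = idem U X * idem U X * Y := by rw [idem_mul_idem]
    _ = idem U X * (th U X * th U X ^ (epow U X - 1)) * Y := by rw [← idem_eq]
    _ = th U X ^ (epow U X - 1) * idem U X * (th U X * Y) := by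
      rw [((Commute.refl (th U X)).pow_right (epow U X - 1)).eq, ← mul_assoc (idem U X),
        (hc.pow_right _).eq]
      simp only [mul_assoc]

theorem idem_swap : idem X U = idem U X := by
  have := hU
  show (fun t : Matrix ι ι F => t ^ (exists_idem_pow t).choose) (th X U) =
    (fun t : Matrix ι ι F => t ^ (exists_idem_pow t).choose) (th U X)
  rw [th_swap]

theorem ran_idem_right_le : ran (idem U X * X) ≤ mp X (ran (idem U X * U)) := by
  set w := th U X ^ (epow U X - 1)
  have hw : w ∈ cen U X := pow_mem th_mem_cen _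
  have h : idem U X * X = X * (idem U X * U * (w * X)) := by
    rw [idem_mul_eq_th hU hX (th_comm_X hX), th_mul_right hX]
    have h1 : Commute w X := cen_comm hw (th_comm_X hX)
    have h2 : Commute (idem U X) X := idem_comm_right hU hX
    have h3 : Commute w (idem U X * U) := cen_comm hw
      ((cen_comm idem_mem (Commute.refl _)).symm.mul_right (th_comm_U hU))
    calc w * idem U X * (X * U * X) = w * (idem U X * X) * U * X := by noncomm_ring
      _ = w * (X * idem U X) * U * X := by rw [h2.eq]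
      _ = w * X * (idem U X * U) * X := by noncomm_ring
      _ = X * (w * (idem U X * U)) * X := by rw [h1.eq]; noncomm_ring
      _ = _ := by rw [h3.eq]; noncomm_ring
  rw [h, ran_mul]
  exact mp_mono _ (ran_mul_le _ _)

theorem rank_idem_eq : (idem U X * U).rank = (idem U X * X).rank := by
  refine le_antisymm ?_ ((Submodule.finrank_mono (ran_idem_right_le hU hX)).trans (fin_mp_le _ _))
  have h := (Submodule.finrank_mono (ran_idem_right_le hX hU)).trans (fin_mp_le _ _)
  rw [idem_swap hU hX] at h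
  exact h

theorem ran_idem_le : ran (idem U X) ≤ ran (idem U X * U) ⊔ ran (idem U X * X) := by
  have h : idem U X = idem U X * U * (X * th U X ^ (epow U X - 1)) +
      idem U X * X * (U * th U X ^ (epow U X - 1)) := by
    conv_lhs => rw [← idem_mul_idem]
    conv_lhs => arg 2; rw [idem_eq]
    conv_lhs => arg 2; arg 1; rw [th]
    noncomm_ring
  calc ran (idem U X) = _ := congrArg ran h
    _ ≤ _ := (ran_add_le _ _).trans (sup_le_sup (ran_mul_le _ _) (ran_mul_le _ _))

theorem idem_left_pos (hθ : ¬ IsNilpotent (th U X)) : 0 < (idem U X * U).rank := by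
  rw [Nat.pos_iff_ne_zero]
  intro h0
  have h1 : idem U X * U = 0 := ran_eq_bot_iff.mp (Submodule.finrank_eq_zero.mp h0)
  have h2 : idem U X * X = 0 :=
    ran_eq_bot_iff.mp (Submodule.finrank_eq_zero.mp ((rank_idem_eq hU hX).symm.trans h0))
  refine idem_ne_zero hθ (ran_eq_bot_iff.mp (eq_bot_iff.mpr ?_))
  refine (ran_idem_le hU hX).trans ?_
  rw [h1, h2, ran_eq_bot_iff.mpr rfl, bot_sup_eq]

/-- Two commuting nilpotents move a non-zero invariant subspace into a proper subspace. -/
theorem finrank_nil_lt {α β : Matrix ι ι F} (hαn : IsNilpotent α) (hβn : IsNilpotent β)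
    (hab : Commute α β) {M0 : Submodule F (ι → F)} (hMa : mp α M0 ≤ M0) (hMb : mp β M0 ≤ M0)
    (h0 : 0 < finrank F M0) :
    finrank F ↥(mp α M0 ⊔ mp β M0) < finrank F M0 := by
  have _ := hU
  refine lt_of_le_of_ne (Submodule.finrank_mono (sup_le hMa hMb)) fun heq => ?_
  have h : mp α M0 ⊔ mp β M0 = M0 :=
    Submodule.eq_of_le_of_finrank_le (sup_le hMa hMb) heq.ge
  have hA : ∀ i : ℕ, M0 ≤ mp (α ^ i) M0 ⊔ mp β M0 := by
    intro i
    induction i with
    | zero => rw [pow_zero]; simp [mp]
    | succ i ih =>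
      refine ih.trans (sup_le ?_ le_sup_right)
      conv_lhs => rw [← h]
      rw [mp, Submodule.map_sup]
      refine sup_le (le_trans (le_of_eq ?_) le_sup_left) (le_trans ?_ le_sup_right)
      · rw [show (mp α M0).map (α ^ i).mulVecLin = mp (α ^ i) (mp α M0) from rfl, mp_comp, ← pow_succ]
      · rw [show (mp β M0).map (α ^ i).mulVecLin = mp (α ^ i) (mp β M0) from rfl, mp_comp,
          (hab.pow_left i).eq, ← mp_comp]
        refine mp_mono _ ?_
        clear ih
        induction i with
        | zero => rw [pow_zero]; simp [mp]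
        | succ j ihj => rw [pow_succ, ← mp_comp]; exact (mp_mono _ hMa).trans ihj
  obtain ⟨i, hi⟩ := hαn
  have hB : M0 ≤ mp β M0 := by
    have := hA i
    rw [hi] at this
    simpa [mp] using this
  have hC : ∀ j : ℕ, M0 ≤ mp (β ^ j) M0 := by
    intro j
    induction j with
    | zero => rw [pow_zero]; simp [mp]
    | succ j ih => rw [pow_succ, ← mp_comp]; exact ih.trans (mp_mono _ hB)
  obtain ⟨j, hj⟩ := hβn
  have := hC j
  rw [hj] at this
  have h' : M0 = ⊥ := by simpa [mp] using this
  rw [h', finrank_bot] at h0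
  exact lt_irrefl 0 h0

theorem mp_cen_le {c y : Matrix ι ι F} (hc : c ∈ cen U X) (hy : y ∈ alg U X) :
    mp c (ran y) ≤ ran y := by
  rw [← ran_mul, (cen_comm_alg hU hX hc hy).eq]
  exact ran_mul_le _ _

theorem rank_nil_part {α β : Matrix ι ι F} (hα : α ∈ cen U X) (hβ : β ∈ cen U X) (hαe : idem U X * α = α)
    (hβe : idem U X * β = β) (hαn : IsNilpotent α) (hβn : IsNilpotent β) (hθ : ¬ IsNilpotent (th U X))
    {y y' : Matrix ι ι F} :
    (α * y + β * y').rank + 2 ≤ 2 * (idem U X * U).rank := by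
  set P := ran (idem U X * U)
  set P' := ran (idem U X * X)
  have hab : Commute α β := cen_comm hα (cen_comm hβ (Commute.refl _)).symm
  have hp0 : ∀ {c : Matrix ι ι F}, c ∈ cen U X → idem U X * c = c →
      ∀ z, ran (c * z) ≤ mp c P ⊔ mp c P' := by
    intro c hc hce z
    have h1 : c * z = c * (idem U X * z) := by
      rw [← mul_assoc, (cen_comm hc (cen_comm idem_mem (Commute.refl _)).symm).eq, hce]
    rw [h1, ran_mul, ← Submodule.map_sup]
    exact mp_mono _ ((ran_mul_le _ _).trans (ran_idem_le hU hX))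
  have hle : ran (α * y + β * y') ≤ (mp α P ⊔ mp β P) ⊔ (mp α P' ⊔ mp β P') := by
    refine (ran_add_le _ _).trans ((sup_le_sup (hp0 hα hαe y) (hp0 hβ hβe y')).trans ?_)
    rw [sup_sup_sup_comm]
  have hI := cen_le (idem_mem (U := U) (X := X))
  have h1 := finrank_nil_lt hU hX hαn hβn hab (mp_cen_le hU hX hα (mul_mem hI mem_alg_left))
    (mp_cen_le hU hX hβ (mul_mem hI mem_alg_left)) (idem_left_pos hU hX hθ)
  have h2 := finrank_nil_lt hU hX hαn hβn hab (mp_cen_le hU hX hα (mul_mem hI mem_alg_right))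
    (mp_cen_le hU hX hβ (mul_mem hI mem_alg_right))
    (lt_of_lt_of_eq (idem_left_pos hU hX hθ) (rank_idem_eq hU hX))
  have h3 := (Submodule.finrank_mono hle).trans (fin_sup_le _ _)
  have h4 := rank_idem_eq hU hX
  simp only [rank_def, P, P'] at h1 h2 h3 h4 ⊢
  omega

theorem ran_inS {s : Matrix ι ι F} (hs : InS U X s) :
    ran ((1 - idem U X) * s) ≤ ran ((1 - idem U X) * U) ⊔ ran ((1 - idem U X) * X) := by
  obtain ⟨a, b, c, d, ha, hb, hc, hd, rfl⟩ := hs
  have h : (1 - idem U X) * (a * U + b * X + c * (U * X) + d * (X * U)) =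
      (1 - idem U X) * U * (a + c * X) + (1 - idem U X) * X * (b + d * U) := by
    rw [(cen_comm ha (th_comm_U hU)).eq, (cen_comm hb (th_comm_X hX)).eq, ← mul_assoc c,
      (cen_comm hc (th_comm_U hU)).eq, ← mul_assoc d, (cen_comm hd (th_comm_X hX)).eq]
    noncomm_ring
  rw [h]
  exact (ran_add_le _ _).trans (sup_le_sup (ran_mul_le _ _) (ran_mul_le _ _))

theorem ran_bracket {s : Matrix ι ι F} (hs : InS U X s) :
    ran ((1 - idem U X) * (U * s - s * U)) ≤
      ran ((1 - idem U X) * U * X) ⊔ ran ((1 - idem U X) * X * U) := by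
  obtain ⟨a, b, c, d, ha, hb, hc, hd, rfl⟩ := hs
  have hUc : ∀ r ∈ cen U X, Commute r U := fun r hr => cen_comm hr (th_comm_U hU)
  have hXc : ∀ r ∈ cen U X, Commute r X := fun r hr => cen_comm hr (th_comm_X hX)
  have e1 : U * (a * U + b * X + c * (U * X) + d * (X * U)) = U * X * (b + d * U) := by
    rw [mul_add, mul_add, mul_add, ← mul_assoc U a, ← (hUc a ha).eq, mul_assoc a U, hU, mul_zero,
      ← mul_assoc U c, ← (hUc c hc).eq, mul_assoc c U, ← mul_assoc U U X, hU, zero_mul, mul_zero,
      (hXc b hb).eq, ← mul_assoc d, (hXc d hd).eq]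
    noncomm_ring
  have e2 : (a * U + b * X + c * (U * X) + d * (X * U)) * U = U * X * (c * U) + X * U * b := by
    rw [add_mul, add_mul, add_mul, mul_assoc a U U, hU, mul_zero, mul_assoc d (X * U) U, mul_assoc X U U,
      hU, mul_zero, mul_zero]
    calc _ = b * (X * U) + c * (U * X) * U := by noncomm_ring
      _ = X * U * b + (U * X) * c * U := by
        rw [((hXc b hb).mul_right (hUc b hb)).eq, ((hUc c hc).mul_right (hXc c hc)).eq]
      _ = _ := by noncomm_ring
  have h : (1 - idem U X) * (U * (a * U + b * X + c * (U * X) + d * (X * U)) -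
      (a * U + b * X + c * (U * X) + d * (X * U)) * U) =
      (1 - idem U X) * U * X * (b + d * U - c * U) + (1 - idem U X) * X * U * (-b) := by
    rw [e1, e2]; noncomm_ring
  rw [h]
  exact (ran_add_le _ _).trans (sup_le_sup (ran_mul_le _ _) (ran_mul_le _ _))

/-- On the nilpotent part the images of `U * X` and `X * U` do not fill the images of `U` and `X`. -/
theorem rank_bracket_lt
    (hne : 0 < ((1 - idem U X) * U).rank + ((1 - idem U X) * X).rank) :
    finrank F ↥(ran ((1 - idem U X) * U * X) ⊔ ran ((1 - idem U X) * X * U)) <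
      ((1 - idem U X) * U).rank + ((1 - idem U X) * X).rank := by
  set e' := 1 - idem U X with he'
  have hUc : Commute e' U := cen_comm compl_mem (th_comm_U hU)
  have hXc : Commute e' X := cen_comm compl_mem (th_comm_X hX)
  have h1 : ran (e' * U * X) ≤ ran (e' * U) := ran_mul_le _ _
  have h2 : ran (e' * X * U) ≤ ran (e' * X) := ran_mul_le _ _
  refine lt_of_le_of_ne ((fin_sup_le _ _).trans (Nat.add_le_add (Submodule.finrank_mono h1)
    (Submodule.finrank_mono h2))) fun heq => ?_
  have h3 := (fin_sup_le (ran (e' * U * X)) (ran (e' * X * U)))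
  have h4 := Submodule.finrank_mono h1
  have h5 := Submodule.finrank_mono h2
  simp only [rank_def] at heq hne
  have hA : ran (e' * U) = mp U (ran (e' * X)) := by
    rw [← ran_mul, show U * (e' * X) = e' * U * X by rw [← mul_assoc, ← hUc.eq]]
    refine (Submodule.eq_of_le_of_finrank_le h1 ?_).symm
    omega
  have hB : ran (e' * X) = mp X (ran (e' * U)) := by
    rw [← ran_mul, show X * (e' * U) = e' * X * U by rw [← mul_assoc, ← hXc.eq]]
    refine (Submodule.eq_of_le_of_finrank_le h2 ?_).symm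
    omega
  have hAB : ran (e' * U) = ran (th U X * e' * U) := by
    conv_lhs => rw [hA, hB, mp_comp, ← ran_mul]
    congr 1
    rw [(cen_comm compl_mem (Commute.refl _)).symm.eq, mul_assoc e', th_mul_left hU,
      ← mul_assoc (U * X), mul_assoc U X e', ← hXc.eq, ← mul_assoc U e' X, ← hUc.eq, mul_assoc e',
      mul_assoc e']
  obtain ⟨j, hj⟩ := th_compl_nilpotent (U := U) (X := X)
  have hit : ∀ i : ℕ, ran (e' * U) = ran ((th U X * e') ^ i * (e' * U)) := by
    intro i
    induction i with
    | zero => rw [pow_zero, one_mul]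
    | succ i ih =>
      rw [pow_succ', mul_assoc, ran_mul (th U X * e'), ← ih, ← ran_mul, ← mul_assoc,
        mul_assoc (th U X) e' e', he', idem_compl, ← he']
      exact hAB
  have hz : ran (e' * U) = ⊥ := by rw [hit j, he', hj, zero_mul, ran_eq_bot_iff.mpr rfl]
  have hz' : ran (e' * X) = ⊥ := by rw [hB, hz]; simp [mp]
  have hz1 : finrank F (ran (e' * U)) = 0 := by rw [hz]; exact finrank_bot F _
  have hz2 : finrank F (ran (e' * X)) = 0 := by rw [hz']; exact finrank_bot F _
  omega

end

variable {u x : GL ι F} (p : ℕ) [Fact p.Prime] [CharP F p] [Nonempty ι]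

/-- The `p`-part of `u * x` lies in a normal `p`-subgroup and moves little. -/
theorem exists_small (hU : U * U = 0) (hX : X * X = 0) (hu : (u : Matrix ι ι F) = 1 + U)
    (hx : (x : Matrix ι ι F) = 1 + X) (hθ : ¬ IsNilpotent (th U X))
    (hnd : ∃ m : ι → F, th U X *ᵥ m = 0 ∧
      ((m ∈ ran U ∧ m ∉ ran X) ∨ (m ∈ ran X ∧ m ∉ ran U)))
    (h4 : (4 : F) = 0 ∨ IsUnit (th U X + 4)) :
    ∃ (z : GL ι F) (Q : Subgroup (GL ι F)), z ≠ 1 ∧ z ∈ Q ∧ IsPGroup p Q ∧
      Q ≤ Subgroup.closure {u, x} ∧
      (∀ h ∈ Subgroup.closure ({u, x} : Set (GL ι F)), ∀ g ∈ Q, h * g * h⁻¹ ∈ Q) ∧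
      ((z : Matrix ι ι F) - 1).rank + 2 ≤ U.rank + X.rank ∧
      (((u * z * u⁻¹ * z⁻¹ : GL ι F) : Matrix ι ι F) - 1).rank + 3 ≤ U.rank + X.rank ∧
      (Commute u z → Commute x z ∧
        ((U * ((z : Matrix ι ι F) - 1)).rank ≤ 1 → (X * ((z : Matrix ι ι F) - 1)).rank ≤ 1 →
          (∀ v : ι → F, X *ᵥ (U *ᵥ v) = 0 → U *ᵥ v = 0) → X.rank = U.rank + 1 →
          ((z : Matrix ι ι F) - 1).rank ≤ 3)) := by
  have hpp : p.Prime := Fact.out
  set t := th U X with ht
  set e := idem U X with he
  set γ := u * x with hγ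
  have hu' := inv_val hU hu
  have hx' := inv_val hX hx
  set G : Matrix ι ι F := (γ : Matrix ι ι F) with hG
  set G' : Matrix ι ι F := ((γ⁻¹ : GL ι F) : Matrix ι ι F) with hG'
  have hG1 : G = 1 + U + X + U * X := by rw [hG, hγ, Units.val_mul, hu, hx]; noncomm_ring
  have hG'1 : G' = 1 - X - U + X * U := by
    rw [hG', hγ, _root_.mul_inv_rev, Units.val_mul, hu', hx']; noncomm_ring
  have hGG : G * G' = 1 := Units.mul_inv γ
  have hG'G : G' * G = 1 := Units.inv_mul γ
  have hsum : G + G' = 2 + t := by rw [hG1, hG'1, ht, th, ← one_add_one_eq_two]; noncomm_ring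
  have hGA : G ∈ alg U X := by
    rw [hG1]
    exact add_mem (add_mem (add_mem (one_mem _) mem_alg_left) mem_alg_right)
      (mul_mem mem_alg_left mem_alg_right)
  have hG'A : G' ∈ alg U X := by
    rw [hG'1]
    exact add_mem (sub_mem (sub_mem (one_mem _) mem_alg_right) mem_alg_left)
      (mul_mem mem_alg_right mem_alg_left)
  have hcc : ∀ {c y : Matrix ι ι F}, c ∈ cen U X → y ∈ alg U X → Commute c y :=
    fun hc hy => cen_comm_alg hU hX hc hy
  have hτ : (2 + t : Matrix ι ι F) ∈ cen U X := add_mem (ofNat_mem _ 2) th_mem_cen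
  -- powers
  have hlin : ∀ m : ℕ, ∃ a ∈ cen U X, ∃ b ∈ cen U X, G ^ m = a + b * G ∧ G' ^ m = a + b * G' := by
    intro m
    induction m with
    | zero => exact ⟨1, one_mem _, 0, zero_mem _, by simp, by simp⟩
    | succ m ih =>
      obtain ⟨a, ha, b, hb, h1, h2⟩ := ih
      refine ⟨-b, neg_mem hb, a + b * (2 + t), add_mem ha (mul_mem hb hτ), ?_, ?_⟩
      · have hq : G * G = (2 + t) * G - 1 := by rw [← hsum, add_mul, hG'G]; abel
        rw [pow_succ, h1, add_mul, mul_assoc, hq]; noncomm_ring
      · have hq : G' * G' = (2 + t) * G' - 1 := by rw [← hsum, add_mul, hGG]; abel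
        rw [pow_succ, h2, add_mul, mul_assoc, hq]; noncomm_ring
  have hγpos : 0 < orderOf γ := orderOf_pos γ
  set m := orderOf γ / p ^ (orderOf γ).factorization p with hm
  set v := (orderOf γ).factorization p
  have hmv : m * p ^ v = orderOf γ := by
    rw [mul_comm]; exact Nat.ordProj_mul_ordCompl_eq_self (orderOf γ) p
  have hpm : ¬ p ∣ m := Nat.not_dvd_ordCompl hpp hγpos.ne'
  set z := γ ^ m with hz
  set N : Matrix ι ι F := (z : Matrix ι ι F) - 1 with hN
  have hzG : (z : Matrix ι ι F) = G ^ m := by rw [hz, Units.val_pow_eq_pow_val]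
  have hzG' : ((z⁻¹ : GL ι F) : Matrix ι ι F) = G' ^ m := by
    rw [hz, ← inv_pow, Units.val_pow_eq_pow_val]
  have hzp : z ^ p ^ v = 1 := by rw [hz, ← pow_mul, hmv, pow_orderOf_eq_one]
  have hnil : ∀ w : GL ι F, w ^ p ^ v = 1 → IsNilpotent ((w : Matrix ι ι F) - 1) := fun w hw =>
    ⟨p ^ v, by rw [← pow_sub_one p, ← Units.val_pow_eq_pow_val, hw, Units.val_one, sub_self]⟩
  obtain ⟨a, ha, b, hb, hab, hab'⟩ := hlin m
  set α := a - 1 with hα0
  have hα : α ∈ cen U X := sub_mem ha (one_mem _)
  have hNab : N = α + b * G := by rw [hN, hzG, hab, hα0]; abel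
  have hN'ab : ((z⁻¹ : GL ι F) : Matrix ι ι F) - 1 = α + b * G' := by rw [hzG', hab', hα0]; abel
  have hNA : N ∈ alg U X := by
    rw [hNab]; exact add_mem (cen_le hα) (mul_mem (cen_le hb) hGA)
  have hNn : IsNilpotent N := hnil z hzp
  have hN'n : IsNilpotent (α + b * G') := hN'ab ▸ hnil z⁻¹ (by rw [inv_pow, hzp, inv_one])
  have hGc : Commute G G' := hGG.trans hG'G.symm
  have hd : IsNilpotent (b * (G - G')) := by
    have hc : Commute N (α + b * G') := by
      rw [hNab]
      exact ((Commute.refl α).add_right ((hcc hα (cen_le hb)).mul_right (hcc hα hG'A))).add_left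
        ((((hcc hb (cen_le hα)).mul_left (hcc hα hGA).symm)).add_right
          (((Commute.refl b).mul_right (hcc hb hG'A)).mul_left ((hcc hb hGA).symm.mul_right hGc)))
    have := hc.isNilpotent_sub hNn hN'n
    rwa [hNab, add_sub_add_left_eq_sub, ← mul_sub] at this
  have hD2 : IsNilpotent (b * b * t * (t + 4)) := by
    have h1 : (b * (G - G')) * (b * (G - G')) = b * b * t * (t + 4) := by
      have h2 : (G - G') * (G - G') = (G + G') * (G + G') - 4 := by
        have : (G - G') * (G - G') = (G + G') * (G + G') - (G * G' + G' * G + (G * G' + G' * G)) := by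
          noncomm_ring
        rw [this, hGG, hG'G]; congr 1; norm_num
      calc (b * (G - G')) * (b * (G - G')) = b * ((G - G') * b) * (G - G') := by noncomm_ring
        _ = b * (b * (G - G')) * (G - G') := by rw [((hcc hb hGA).sub_right (hcc hb hG'A)).eq]
        _ = b * b * ((G - G') * (G - G')) := by noncomm_ring
        _ = _ := by rw [h2, hsum]; noncomm_ring
    rw [← h1]
    exact (Commute.refl _).isNilpotent_mul_right hd
  have h4t : (4 : Matrix ι ι F) ∈ cen U X := ofNat_mem _ 4
  have hbt : IsNilpotent (b * t) := by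
    have hbb : IsNilpotent ((b * t) * (b * t)) := by
      have hre : (b * t) * (b * t) = b * b * t * t := by
        rw [← mul_assoc, mul_assoc b t b, (cen_comm hb (Commute.refl t)).symm.eq, ← mul_assoc]
      rw [hre]
      rcases h4 with h4 | h4
      · have : (4 : Matrix ι ι F) = 0 := by
          rw [← map_ofNat (algebraMap F (Matrix ι ι F)) 4, h4, map_zero]
        rwa [this, add_zero] at hD2
      · have h5 := isNilpotent_of_mul_unit h4 (cen_comm (mul_mem (mul_mem hb hb) th_mem_cen)
          ((Commute.refl t).add_right (cen_comm h4t (Commute.refl t)).symm)) hD2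
        exact (cen_comm (mul_mem (mul_mem hb hb) th_mem_cen) (Commute.refl t)).isNilpotent_mul_right h5
    rw [← pow_two] at hbb
    exact hbb.of_pow
  have hbe : IsNilpotent (b * e) := by
    rw [he, idem_eq, ← mul_assoc]
    exact (cen_comm (mul_mem hb th_mem_cen)
      (((Commute.refl t).pow_right (epow U X - 1)))).isNilpotent_mul_right hbt
  set α' := e * α
  set β' := e * b with hβ'0
  have hα' : α' ∈ cen U X := mul_mem idem_mem hα
  have hβ' : β' ∈ cen U X := mul_mem idem_mem hb
  have hα'e : e * α' = α' := by rw [← mul_assoc, he, idem_mul_idem]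
  have hβ'e : e * β' = β' := by rw [hβ'0, ← mul_assoc, he, idem_mul_idem]
  have hβ'n : IsNilpotent β' := by rw [hβ'0, (hcc idem_mem (cen_le hb)).eq]; exact hbe
  have hα'n : IsNilpotent α' := by
    have h1 : α' = e * N - β' * G := by rw [hNab, hβ'0]; noncomm_ring
    rw [h1]
    refine Commute.isNilpotent_sub ?_ ((hcc idem_mem hNA).isNilpotent_mul_left hNn)
      ((hcc hβ' hGA).isNilpotent_mul_right hβ'n)
    refine (hcc idem_mem (mul_mem (cen_le hβ') hGA)).mul_left
      ((hcc hβ' hNA).symm.mul_right ?_)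
    rw [hNab]
    exact (hcc hα hGA).add_left ((hcc hb hGA).mul_left (Commute.refl G))
  have hG1S : InS U X (G - 1) := by
    have : G - 1 = U + X + U * X := by rw [hG1]; abel
    rw [this]
    exact (InS.left.add InS.right).add (InS.right.left_mul hU hX)
  have hpowS : ∀ i : ℕ, InS U X (G ^ i - 1) := by
    intro i
    induction i with
    | zero => simpa using InS.zero
    | succ i ih =>
      have : G ^ (i + 1) - 1 = (G ^ i - 1) * G + (G - 1) := by rw [pow_succ]; noncomm_ring
      rw [this]
      exact (ih.mul_alg hU hX hGA).add hG1S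
  have hNS : InS U X N := by rw [hN, hzG]; exact hpowS m
  have hNI : InI U X α' β' N := ⟨hNA,
    ⟨1, one_mem _, G, hGA, by rw [← he, hNab, hβ'0, mul_one]; noncomm_ring⟩, N, hNS, rfl⟩
  obtain ⟨Q, hQp, hQle, hQn, hQin⟩ := exists_pSubgroup p hU hX hu hx hα' hβ' hα'n hβ'n
  have huΓ : u ∈ Subgroup.closure ({u, x} : Set (GL ι F)) := Subgroup.subset_closure (Set.mem_insert _ _)
  have hxΓ : x ∈ Subgroup.closure ({u, x} : Set (GL ι F)) :=
    Subgroup.subset_closure (Set.mem_insert_of_mem _ rfl)
  have hzΓ : z ∈ Subgroup.closure ({u, x} : Set (GL ι F)) := pow_mem (mul_mem huΓ hxΓ) m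
  set c := (e * U).rank with hc
  have hc' : (e * X).rank = c := (rank_idem_eq hU hX).symm
  have hee : e * e = e := idem_mul_idem
  set e' := 1 - e with he'
  have he'e' : e' * e' = e' := idem_compl
  have heU : Commute e U := idem_comm_left hU hX
  have heX : Commute e X := idem_comm_right hU hX
  have he'A : ∀ {y : Matrix ι ι F}, y ∈ alg U X → Commute e' y := fun hy => hcc compl_mem hy
  have hsU : (e * U).rank + (e' * U).rank = U.rank := rank_split hee heU
  have hsX : (e * X).rank + (e' * X).rank = X.rank := rank_split hee heX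
  have hGe : e' * (G - 1) ≠ 0 := by
    intro h0
    obtain ⟨w, hw, hcase⟩ := hnd
    have hG1' : G - 1 = U + X + U * X := by rw [hG1]; abel
    rw [hG1'] at h0
    have h1 : e' * (U * X) = 0 := by
      have h2 := congrArg (U * ·) h0
      simp only [mul_zero] at h2
      have h3 : U * (U + X + U * X) = U * X := by
        rw [mul_add, mul_add, hU, ← mul_assoc U U, hU, zero_mul]; abel
      rwa [← mul_assoc, ← (he'A mem_alg_left).eq, mul_assoc, h3] at h2
    have h2 : e' * U + e' * X = 0 := by
      rwa [mul_add, h1, add_zero, mul_add] at h0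
    have hw' : e' *ᵥ w = w := by
      rw [he', sub_mulVec, one_mulVec, he, idem_mulVec_eq_zero hw, sub_zero]
    rcases hcase with ⟨⟨y, hy⟩, hnot⟩ | ⟨⟨y, hy⟩, hnot⟩
    · simp only [mulVecLin_apply] at hy
      refine hnot ⟨-(e' *ᵥ y), ?_⟩
      simp only [mulVecLin_apply]
      rw [mulVec_neg, mulVec_mulVec, ← (he'A mem_alg_right).eq, ← neg_mulVec,
        ← eq_neg_of_add_eq_zero_left h2, ← mulVec_mulVec, hy, hw']
    · simp only [mulVecLin_apply] at hy
      refine hnot ⟨-(e' *ᵥ y), ?_⟩
      simp only [mulVecLin_apply]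
      rw [mulVec_neg, mulVec_mulVec, ← (he'A mem_alg_left).eq, ← neg_mulVec,
        ← eq_neg_of_add_eq_zero_right h2, ← mulVec_mulVec, hy, hw']
  have hne : 0 < (e' * U).rank + (e' * X).rank := by
    rw [Nat.pos_iff_ne_zero]
    intro h0
    obtain ⟨h1, h2⟩ := Nat.add_eq_zero_iff.mp h0
    refine hGe ?_
    have h1' : e' * U = 0 := ran_eq_bot_iff.mp (Submodule.finrank_eq_zero.mp h1)
    have h2' : e' * X = 0 := ran_eq_bot_iff.mp (Submodule.finrank_eq_zero.mp h2)
    rw [show G - 1 = U + X + U * X by rw [hG1]; abel, mul_add, mul_add, h1', h2', ← mul_assoc, h1',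
      zero_mul]
    abel
  have hz1 : z ≠ 1 := by
    intro h1
    set W : Matrix ι ι F := 1 + e' * (G - 1) with hW
    have hWpow : ∀ i : ℕ, W ^ i = 1 + e' * (G ^ i - 1) := by
      intro i
      induction i with
      | zero => simp
      | succ i ih =>
        have h3 : e' * (G ^ i - 1) * (e' * (G - 1)) = e' * ((G ^ i - 1) * (G - 1)) := by
          rw [mul_assoc e', ← mul_assoc (G ^ i - 1) e', ← (he'A (hpowS i).mem_alg).eq, mul_assoc e',
            ← mul_assoc e' e', he'e']
        rw [pow_succ, ih, hW, add_mul, one_mul, mul_add, mul_one, h3, pow_succ G]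
        noncomm_ring
    have hWm : W ^ m = 1 := by
      rw [hWpow, ← hzG, h1, Units.val_one, sub_self, mul_zero, add_zero]
    obtain ⟨j, hj⟩ := hG1S.nilpotent hU hX
    have hWp : W ^ p ^ j = 1 := by
      have h2 := pow_sub_one p W j
      rwa [hW, add_sub_cancel_left, pow_eq_zero_of_le (Nat.lt_pow_self hpp.one_lt).le hj, sub_eq_zero,
        ← hW] at h2
    have hW1 : W = 1 := by
      have := pow_gcd_eq_one.mpr ⟨hWm, hWp⟩
      rwa [(((hpp.coprime_iff_not_dvd.mpr hpm).symm).pow_right j).gcd_eq_one, pow_one] at this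
    exact hGe (by rwa [hW, add_eq_left] at hW1)
  have hsplit : ∀ M : Matrix ι ι F, M.rank ≤ (e * M).rank + (e' * M).rank := fun M => by
    have h1 : M = e * M + e' * M := by rw [he', sub_mul, one_mul, add_sub_cancel]
    calc M.rank = finrank F (ran (e * M + e' * M)) := by rw [← h1]; rfl
      _ ≤ _ := (Submodule.finrank_mono (ran_add_le _ _)).trans (fin_sup_le _ _)
  have hnilp : ∀ M, InI U X α' β' M → (e * M).rank + 2 ≤ 2 * c := by
    rintro M ⟨-, ⟨y, -, y', -, hy⟩, -⟩
    rw [he, hy]
    exact rank_nil_part hU hX hα' hβ' hα'e hβ'e hα'n hβ'n hθ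
  have hNc : (e' * N).rank ≤ (e' * U).rank + (e' * X).rank :=
    (Submodule.finrank_mono (ran_inS hU hX hNS)).trans (fin_sup_le _ _)
  refine ⟨z, Q, hz1, hQin z hzΓ hNI, hQp, hQle, hQn, ?_, ?_, fun huz => ?_⟩
  · have h1 := hnilp N hNI
    have h2 := hsplit N
    rw [← hN]
    omega
  · set M0 := U * N - N * U with hM0
    have hM0I : InI U X α' β' M0 := by
      have h1 := hNI.alg_mul hU hX hα' hβ' mem_alg_left
      have h2 := (hNI.mul_alg hU hX hα' hβ' mem_alg_left).alg_mul hU hX hα' hβ'
        (neg_mem (one_mem (alg U X)))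
      have := h1.add hU hX hα' hβ' h2
      rwa [neg_one_mul, ← sub_eq_add_neg] at this
    have h1 := hnilp M0 hM0I
    have h2 : (e' * M0).rank < (e' * U).rank + (e' * X).rank :=
      lt_of_le_of_lt (Submodule.finrank_mono (ran_bracket hU hX hNS)) (rank_bracket_lt hU hX hne)
    have h3 := hsplit M0
    have h4 : ((u * z * u⁻¹ * z⁻¹ : GL ι F) : Matrix ι ι F) - 1 =
        M0 * (((u⁻¹ : GL ι F) : Matrix ι ι F) * ((z⁻¹ : GL ι F) : Matrix ι ι F)) := by
      have h5 : M0 = (u : Matrix ι ι F) * (z : Matrix ι ι F) - (z : Matrix ι ι F) * (u : Matrix ι ι F) := by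
        rw [hM0, hN, hu]; noncomm_ring
      have h6 : (z : Matrix ι ι F) * (u : Matrix ι ι F) *
          (((u⁻¹ : GL ι F) : Matrix ι ι F) * ((z⁻¹ : GL ι F) : Matrix ι ι F)) = 1 := by
        rw [mul_assoc, ← mul_assoc (u : Matrix ι ι F), Units.mul_inv, one_mul, Units.mul_inv]
      rw [h5, sub_mul, h6]
      simp only [Units.val_mul, mul_assoc]
    have h5 := Matrix.rank_mul_le_left M0
      (((u⁻¹ : GL ι F) : Matrix ι ι F) * ((z⁻¹ : GL ι F) : Matrix ι ι F))
    rw [h4]
    omega
  have hxz : Commute x z := by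
    have hγz : Commute γ z := (Commute.refl γ).pow_right m
    have : x = u⁻¹ * γ := by rw [hγ, inv_mul_cancel_left]
    rw [this]
    exact huz.inv_left.mul_left hγz
  refine ⟨hxz, fun hUN hXN hinj hrk => ?_⟩
  rw [← hN] at hUN hXN ⊢
  have hNU : Commute U N := by
    have h1 : (u : Matrix ι ι F) * (z : Matrix ι ι F) = (z : Matrix ι ι F) * (u : Matrix ι ι F) := by
      rw [← Units.val_mul, huz.eq, Units.val_mul]
    show U * N = N * U
    rw [hu, add_mul, one_mul, mul_add, mul_one] at h1
    rw [hN, mul_sub, mul_one, sub_mul, one_mul, add_left_cancel h1]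
  have hNX : Commute X N := by
    have h1 : (x : Matrix ι ι F) * (z : Matrix ι ι F) = (z : Matrix ι ι F) * (x : Matrix ι ι F) := by
      rw [← Units.val_mul, hxz.eq, Units.val_mul]
    show X * N = N * X
    rw [hx, add_mul, one_mul, mul_add, mul_one] at h1
    rw [hN, mul_sub, mul_one, sub_mul, one_mul, add_left_cancel h1]
  have hl1 : ran (e * X) ≤ mp X (ran (e * U)) := ran_idem_right_le hU hX
  have hl2 : ran (e * U) ≤ mp U (ran (e * X)) := by
    have := ran_idem_right_le hX hU
    rwa [idem_swap hU hX] at this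
  have hNe : e * N = N * e := (hcc idem_mem hNA).eq
  have hbound : (e * N).rank ≤ finrank F (mp N (ran (e * U))) + finrank F (mp N (ran (e * X))) := by
    have h1 : ran (e * N) ≤ mp N (ran (e * U)) ⊔ mp N (ran (e * X)) := by
      rw [hNe, ran_mul, ← Submodule.map_sup]
      exact mp_mono _ (ran_idem_le hU hX)
    exact (Submodule.finrank_mono h1).trans (fin_sup_le _ _)
  have hXU' : finrank F (mp N (ran (e * X))) ≤ finrank F (mp N (ran (e * U))) := by
    refine (Submodule.finrank_mono (mp_mono N hl1)).trans ?_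
    rw [mp_comp, ← hNX.eq, ← mp_comp]
    exact fin_mp_le _ _
  have hUX' : finrank F (mp N (ran (e * U))) ≤ finrank F (mp N (ran (e * X))) := by
    refine (Submodule.finrank_mono (mp_mono N hl2)).trans ?_
    rw [mp_comp, ← hNU.eq, ← mp_comp]
    exact fin_mp_le _ _
  have heUN : finrank F (mp N (ran (e * U))) = (e * (U * N)).rank := by
    rw [← ran_mul, ← mul_assoc, ← hNe, mul_assoc, ← hNU.eq]; rfl
  have heXN : finrank F (mp N (ran (e * X))) = (e * (X * N)).rank := by
    rw [← ran_mul, ← mul_assoc, ← hNe, mul_assoc, ← hNX.eq]; rfl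
  have hsUN := rank_split hee (heU.mul_right (hcc idem_mem hNA))
  have hsXN := rank_split hee (heX.mul_right (hcc idem_mem hNA))
  rw [← he'] at hsUN hsXN
  -- the nilpotent part
  set Ψ := ∑ i ∈ Finset.range m, G ^ i with hΨ
  have hΨS : InS U X (Ψ - (m : Matrix ι ι F)) := by
    have h1 : ∀ k : ℕ, InS U X ((∑ i ∈ Finset.range k, G ^ i) - (k : Matrix ι ι F)) := by
      intro k
      induction k with
      | zero => simpa using InS.zero
      | succ k ih =>
        rw [Finset.sum_range_succ, Nat.cast_succ, add_sub_add_comm]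
        exact ih.add (hpowS k)
    exact h1 m
  set Ψ' : Matrix ι ι F := (m : Matrix ι ι F) + e' * (Ψ - (m : Matrix ι ι F)) with hΨ'
  have hΨu : IsUnit Ψ' := by
    have hm0 : (m : F) ≠ 0 := fun h => hpm ((CharP.cast_eq_zero_iff F p m).mp h)
    have hmu : IsUnit (m : Matrix ι ι F) := by
      rw [← map_natCast (algebraMap F (Matrix ι ι F))]
      exact (isUnit_iff_ne_zero.mpr hm0).map _
    exact (hΨS.nilpotent hU hX).isUnit_add_left_of_commute hmu (Nat.cast_commute m _).symm
  have hNΨ : N = (G - 1) * Ψ := by rw [hN, hzG, hΨ, mul_geom_sum]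
  have heq : e' * (X * N) = e' * (X * U) * ((1 + X) * Ψ') := by
    have h1 : X * (G - 1) = X * U * (1 + X) := by
      rw [hG1, show 1 + U + X + U * X - 1 = U + X + U * X by abel, mul_add, mul_add, hX, mul_add, mul_one,
        mul_assoc, add_zero]
    have h2 : e' * Ψ = e' * Ψ' := by
      rw [hΨ', mul_add, ← mul_assoc e' e', he'e', mul_sub]; abel
    have hXA : X * U * (1 + X) ∈ alg U X :=
      mul_mem (mul_mem mem_alg_right mem_alg_left) (add_mem (one_mem _) mem_alg_right)
    rw [hNΨ, ← mul_assoc X, h1, ← mul_assoc e', (he'A hXA).eq, mul_assoc, h2, ← mul_assoc, ← (he'A hXA).eq]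
    noncomm_ring
  have hr : (e' * (X * N)).rank = (e' * U).rank := by
    have hu1 : IsUnit ((1 + X) * Ψ') := (hx ▸ x.isUnit).mul hΨu
    rw [heq, rank_mul_unit _ hu1, ← mul_assoc, (he'A mem_alg_right).eq, mul_assoc]
    have hker : LinearMap.ker (X * (e' * U)).mulVecLin = LinearMap.ker (e' * U).mulVecLin := by
      ext v
      simp only [LinearMap.mem_ker, mulVecLin_apply, ← mulVec_mulVec]
      refine ⟨fun h => ?_, fun h => by rw [h, mulVec_zero]⟩
      rw [mulVec_mulVec v e' U, (he'A mem_alg_left).eq, ← mulVec_mulVec] at h ⊢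
      exact hinj _ h
    have h1 := LinearMap.finrank_range_add_finrank_ker (X * (e' * U)).mulVecLin
    have h2 := LinearMap.finrank_range_add_finrank_ker (e' * U).mulVecLin
    rw [hker] at h1
    simp only [rank_def, ran] at *
    omega
  have h2 := hsplit N
  omega

end Cfsg.Agent.TU18
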