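import Cfsg.Agent.TU18.Classify
import Cfsg.Agent.TU18.Pair
import Cfsg.Agent.MaxSub.HermStab

/-!
An element outside the tensor stabiliser conjugates some root element into it (helper18).

If not, a Sylow argument together with small elements produced by pairs of root elements gives a
contradiction.
-/

set_option autoImplicit false
set_option linter.unusedSectionVars false

namespace Cfsg.Agent.TU18

open Matrix Cfsg.Agent.MaxSub Cfsg.Agent.TensorMax Module
open scoped Kronecker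

variable {F : Type*} [Field F] [Fintype F] {a b q : ℕ} {σ : F ≃+* F}

/-- A group between the tensor stabiliser and the special unitary group. -/
structure Hyp (σ : F ≃+* F) (M : Subgroup (GL (Fin a × Fin b) F)) : Prop where
  le : M ≤ suT σ a b
  kron : ∀ k, k ∈ Geo.kroneckerSubgroup a b F → k ∈ suT σ a b → k ∈ M

/-- No element outside the tensor stabiliser conjugates a root element into it. -/
structure NoRoot (σ : F ≃+* F) (M : Subgroup (GL (Fin a × Fin b) F)) : Prop where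
  rootB : ∀ h ∈ M, h ∉ Geo.kroneckerSubgroup a b F → ∀ (w : Fin b → F) (t : F), w ≠ 0 →
    hp σ w w = 0 → t ≠ 0 → t + σ t = 0 → h * uB σ a w t * h⁻¹ ∉ Geo.kroneckerSubgroup a b F
  rootA : 3 ≤ a ∧ b < 2 * a → ∀ h ∈ M, h ∉ Geo.kroneckerSubgroup a b F → ∀ (x : Fin a → F) (t : F), x ≠ 0 →
    hp σ x x = 0 → t ≠ 0 → t + σ t = 0 → h * uA σ b x t * h⁻¹ ∉ Geo.kroneckerSubgroup a b F

section Tools

variable {ι : Type} [Fintype ι] [DecidableEq ι]

theorem pow_one_add {x : GL ι F} {X : Matrix ι ι F} (hx : (x : Matrix ι ι F) = 1 + X) (hX : X * X = 0)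
    (n : ℕ) : ((x ^ n : GL ι F) : Matrix ι ι F) = 1 + (n : F) • X := by
  induction n with
  | zero => simp
  | succ n ih =>
    rw [pow_succ, Units.val_mul, ih, hx, Matrix.mul_add, Matrix.mul_one, Matrix.add_mul, Matrix.one_mul,
      Matrix.smul_mul, hX, smul_zero, add_zero, Nat.cast_succ, add_smul, one_smul, add_assoc]

theorem val_inv_one_add {x : GL ι F} {X : Matrix ι ι F} (hx : (x : Matrix ι ι F) = 1 + X)
    (hX : X * X = 0) : ((x⁻¹ : GL ι F) : Matrix ι ι F) = 1 - X := inv_val hX hx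

theorem val_conj_sub_one (g x : GL ι F) :
    ((g * x * g⁻¹ : GL ι F) : Matrix ι ι F) - 1 =
      (g : Matrix ι ι F) * ((x : Matrix ι ι F) - 1) * ((g⁻¹ : GL ι F) : Matrix ι ι F) := by
  rw [Units.val_mul, Units.val_mul, Matrix.mul_sub, Matrix.mul_one, Matrix.sub_mul, Units.mul_inv]

theorem rank_conj_sub_one (g x : GL ι F) :
    (((g * x * g⁻¹ : GL ι F) : Matrix ι ι F) - 1).rank = ((x : Matrix ι ι F) - 1).rank := by
  rw [val_conj_sub_one, rank_mul_unit _ (Units.isUnit _), Matrix.rank_mul_eq_right_of_isUnit_det]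
  exact (Matrix.isUnit_iff_isUnit_det _).mp (Units.isUnit g)

theorem sq_conj (g : GL ι F) {V : Matrix ι ι F} (hV : V * V = 0) :
    (g : Matrix ι ι F) * V * ((g⁻¹ : GL ι F) : Matrix ι ι F) *
      ((g : Matrix ι ι F) * V * ((g⁻¹ : GL ι F) : Matrix ι ι F)) = 0 := by
  simp only [Matrix.mul_assoc]
  rw [← Matrix.mul_assoc ((g⁻¹ : GL ι F) : Matrix ι ι F) (g : Matrix ι ι F), Units.inv_mul,
    Matrix.one_mul, ← Matrix.mul_assoc V V, hV, Matrix.zero_mul, Matrix.mul_zero]

theorem eq_zero_of_mulVec (g : GL ι F) {v : ι → F} (h : (g : Matrix ι ι F) *ᵥ v = 0) : v = 0 := by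
  rw [← inv_mulVec_mulVec g v, h, mulVec_zero]

theorem ksub_right {a b : ℕ} (A : Matrix (Fin a) (Fin a) F) (B C : Matrix (Fin b) (Fin b) F) :
    A ⊗ₖ (B - C) = A ⊗ₖ B - A ⊗ₖ C := Matrix.ext fun _ _ => mul_sub _ _ _

theorem ksub_left {a b : ℕ} (A B : Matrix (Fin a) (Fin a) F) (C : Matrix (Fin b) (Fin b) F) :
    (A - B) ⊗ₖ C = A ⊗ₖ C - B ⊗ₖ C := Matrix.ext fun _ _ => sub_mul _ _ _

theorem conj_mul_conj (g : GL ι F) (A B : Matrix ι ι F) :
    (g : Matrix ι ι F) * A * ((g⁻¹ : GL ι F) : Matrix ι ι F) *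
      ((g : Matrix ι ι F) * B * ((g⁻¹ : GL ι F) : Matrix ι ι F)) =
    (g : Matrix ι ι F) * (A * B) * ((g⁻¹ : GL ι F) : Matrix ι ι F) := by
  simp only [Matrix.mul_assoc]
  rw [← Matrix.mul_assoc ((g⁻¹ : GL ι F) : Matrix ι ι F) (g : Matrix ι ι F), Units.inv_mul, Matrix.one_mul]

theorem mem_ran {A : Matrix ι ι F} {m : ι → F} : m ∈ ran A ↔ ∃ v, A *ᵥ v = m := Iff.rfl

theorem mul_eq_zero_of_comm {N N' : Matrix ι ι F} (hN : N * N = 0) (h1 : N.rank ≤ 1)
    (h1' : N'.rank ≤ 1) (hc : N * N' = N' * N) : N * N' = 0 := by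
  by_contra hne
  have hne' : ran (N * N') ≠ ⊥ := fun h => hne (ran_eq_bot_iff.mp h)
  have hpos := Submodule.one_le_finrank_iff.mpr hne'
  rw [rank_def] at h1 h1'
  have e : ran (N * N') = ran N :=
    Submodule.eq_of_le_of_finrank_le (ran_mul_le _ _) (by omega)
  have hle : ran N ≤ ran N' := by
    rw [← e, hc]
    exact ran_mul_le _ _
  have e' : ran N = ran N' := Submodule.eq_of_le_of_finrank_le hle (by rw [← e]; omega)
  refine hne (ran_eq_bot_iff.mp ?_)
  rw [ran_mul, ← e', ← ran_mul, hN]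
  exact ran_eq_bot_iff.mpr rfl

/-- The fourfold root move. -/
theorem move_formula {U X : Matrix ι ι F} (hU : U * U = 0) (hX : X * X = 0) (k : F) :
    (1 + k • X) * (1 + U) * X * ((1 - U) * (1 - k • X)) * U +
      U * ((1 + k • X) * (1 + U) * X * ((1 - U) * (1 - k • X))) =
      (1 + k • th U X) * (1 + k • th U X) * th U X := by
  have hU' : ∀ A : Matrix ι ι F, U * (U * A) = 0 := fun A => by
    rw [← Matrix.mul_assoc, hU, Matrix.zero_mul]
  have hX' : ∀ A : Matrix ι ι F, X * (X * A) = 0 := fun A => by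
    rw [← Matrix.mul_assoc, hX, Matrix.zero_mul]
  simp only [th, Matrix.add_mul, Matrix.mul_add, Matrix.sub_mul, Matrix.mul_sub, Matrix.smul_mul,
    Matrix.mul_smul, Matrix.one_mul, Matrix.mul_one, Matrix.mul_assoc, hU, hX, hU', hX', smul_zero,
    Matrix.mul_zero, Matrix.zero_mul, sub_zero, zero_sub, add_zero, zero_add, smul_smul, smul_add,
    smul_sub, smul_neg, neg_zero, Matrix.mul_neg, Matrix.neg_mul]
  module

/-- The doubled element satisfies the base condition. -/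
theorem isUnit_two_step {U X : Matrix ι ι F} {k : F} (hk : (4 : F) * k = 1) (h40 : (4 : F) ≠ 0)
    (hnil : IsNilpotent ((1 + k • th U X) * (1 + k • th U X) * th U X)) :
    IsUnit (th U ((2 : F) • X) + 4) := by
  set θ := th U X with hθdef
  have h20 : (2 : F) ≠ 0 := fun h => h40 (by rw [show (4 : F) = 2 * 2 by norm_num, h, mul_zero])
  have hk0 : k ≠ 0 := fun h => by rw [h, mul_zero] at hk; exact zero_ne_one hk
  have hnat : ∀ r : F, algebraMap F (Matrix ι ι F) r = r • 1 := fun r => Algebra.algebraMap_eq_smul_one r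
  have hk4 : k • (θ + 4) = 1 + k • θ := by
    rw [smul_add, add_comm, show (4 : Matrix ι ι F) = (4 : F) • 1 from by rw [← hnat, map_ofNat],
      smul_smul, mul_comm, hk, one_smul]
  have hcm : Commute θ (1 + k • θ) := (Commute.one_right θ).add_right ((Commute.refl θ).smul_right _)
  have e2 : (k • (θ * (θ + 4))) ^ 2 = θ * ((1 + k • θ) * (1 + k • θ) * θ) := by
    rw [← Matrix.mul_smul, hk4, sq, Matrix.mul_assoc, Matrix.mul_assoc (1 + k • θ) (1 + k • θ) θ,
      ← hcm.eq]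
  have hn1 : IsNilpotent (θ * (θ + 4)) := by
    have hn0 : IsNilpotent ((k • (θ * (θ + 4))) ^ 2) := by
      rw [e2]
      exact Commute.isNilpotent_mul_left ((hcm.mul_right hcm).mul_right (Commute.refl θ)) hnil
    obtain ⟨j, hj⟩ := hn0
    refine ⟨2 * j, ?_⟩
    rw [← pow_mul, smul_pow] at hj
    exact (smul_eq_zero.mp hj).resolve_left (pow_ne_zero _ hk0)
  have h4u : IsUnit (4 : Matrix ι ι F) := by
    rw [← map_ofNat (algebraMap F (Matrix ι ι F)) 4]
    exact (Ne.isUnit h40).map _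
  have e3 : (θ + 2) * (θ + 2) = θ * (θ + 4) + 4 := by
    rw [show (4 : Matrix ι ι F) = 1 + 1 + (1 + 1) by norm_num,
      show (2 : Matrix ι ι F) = 1 + 1 by norm_num]
    noncomm_ring
  have hsq : IsUnit ((θ + 2) * (θ + 2)) := by
    rw [e3]
    refine hn1.isUnit_add_right_of_commute h4u ?_
    rw [show (4 : Matrix ι ι F) = algebraMap F (Matrix ι ι F) 4 from (map_ofNat _ 4).symm]
    exact Algebra.commute_algebraMap_right _ _
  have hs : th U ((2 : F) • X) = (2 : F) • θ := by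
    rw [hθdef, th, th, Matrix.mul_smul, Matrix.smul_mul, smul_add]
  have e1 : th U ((2 : F) • X) + 4 = algebraMap F (Matrix ι ι F) 2 * (θ + 2) := by
    rw [hs, ← Algebra.smul_def, smul_add]
    congr 1
    rw [Algebra.smul_def, map_ofNat]
    norm_num
  rw [e1]
  exact ((Ne.isUnit h20).map _).mul ((Commute.refl (θ + 2)).isUnit_mul_iff.mp hsq).1

/-- The idempotent of the moved pair is strictly smaller. -/
theorem idem_lt {U X X' : Matrix ι ι F} {k : F} (hk : (4 : F) * k = 1)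
    (hth : th U X' = (1 + k • th U X) * (1 + k • th U X) * th U X)
    (hun : ¬ IsUnit (th U X + 4)) : (idem U X').rank < (idem U X).rank := by
  set θ := th U X with hθdef
  set P := (1 + k • θ) * (1 + k • θ) with hP
  obtain ⟨v, hv0, hv⟩ : ∃ v : ι → F, v ≠ 0 ∧ (θ + 4) *ᵥ v = 0 := by
    rw [Matrix.isUnit_iff_isUnit_det, isUnit_iff_ne_zero, not_not] at hun
    exact Matrix.exists_mulVec_eq_zero_iff.mpr hun
  have h40 : (4 : F) ≠ 0 := left_ne_zero_of_mul_eq_one hk
  have hθv : θ *ᵥ v = (-4 : F) • v := by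
    have h4 : (4 : Matrix ι ι F) *ᵥ v = (4 : F) • v := by
      rw [show (4 : Matrix ι ι F) = (4 : F) • 1 from by
        rw [← Algebra.algebraMap_eq_smul_one, map_ofNat], smul_mulVec, one_mulVec]
    rw [add_mulVec, h4] at hv
    rw [neg_smul]
    exact eq_neg_of_add_eq_zero_left hv
  have hPv : (1 + k • θ) *ᵥ v = 0 := by
    rw [add_mulVec, one_mulVec, smul_mulVec, hθv, smul_smul, mul_neg, mul_comm k, hk, neg_one_smul,
      add_neg_cancel]
  have hth'v : th U X' *ᵥ v = 0 := by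
    rw [hth, ← mulVec_mulVec, hθv, mulVec_smul, ← mulVec_mulVec, hPv, mulVec_zero, smul_zero]
  -- `v` is in the range of the first idempotent
  set c := (-4 : F) ^ epow U X with hc
  have hc0 : c ≠ 0 := pow_ne_zero _ (neg_ne_zero.mpr h40)
  have hpow : ∀ m : ℕ, θ ^ m *ᵥ v = (-4 : F) ^ m • v := by
    intro m
    induction m with
    | zero => rw [pow_zero, one_mulVec, pow_zero, one_smul]
    | succ m ih => rw [pow_succ, ← mulVec_mulVec, hθv, mulVec_smul, ih, smul_smul, ← pow_succ']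
  have hev : v ∈ ran (idem U X) := mem_ran.mpr ⟨c⁻¹ • v, by
    rw [idem, mulVec_smul, hpow, smul_smul, inv_mul_cancel₀ hc0, one_smul]⟩
  have hev' : v ∉ ran (idem U X') := fun h => by
    obtain ⟨y, hy⟩ := mem_ran.mp h
    have h2 : idem U X' *ᵥ v = v := by rw [← hy, mulVec_mulVec, idem_mul_idem]
    exact hv0 (h2.symm.trans (idem_mulVec_eq_zero hth'v))
  have hcomm : Commute θ P :=
    ((Commute.one_right θ).add_right ((Commute.refl θ).smul_right k)).mul_right
      ((Commute.one_right θ).add_right ((Commute.refl θ).smul_right k))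
  have hidem : ∀ {Y : Matrix ι ι F}, Y * Y = Y → ∀ m : ℕ, 1 ≤ m → Y ^ m = Y := by
    intro Y hY m hm
    induction m with
    | zero => omega
    | succ m ih =>
      rcases Nat.eq_zero_or_pos m with rfl | h
      · rw [zero_add, pow_one]
      · rw [pow_succ, ih h, hY]
  have hle : ran (idem U X') ≤ ran (idem U X) := by
    have e1 : idem U X' = idem U X * P ^ (epow U X' * epow U X) := by
      rw [← hidem (idem_mul_idem (U := U) (X := X')) (epow U X) epow_pos]
      conv_rhs => rw [← hidem (idem_mul_idem (U := U) (X := X)) (epow U X') epow_pos]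
      rw [idem, idem, ← pow_mul, ← pow_mul, hth, hcomm.symm.mul_pow,
        mul_comm (epow U X) (epow U X')]
      exact ((hcomm.pow_pow _ _).eq).symm
    rw [e1]
    exact ran_mul_le _ _
  rw [rank_def, rank_def]
  exact Submodule.finrank_lt_finrank_of_lt (lt_of_le_of_ne hle fun h => hev' (h ▸ hev))

end Tools

variable (S : Ctx q σ) (p : ℕ) [hpp : Fact p.Prime] [hcp : CharP F p]
variable {M : Subgroup (GL (Fin a × Fin b) F)}
include S

theorem uB_one_add {w : Fin b → F} (hw : hp σ w w = 0) (t : F) :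
    (uB σ a w t : Matrix (Fin a × Fin b) (Fin a × Fin b) F) =
      1 + ((uB σ a w t : Matrix (Fin a × Fin b) (Fin a × Fin b) F) - 1) :=
  (add_sub_cancel _ _).symm

theorem uA_sq {x : Fin a → F} (hx : hp σ x x = 0) (t : F) :
    ((uA σ b x t : Matrix (Fin a × Fin b) (Fin a × Fin b) F) - 1) *
      ((uA σ b x t : Matrix (Fin a × Fin b) (Fin a × Fin b) F) - 1) = 0 := by
  rw [uA, ut, kr_coe, Units.val_one, tv_coe (ut_dot (uf S) hx t), Matrix.add_kronecker,
    Matrix.one_kronecker_one, add_sub_cancel_left, ← Matrix.mul_kronecker_mul, vecMulVec_mul_vecMulVec,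
    ut_dot (uf S) hx t]
  simp

theorem uA_sub_mulVec {x : Fin a → F} (hx : hp σ x x = 0) (t : F) (z : Fin a × Fin b → F)
    (r : Fin a × Fin b) :
    (((uA σ b x t : Matrix (Fin a × Fin b) (Fin a × Fin b) F) - 1) *ᵥ z) r =
      x r.1 * (t * hp σ (fun i => z (i, r.2)) x) := by
  rw [uA, ut, kr_coe, Units.val_one, tv_coe (ut_dot (uf S) hx t), Matrix.add_kronecker,
    Matrix.one_kronecker_one, add_sub_cancel_left, hp_rep S]
  simp only [Matrix.mulVec, dotProduct, Fintype.sum_prod_type, Matrix.kroneckerMap_apply,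
    vecMulVec_apply, Matrix.one_apply, hp, Pi.smul_apply, smul_eq_mul, mul_ite, ite_mul, mul_one,
    mul_zero, zero_mul, Finset.sum_ite_eq, Finset.mem_univ, if_true, Finset.mul_sum]
  exact Finset.sum_congr rfl fun i _ => by ring

theorem rank_uA {x : Fin a → F} (hx0 : x ≠ 0) (hx : hp σ x x = 0) {t : F} (ht : t ≠ 0) :
    ((uA σ b x t : Matrix (Fin a × Fin b) (Fin a × Fin b) F) - 1).rank = b := by
  have h := ClMax99.TensorRank.rank_reindex_sub (Equiv.prodComm (Fin b) (Fin a))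
    (uB σ b x t : Matrix (Fin b × Fin a) (Fin b × Fin a) F) 1
  simp only [one_smul] at h
  rw [← sw_uB S]
  exact h.trans (rank_uB S hx0 hx ht)

theorem uA_mem {x : Fin a → F} (hx : hp σ x x = 0) {t : F} (ht : t + σ t = 0) :
    uA σ b x t ∈ suT σ a b :=
  ⟨kr_isom S (ut_mem_isom (uf S) hx ht) (Subgroup.one_mem _), det_kr_eq_one (det_tv _ _) (map_one _)⟩

/-- The subspace of vectors killing every row. -/
def kerC (z : Fin a × Fin b → F) : Submodule F (Fin b → F) :=
  LinearMap.ker (LinearMap.pi fun i => hl (uf S) fun j => z (i, j))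

theorem mem_kerC {z : Fin a × Fin b → F} {w : Fin b → F} :
    w ∈ kerC S z ↔ Cw σ w z = 0 := by
  simp only [kerC, LinearMap.mem_ker, funext_iff, LinearMap.pi_apply, hl_apply, Pi.zero_apply, Cw_apply]
  exact forall_congr' fun i => ⟨hswap_zero (uf S), hswap_zero (uf S)⟩

theorem kerC_finrank (z : Fin a × Fin b → F) : b ≤ finrank F (kerC S z) + a := by
  have h1 := LinearMap.finrank_range_add_finrank_ker
    (LinearMap.pi fun i => hl (uf S) fun j => z (i, j))
  have h2 := Submodule.finrank_le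
    (LinearMap.range (LinearMap.pi fun i => hl (uf S) fun j => z (i, j)))
  rw [finrank_fin_fun] at h1 h2
  rw [kerC]
  omega

theorem kerC_finrank_dep {z : Fin a × Fin b → F} {c : Fin a → F} (hc : c ≠ 0)
    (hz : ∀ j, ∑ i, c i * z (i, j) = 0) : b + 1 ≤ finrank F (kerC S z) + a := by
  set L := LinearMap.pi fun i => hl (uf S) fun j => z (i, j) with hL
  have h1 := LinearMap.finrank_range_add_finrank_ker L
  have hlt : LinearMap.range L < ⊤ := by
    refine lt_top_iff_ne_top.mpr fun htop => ?_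
    obtain ⟨i, hi⟩ := Function.ne_iff.mp hc
    obtain ⟨w, hw⟩ := LinearMap.range_eq_top.mp htop (Pi.single i 1)
    have h0 : ∑ k, σ (c k) * L w k = 0 := by
      simp only [hL, LinearMap.pi_apply, hl_apply, hp, Finset.mul_sum]
      rw [Finset.sum_comm]
      refine Finset.sum_eq_zero fun j _ => ?_
      have := congrArg σ (hz j)
      simp only [map_sum, map_mul, map_zero] at this
      calc ∑ k, σ (c k) * (w j * σ (z (k, j))) = w j * ∑ k, σ (c k) * σ (z (k, j)) := by
            rw [Finset.mul_sum]; exact Finset.sum_congr rfl fun k _ => by ring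
        _ = 0 := by rw [this, mul_zero]
    rw [hw] at h0
    simp [Pi.single_apply] at h0
    exact hi h0
  have h2 := Submodule.finrank_lt_finrank_of_lt hlt
  rw [finrank_top, finrank_fin_fun] at h2
  rw [finrank_fin_fun] at h1
  rw [kerC, ← hL]
  omega

variable (hM : Hyp σ M)
include hM

theorem uB_memM {w : Fin b → F} (hw : hp σ w w = 0) {t : F} (ht : t + σ t = 0) : uB σ a w t ∈ M :=
  hM.kron _ (uB_kron S _ _) (uB_mem S hw ht)

theorem uA_memM {x : Fin a → F} (hx : hp σ x x = 0) {t : F} (ht : t + σ t = 0) : uA σ b x t ∈ M :=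
  hM.kron _ (kr_mem _ _) (uA_mem S hx ht)

variable (hN : NoRoot σ M)
include hN p hpp hcp

/-- A p-subgroup containing a root element lies in the stabiliser. -/
theorem pgroup_le {P : Subgroup (GL (Fin a × Fin b) F)} (hP : IsPGroup p P) (hPM : P ≤ M)
    {w : Fin b → F} (hw0 : w ≠ 0) (hw : hp σ w w = 0) {t : F} (ht0 : t ≠ 0) (ht : t + σ t = 0)
    (hu : uB σ a w t ∈ P) : P ≤ Geo.kroneckerSubgroup a b F := by
  haveI : Group.IsNilpotent P := hP.isNilpotent
  set R := (Geo.kroneckerSubgroup a b F).subgroupOf P with hR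
  by_contra hnot
  have hne : R < ⊤ := lt_top_iff_ne_top.mpr fun h => hnot (Subgroup.subgroupOf_eq_top.mp h)
  obtain ⟨n, hn, hnR⟩ := SetLike.exists_of_lt (Group.normalizerCondition_of_isNilpotent R hne)
  have h1 := (Subgroup.mem_normalizer_iff.mp hn ⟨_, hu⟩).mp (uB_kron S _ _)
  exact hN.rootB _ (hPM n.2) (fun h => hnR h) w t hw0 hw ht0 ht h1

/-- Every p-subgroup can be conjugated into the stabiliser. -/
theorem conj_into (ha : 1 ≤ a) (hb : 2 ≤ b) {Q : Subgroup (GL (Fin a × Fin b) F)} (hQ : IsPGroup p Q)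
    (hQM : Q ≤ M) : ∃ h ∈ M, ∀ γ ∈ Q, h * γ * h⁻¹ ∈ Geo.kroneckerSubgroup a b F := by
  have _ := ha
  obtain ⟨w, -, hw0, hw⟩ := HermStab.exists_iso_mem (uf S) (K := (⊤ : Submodule F (Fin b → F)))
    (by rw [finrank_top, finrank_fin_fun]; exact hb)
  obtain ⟨t, ht0, ht⟩ := exists_skew (uf S (ι := Fin b))
  set u : M := ⟨uB σ a w t, uB_memM S hM hw ht⟩ with hu
  have hup : u ^ p = 1 := Subtype.ext (Units.ext (by
    rw [SubmonoidClass.coe_pow, pow_one_add (uB_one_add S hw t) (uB_sq S hw t), CharP.cast_eq_zero,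
      zero_smul, add_zero]
    rfl))
  have hzp : IsPGroup p (Subgroup.zpowers u) := fun g => ⟨1, Subtype.ext (by
    obtain ⟨i, hi⟩ := Subgroup.mem_zpowers_iff.mp g.2
    rw [pow_one, SubmonoidClass.coe_pow, ← hi, ← zpow_natCast, ← _root_.zpow_mul, mul_comm, _root_.zpow_mul,
      zpow_natCast, hup, _root_.one_zpow]
    rfl)⟩
  obtain ⟨P, hP⟩ := hzp.exists_le_sylow
  have hPK : (P : Subgroup M).map M.subtype ≤ Geo.kroneckerSubgroup a b F :=
    pgroup_le S p hM hN (P.isPGroup'.map _) (Subgroup.map_subtype_le _) hw0 hw ht0 ht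
      ⟨u, hP (Subgroup.mem_zpowers u), rfl⟩
  have hQ' : IsPGroup p (Q.subgroupOf M) := hQ.comap_of_injective _ M.subtype_injective
  obtain ⟨P', hP'⟩ := hQ'.exists_le_sylow
  obtain ⟨m, hm⟩ := MulAction.exists_smul_eq M P' P
  refine ⟨m, m.2, fun γ hγ => ?_⟩
  have h1 : (⟨γ, hQM hγ⟩ : M) ∈ (P' : Subgroup M) := hP' hγ
  have h2 := Subgroup.smul_mem_pointwise_smul _ (MulAut.conj m) _ h1
  rw [← Sylow.pointwise_smul_def, Sylow.smul_def] at *
  have h3 : m * ⟨γ, hQM hγ⟩ * m⁻¹ ∈ (P : Subgroup M) := by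
    rw [← hm]
    exact h2
  exact hPK ⟨_, h3, rfl⟩

/-- A small element in a normalised p-subgroup gives a contradiction. -/
theorem qcontra (ha : 2 ≤ a) (hab : a < b) (hb5 : 4 ≤ b) {w : Fin b → F} (hw0 : w ≠ 0) (hw : hp σ w w = 0) {t : F}
    (ht0 : t ≠ 0) (ht : t + σ t = 0) {x : GL (Fin a × Fin b) F} (hx : x ∈ M)
    (hxK : x ∉ Geo.kroneckerSubgroup a b F) {z : GL (Fin a × Fin b) F}
    {Q : Subgroup (GL (Fin a × Fin b) F)} (hz1 : z ≠ 1) (hzQ : z ∈ Q) (hQp : IsPGroup p Q)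
    (hQ : Q ≤ Subgroup.closure {uB σ a w t, x})
    (hnorm : ∀ h ∈ Subgroup.closure ({uB σ a w t, x} : Set (GL (Fin a × Fin b) F)), ∀ g ∈ Q,
      h * g * h⁻¹ ∈ Q)
    (hr : ((z : Matrix (Fin a × Fin b) (Fin a × Fin b) F) - 1).rank + 2 ≤ 2 * a) : False := by
  have hΓ : Subgroup.closure ({uB σ a w t, x} : Set (GL (Fin a × Fin b) F)) ≤ M :=
    (Subgroup.closure_le M).mpr fun y hy => by
      rcases hy with rfl | rfl
      exacts [uB_memM S hM hw ht, hx]
  have hQM : Q ≤ M := hQ.trans hΓ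
  obtain ⟨h, hh, hhQ⟩ := conj_into S p hM hN (by omega) (by omega) hQp hQM
  set z' := h * z * h⁻¹ with hz'
  have hz'M : z' ∈ M := mul_mem (mul_mem hh (hQM hzQ)) (inv_mem hh)
  obtain ⟨j, hj⟩ := hQp ⟨z, hzQ⟩
  have hj' : z' ^ p ^ j = 1 := by
    have h1 : z ^ p ^ j = 1 := congrArg Subtype.val hj
    rw [hz', conj_pow, h1, mul_one, mul_inv_cancel]
  have hr' := rank_conj_sub_one h z
  rw [← hz'] at hr'
  obtain ⟨hlow, hcl⟩ := classify S p (by omega) hab (hhQ z hzQ) (hM.le hz'M).1 hj'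
    (fun e => hz1 (conj_eq_one_iff.mp e)) (by rw [hr']; omega)
  -- every element of the group moves the root element inside the stabiliser
  have hroot : ∀ γ ∈ Subgroup.closure ({uB σ a w t, x} : Set (GL (Fin a × Fin b) F)),
      h * γ * h⁻¹ ∈ Geo.kroneckerSubgroup a b F := by
    intro γ hγ
    have hmem : (h * γ * h⁻¹) * z' * (h * γ * h⁻¹)⁻¹ ∈ Geo.kroneckerSubgroup a b F := by
      have := hhQ _ (hnorm γ hγ z hzQ)
      rwa [show h * (γ * z * γ⁻¹) * h⁻¹ = (h * γ * h⁻¹) * z' * (h * γ * h⁻¹)⁻¹ by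
        rw [hz']; group] at this
    have hγM : h * γ * h⁻¹ ∈ M := mul_mem (mul_mem hh (hΓ hγ)) (inv_mem hh)
    by_contra hout
    rcases hcl with ⟨w', t', e1, e2, e3, e4, e5⟩ | ⟨x', t', e1, e2, e3, e4, e5⟩ | ⟨h3, -⟩
    · exact hN.rootB _ hγM hout w' t' e1 e2 e3 e4 (e5 ▸ hmem)
    · have h5 : ((z' : GL _ F) : Matrix (Fin a × Fin b) (Fin a × Fin b) F) - 1 = _ := rfl
      rw [hr'] at hlow
      have hb2 : 3 ≤ a ∧ b < 2 * a := by
        have := rank_uA S (b := b) e1 e2 e3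
        rw [← e5, hr'] at this
        omega
      exact hN.rootA hb2 _ hγM hout x' t' e1 e2 e3 e4 (e5 ▸ hmem)
    · rw [hr'] at h3
      omega
  have hhK : h ∈ Geo.kroneckerSubgroup a b F := by
    by_contra hout
    exact hN.rootB h hh hout w t hw0 hw ht0 ht (hroot _ (Subgroup.subset_closure (Or.inl rfl)))
  refine hxK ?_
  have h1 := hroot x (Subgroup.subset_closure (Or.inr rfl))
  have h2 : x = h⁻¹ * (h * x * h⁻¹) * h := by group
  rw [h2]
  exact mul_mem (mul_mem (inv_mem hhK) h1) hhK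

/-- A nilpotent pair gives a contradiction. -/
theorem theta_not_nilpotent (ha : 1 ≤ a) (hb : 1 ≤ b) {w : Fin b → F} (hw0 : w ≠ 0) (hw : hp σ w w = 0) {t : F}
    (ht0 : t ≠ 0) (ht : t + σ t = 0) {x : GL (Fin a × Fin b) F} (hx : x ∈ M)
    (hxK : x ∉ Geo.kroneckerSubgroup a b F)
    (hX : ((x : Matrix (Fin a × Fin b) (Fin a × Fin b) F) - 1) *
      ((x : Matrix (Fin a × Fin b) (Fin a × Fin b) F) - 1) = 0) :
    ¬ IsNilpotent (th ((uB σ a w t : Matrix (Fin a × Fin b) (Fin a × Fin b) F) - 1)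
      ((x : Matrix (Fin a × Fin b) (Fin a × Fin b) F) - 1)) := fun hnil => by
  haveI : Nonempty (Fin a × Fin b) := ⟨(⟨0, ha⟩, ⟨0, hb⟩)⟩
  have hP := isPGroup_of_nilpotent p (uB_sq S hw t) hX (uB_one_add S hw t) (add_sub_cancel _ _).symm hnil
  refine hxK (pgroup_le S p hM hN hP ?_ hw0 hw ht0 ht (Subgroup.subset_closure (Or.inl rfl))
    (Subgroup.subset_closure (Or.inr rfl)))
  exact (Subgroup.closure_le M).mpr fun y hy => by
    rcases hy with rfl | rfl
    exacts [uB_memM S hM hw ht, hx]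

/-- A witnessed pair of root elements of the second kind with the base condition. -/
theorem base_false (ha : 2 ≤ a) (hab : a < b) (hb5 : 4 ≤ b) {w : Fin b → F} (hw0 : w ≠ 0) (hw : hp σ w w = 0)
    {t : F} (ht0 : t ≠ 0) (ht : t + σ t = 0) {x : GL (Fin a × Fin b) F} (hx : x ∈ M)
    (hxK : x ∉ Geo.kroneckerSubgroup a b F) {X : Matrix (Fin a × Fin b) (Fin a × Fin b) F}
    (hxX : (x : Matrix (Fin a × Fin b) (Fin a × Fin b) F) = 1 + X) (hX : X * X = 0) (hXr : X.rank ≤ a)
    {m : Fin a × Fin b → F} (hm : m ∈ LinearMap.range (emb (a := a) w)) (hXm : X *ᵥ m = 0)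
    (hmX : m ∉ ran X)
    (h4 : (4 : F) = 0 ∨
      IsUnit (th ((uB σ a w t : Matrix (Fin a × Fin b) (Fin a × Fin b) F) - 1) X + 4)) : False := by
  have hX' : X = (x : Matrix (Fin a × Fin b) (Fin a × Fin b) F) - 1 := by rw [hxX, add_sub_cancel_left]
  have hθ := theta_not_nilpotent S p hM hN (by omega) (by omega) hw0 hw ht0 ht hx hxK (hX' ▸ hX)
  rw [← hX'] at hθ
  have hmU : m ∈ ran ((uB σ a w t : Matrix (Fin a × Fin b) (Fin a × Fin b) F) - 1) :=
    ran_uB S hw0 hw ht0 ▸ hm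
  have hθm : th ((uB σ a w t : Matrix (Fin a × Fin b) (Fin a × Fin b) F) - 1) X *ᵥ m = 0 := by
    obtain ⟨v, hv⟩ := mem_ran.mp hmU
    have hUm : ((uB σ a w t : Matrix (Fin a × Fin b) (Fin a × Fin b) F) - 1) *ᵥ m = 0 := by
      rw [← hv, mulVec_mulVec, uB_sq S hw t, zero_mulVec]
    rw [th, add_mulVec, ← mulVec_mulVec, ← mulVec_mulVec, hXm, mulVec_zero, hUm, mulVec_zero, add_zero]
  haveI : Nonempty (Fin a × Fin b) := ⟨(⟨0, by omega⟩, ⟨0, by omega⟩)⟩
  obtain ⟨z, Q, hz1, hzQ, hQp, hQ, hnorm, hr, -, -⟩ := exists_small p (uB_sq S hw t) hX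
    (uB_one_add S hw t) hxX hθ ⟨m, hθm, Or.inl ⟨hmU, hmX⟩⟩ h4
  rw [rank_uB S hw0 hw ht0] at hr
  exact qcontra S p hM hN ha hab hb5 hw0 hw ht0 ht hx hxK hz1 hzQ hQp hQ hnorm (by omega)

/-- A witnessed pair of root elements of the second kind. -/
theorem pair_false (ha : 2 ≤ a) (hab : a < b) (hb5 : 4 ≤ b) {w : Fin b → F} (hw0 : w ≠ 0) (hw : hp σ w w = 0)
    {t : F} (ht0 : t ≠ 0) (ht : t + σ t = 0) :
    ∀ (N : ℕ) (g : GL (Fin a × Fin b) F) (v : Fin b → F) (c : F) (m : Fin a × Fin b → F), g ∈ M →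
      g ∉ Geo.kroneckerSubgroup a b F → v ≠ 0 → hp σ v v = 0 → c ≠ 0 → c + σ c = 0 →
      m ∈ LinearMap.range (emb (a := a) w) →
      ((uB σ a v c : Matrix (Fin a × Fin b) (Fin a × Fin b) F) - 1) *ᵥ
        (((g⁻¹ : GL (Fin a × Fin b) F) : Matrix (Fin a × Fin b) (Fin a × Fin b) F) *ᵥ m) = 0 →
      ((g⁻¹ : GL (Fin a × Fin b) F) : Matrix (Fin a × Fin b) (Fin a × Fin b) F) *ᵥ m ∉
        LinearMap.range (emb (a := a) v) →
      (idem ((uB σ a w t : Matrix (Fin a × Fin b) (Fin a × Fin b) F) - 1)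
        (((g * uB σ a v c * g⁻¹ : GL (Fin a × Fin b) F) :
          Matrix (Fin a × Fin b) (Fin a × Fin b) F) - 1)).rank ≤ N → False := by
  intro N
  induction N using Nat.strong_induction_on with
  | _ N ih =>
  intro g v c m hg hgK hv0 hv hc0 hc hm hker hout hN'
  set u := uB σ a w t with hu
  set U := (u : Matrix (Fin a × Fin b) (Fin a × Fin b) F) - 1 with hU
  set x := g * uB σ a v c * g⁻¹ with hxdef
  set X := (x : Matrix (Fin a × Fin b) (Fin a × Fin b) F) - 1 with hXdef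
  have hxK : x ∉ Geo.kroneckerSubgroup a b F := hN.rootB g hg hgK v c hv0 hv hc0 hc
  have hxM : x ∈ M := mul_mem (mul_mem hg (uB_memM S hM hv hc)) (inv_mem hg)
  have hX : X * X = 0 := by rw [hXdef, hxdef, val_conj_sub_one]; exact sq_conj g (uB_sq S hv c)
  have hXr : X.rank = a := by rw [hXdef, hxdef, rank_conj_sub_one, rank_uB S hv0 hv hc0]
  have hXm : X *ᵥ m = 0 := by
    rw [hXdef, hxdef, val_conj_sub_one, ← mulVec_mulVec, ← mulVec_mulVec, hker, mulVec_zero]
  have hmX : m ∉ ran X := fun h => hout (by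
    obtain ⟨y, hy⟩ := mem_ran.mp h
    rw [← hy, hXdef, hxdef, val_conj_sub_one, ← mulVec_mulVec, ← mulVec_mulVec, inv_mulVec_mulVec]
    rw [← ran_uB S hv0 hv hc0]
    exact mem_ran.mpr ⟨_, rfl⟩)
  have hxX : (x : Matrix (Fin a × Fin b) (Fin a × Fin b) F) = 1 + X := (add_sub_cancel _ _).symm
  by_cases h4 : (4 : F) = 0 ∨ IsUnit (th U X + 4)
  · exact base_false S p hM hN ha hab hb5 hw0 hw ht0 ht hxM hxK hxX hX hXr.le hm hXm hmX h4
  push Not at h4
  obtain ⟨h40, hun⟩ := h4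
  obtain ⟨k, hk⟩ : ∃ k : ℕ, (4 : F) * k = 1 := by
    have h4p : ((4 : ℕ) : ZMod p) ≠ 0 := fun h => h40 (by
      have := congrArg (ZMod.castHom (dvd_refl p) F) h
      rwa [map_natCast, map_zero, Nat.cast_ofNat] at this)
    refine ⟨(((4 : ℕ) : ZMod p)⁻¹).val, ?_⟩
    have := congrArg (ZMod.castHom (dvd_refl p) F) (mul_inv_cancel₀ h4p)
    rw [map_mul, map_natCast, map_one, Nat.cast_ofNat] at this
    rwa [ZMod.natCast_val]
  set d := x ^ k * u with hd
  have hdM : d ∈ M := mul_mem (pow_mem hxM k) (uB_memM S hM hw ht)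
  set x4 := (d * g) * uB σ a v c * (d * g)⁻¹ with hx4
  have hx4' : x4 = d * x * d⁻¹ := by rw [hx4, hxdef]; group
  set X4 := (x4 : Matrix (Fin a × Fin b) (Fin a × Fin b) F) - 1 with hX4
  have hU2 : U * U = 0 := uB_sq S hw t
  have hdval : (d : Matrix (Fin a × Fin b) (Fin a × Fin b) F) = (1 + (k : F) • X) * (1 + U) := by
    rw [hd, Units.val_mul, pow_one_add hxX hX, hU, hu, add_sub_cancel]
  have hdinv : ((d⁻¹ : GL (Fin a × Fin b) F) : Matrix (Fin a × Fin b) (Fin a × Fin b) F) =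
      (1 - U) * (1 - (k : F) • X) := by
    rw [hd, _root_.mul_inv_rev, Units.val_mul, val_inv_one_add (uB_one_add S hw t) hU2,
      val_inv_one_add (pow_one_add hxX hX k) (by rw [smul_mul_smul_comm, hX, smul_zero])]
  have hθ4 : th U X4 = (1 + (k : F) • th U X) * (1 + (k : F) • th U X) * th U X := by
    rw [← move_formula hU2 hX, th, hX4, hx4', val_conj_sub_one, hdval, hdinv, ← hXdef, add_comm]
  by_cases hnil : IsNilpotent (th U X4)
  · -- pass to the square of the second element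
    have h20 : (2 : F) ≠ 0 := fun h => h40 (by
      rw [show (4 : F) = 2 * 2 by norm_num, h, mul_zero])
    set x2 := g * uB σ a v (2 * c) * g⁻¹ with hx2
    have hc2 : 2 * c + σ (2 * c) = 0 := by
      rw [map_mul, map_ofNat]
      linear_combination (2 : F) * hc
    have hx2K : x2 ∉ Geo.kroneckerSubgroup a b F :=
      hN.rootB g hg hgK v _ hv0 hv (mul_ne_zero h20 hc0) hc2
    have h2X : (uB σ a v (2 * c) : Matrix (Fin a × Fin b) (Fin a × Fin b) F) - 1 =
        (2 : F) • ((uB σ a v c : Matrix (Fin a × Fin b) (Fin a × Fin b) F) - 1) := by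
      rw [uB_val S hv, uB_val S hv, mul_smul, Matrix.vecMulVec_smul, Matrix.kronecker_smul]
    have hx2X : (x2 : Matrix (Fin a × Fin b) (Fin a × Fin b) F) = 1 + (2 : F) • X := by
      rw [hXdef, hxdef, val_conj_sub_one, ← Matrix.smul_mul, ← Matrix.mul_smul, ← h2X,
        ← val_conj_sub_one, add_sub_cancel]
    have hu2 : IsUnit (th U ((2 : F) • X) + 4) := isUnit_two_step hk h40 (hθ4 ▸ hnil)
    refine base_false S p hM hN ha hab hb5 hw0 hw ht0 ht
      (mul_mem (mul_mem hg (uB_memM S hM hv hc2)) (inv_mem hg)) hx2K hx2X ?_ ?_ hm ?_ ?_ (Or.inr hu2)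
    · rw [smul_mul_smul_comm, hX, smul_zero]
    · refine le_trans ?_ hXr.le
      rw [rank_def, rank_def]
      refine Submodule.finrank_mono ?_
      rintro _ ⟨y, rfl⟩
      exact mem_ran.mpr ⟨(2 : F) • y, by rw [mulVecLin_apply, mulVec_smul, smul_mulVec]⟩
    · rw [smul_mulVec, hXm, smul_zero]
    · intro h
      obtain ⟨y, hy⟩ := mem_ran.mp h
      exact hmX (mem_ran.mpr ⟨(2 : F) • y, by rw [mulVec_smul, ← smul_mulVec, hy]⟩)
  · -- a smaller pair
    have hUm : U *ᵥ m = 0 := by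
      obtain ⟨y, hy⟩ := mem_ran.mp (ran_uB S hw0 hw ht0 ▸ hm : m ∈ ran U)
      rw [← hy, mulVec_mulVec, hU2, zero_mulVec]
    have hdm : (d : Matrix (Fin a × Fin b) (Fin a × Fin b) F) *ᵥ m = m := by
      rw [hdval, ← mulVec_mulVec, add_mulVec 1 U, one_mulVec, hUm, add_zero, add_mulVec, one_mulVec,
        smul_mulVec, hXm, smul_zero, add_zero]
    have hdm' : ((d⁻¹ : GL (Fin a × Fin b) F) : Matrix (Fin a × Fin b) (Fin a × Fin b) F) *ᵥ m = m := by
      conv_lhs => rw [← hdm]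
      exact inv_mulVec_mulVec d m
    have hgi : (((d * g)⁻¹ : GL (Fin a × Fin b) F) : Matrix (Fin a × Fin b) (Fin a × Fin b) F) *ᵥ m =
        ((g⁻¹ : GL (Fin a × Fin b) F) : Matrix (Fin a × Fin b) (Fin a × Fin b) F) *ᵥ m := by
      rw [_root_.mul_inv_rev, Units.val_mul, ← mulVec_mulVec, hdm']
    have hdgM : d * g ∈ M := mul_mem hdM hg
    have hdgK : d * g ∉ Geo.kroneckerSubgroup a b F := by
      intro hK
      refine hnil ⟨1, ?_⟩
      have hx4K : x4 ∈ Geo.kroneckerSubgroup a b F :=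
        mul_mem (mul_mem hK (uB_kron S _ _)) (inv_mem hK)
      have hx4r : X4.rank = a := by rw [hX4, hx4, rank_conj_sub_one, rank_uB S hv0 hv hc0]
      have hx4p : x4 ^ p ^ 1 = 1 := Units.ext (by
        rw [pow_one, pow_one_add (x := x4) (X := X4) (add_sub_cancel _ _).symm (by
          rw [hX4, hx4, val_conj_sub_one]; exact sq_conj _ (uB_sq S hv c)), CharP.cast_eq_zero,
          zero_smul, add_zero]
        rfl)
      have hx41 : x4 ≠ 1 := fun h => by
        rw [hX4, h, Units.val_one, sub_self, Matrix.rank_zero] at hx4r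
        omega
      rcases (classify S p (by omega) hab hx4K (hM.le (mul_mem (mul_mem hdgM (uB_memM S hM hv hc))
          (inv_mem hdgM))).1 hx4p hx41 (by rw [← hX4, hx4r]; omega)).2 with
          ⟨w', t', e1, e2, e3, e4, e5⟩ | ⟨x', t', e1, e2, e3, e4, e5⟩ | ⟨h3, -⟩
      · obtain ⟨y, rfl⟩ := hm
        have hy0 : y ≠ 0 := fun h => hout (by rw [h, map_zero, mulVec_zero]; exact zero_mem _)
        have hz : X4 *ᵥ emb w y = 0 := by
          rw [hX4, hx4, val_conj_sub_one, ← mulVec_mulVec, ← mulVec_mulVec, hgi, hker, mulVec_zero]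
        rw [hX4, e5, uB_sub_mulVec S e2, Cw_emb S, smul_smul] at hz
        have hww' : hp σ w w' = 0 := by
          rcases smul_eq_zero.mp (emb_eq_zero e1 hz) with h | h
          · exact (mul_eq_zero.mp h).resolve_left e3
          · exact absurd h hy0
        rw [pow_one, hX4, e5, hU, hu]
        refine Matrix.toLin'.injective (LinearMap.ext fun z => ?_)
        simp only [th, Matrix.toLin'_apply, add_mulVec, ← mulVec_mulVec, uB_sub_mulVec S hw,
          uB_sub_mulVec S e2, Cw_emb S, hww', hswap_zero (uf S) hww', zero_smul, smul_zero, map_zero,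
          add_zero, LinearMap.zero_apply]
      · have := rank_uA S (b := b) e1 e2 e3
        rw [← e5, ← hX4, hx4r] at this
        omega
      · rw [← hX4, hx4r] at h3
        omega
    have hlt := idem_lt (U := U) (X := X) (X' := X4) (by rw [hk]) hθ4 hun
    exact ih _ (lt_of_lt_of_le hlt hN') (d * g) v c m hdgM hdgK hv0 hv hc0 hc hm
      (by rw [hgi]; exact hker) (by rw [hgi]; exact hout) le_rfl

/-- A pure image gives a contradiction. -/
theorem pure_false (ha : 2 ≤ a) (hab : a < b) (hb : 4 ≤ b) {g : GL (Fin a × Fin b) F} (hg : g ∈ M)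
    (hgK : g ∉ Geo.kroneckerSubgroup a b F) {x₁ x₀ : Fin a → F} {v w : Fin b → F} (hx₀ : x₀ ≠ 0)
    (hv0 : v ≠ 0) (hw0 : w ≠ 0) (hw : hp σ w w = 0)
    (he : (g : Matrix (Fin a × Fin b) (Fin a × Fin b) F) *ᵥ emb v x₁ = emb w x₀) : False := by
  obtain ⟨C, hC⟩ := Submodule.exists_isCompl (Submodule.span F {v})
  have hCd : finrank F C + 1 = b := by
    have := Submodule.finrank_add_eq_of_isCompl hC
    rw [finrank_span_singleton hv0, finrank_fin_fun] at this
    omega
  let L : C →ₗ[F] F := (hl (uf S) v).comp C.subtype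
  have hLd : finrank F C ≤ finrank F (LinearMap.ker L) + 1 := by
    have h1 := LinearMap.finrank_range_add_finrank_ker L
    have h2 := Submodule.finrank_le (LinearMap.range L)
    rw [Module.finrank_self] at h2
    omega
  obtain ⟨v', hv'K, hv'0, hv'⟩ := HermStab.exists_iso_mem (uf S) (K := (LinearMap.ker L).map C.subtype)
    (by rw [← (Submodule.equivMapOfInjective _ C.injective_subtype _).finrank_eq]; omega)
  obtain ⟨⟨c', hc'⟩, hcL, rfl⟩ := hv'K
  simp only [Submodule.subtype_apply] at hv'0 hv' 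
  obtain ⟨t, ht0, ht⟩ := exists_skew (uf S (ι := Fin b))
  refine pair_false S p hM hN ha hab hb hw0 hw ht0 ht _ g c' t (emb w x₀) hg hgK hv'0 hv' ht0 ht ⟨x₀, rfl⟩
    ?_ ?_ le_rfl
  · rw [← he, inv_mulVec_mulVec, uB_sub_mulVec S hv', Cw_emb S,
      hswap_zero (uf S) (show hp σ c' v = 0 from hcL)]
    simp
  · rw [← he, inv_mulVec_mulVec]
    rintro ⟨y, hy⟩
    have hx₁ : x₁ ≠ 0 := fun h => hx₀ (emb_eq_zero hw0 (by rw [← he, h, map_zero, mulVec_zero]))
    obtain ⟨i, hi⟩ := Function.ne_iff.mp hx₁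
    have hy' : c' ∈ Submodule.span F {v} → False := fun hs =>
      hv'0 (Submodule.disjoint_def.mp hC.disjoint _ hs hc')
    have hyi : y i ≠ 0 := fun h => by
      obtain ⟨j, hj⟩ := Function.ne_iff.mp hv0
      have := congrFun hy (i, j)
      simp only [emb_apply, h, zero_mul] at this
      exact mul_ne_zero hi hj this.symm
    refine hy' (Submodule.mem_span_singleton.mpr ⟨x₁ i / y i, funext fun j => ?_⟩)
    have := congrFun hy (i, j)
    simp only [emb_apply] at this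
    simp only [Pi.smul_apply, smul_eq_mul, Submodule.subtype_apply]
    field_simp
    linear_combination -this

/-- A large kernel gives a contradiction. -/
theorem kernel_false (ha : 2 ≤ a) (hab : a < b) (hb : 4 ≤ b) {g : GL (Fin a × Fin b) F} (hg : g ∈ M)
    (hgK : g ∉ Geo.kroneckerSubgroup a b F) {y : Fin a → F} (hy : y ≠ 0) {v : Fin b → F} (hv0 : v ≠ 0)
    (hv : hp σ v v = 0)
    (hk : 2 ≤ finrank F (kerC S
      ((g : Matrix (Fin a × Fin b) (Fin a × Fin b) F) *ᵥ emb v y))) : False := by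
  obtain ⟨w, hwK, hw0, hw⟩ := HermStab.exists_iso_mem (uf S) hk
  rw [mem_kerC S] at hwK
  by_cases hpure : (g : Matrix (Fin a × Fin b) (Fin a × Fin b) F) *ᵥ emb v y ∈
      LinearMap.range (emb (a := a) w)
  · obtain ⟨x₀, hx₀⟩ := hpure
    refine pure_false S p hM hN ha hab hb hg hgK (x₀ := x₀) (fun h => ?_) hv0 hw0 hw hx₀.symm
    rw [h, map_zero] at hx₀
    exact hy (emb_eq_zero hv0 (eq_zero_of_mulVec g hx₀.symm))
  obtain ⟨t, ht0, ht⟩ := exists_skew (uf S (ι := Fin b))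
  refine pair_false S p hM hN ha hab hb hv0 hv ht0 ht _ g⁻¹ w t (emb v y) (inv_mem hg)
    (fun h => hgK (by simpa using inv_mem h)) hw0 hw ht0 ht ⟨y, rfl⟩ ?_ ?_ le_rfl
  · rw [inv_inv, uB_sub_mulVec S hw, hwK, smul_zero, map_zero]
  · rw [inv_inv]
    exact hpure

/-- Injectivity of the second element on the range of the first in a mixed pair. -/
theorem mixed_inj (ha : 2 ≤ a) (hab : a < b) (hb : 4 ≤ b) {g : GL (Fin a × Fin b) F} (hg : g ∈ M)
    (hgK : g ∉ Geo.kroneckerSubgroup a b F) {w : Fin b → F} (hw0 : w ≠ 0) (hw : hp σ w w = 0)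
    {x : Fin a → F} (hx0 : x ≠ 0) (hx : hp σ x x = 0) {c : F} (hc0 : c ≠ 0) (y : Fin a → F)
    (hy : ((uA σ b x c : Matrix (Fin a × Fin b) (Fin a × Fin b) F) - 1) *ᵥ
      (((g⁻¹ : GL (Fin a × Fin b) F) : Matrix (Fin a × Fin b) (Fin a × Fin b) F) *ᵥ emb w y) = 0) :
    y = 0 := by
  by_contra hy0
  refine kernel_false S p hM hN ha hab hb (g := g⁻¹) (inv_mem hg)
    (fun h => hgK (by simpa using inv_mem h)) hy0 hw0 hw ?_
  have := kerC_finrank_dep S (c := fun i => σ (x i))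
    (z := ((g⁻¹ : GL (Fin a × Fin b) F) : Matrix (Fin a × Fin b) (Fin a × Fin b) F) *ᵥ emb w y)
    (fun h => hx0 (funext fun i => σ.injective (by rw [Pi.zero_apply, map_zero]; exact congrFun h i)))
    fun j => by
      obtain ⟨i, hi⟩ := Function.ne_iff.mp hx0
      have := congrFun hy (i, j)
      rw [uA_sub_mulVec S hx, Pi.zero_apply, mul_eq_zero, mul_eq_zero] at this
      refine Eq.trans (Finset.sum_congr rfl fun k _ => mul_comm _ _) ?_
      exact (this.resolve_left hi).resolve_left hc0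
  omega

/-- In a group without a moved root element nothing lies outside the stabiliser. -/
theorem mixed_base (ha : 3 ≤ a) (hab : b = a + 1) {w : Fin b → F} (hw0 : w ≠ 0) (hw : hp σ w w = 0)
    {t : F} (ht0 : t ≠ 0) (ht : t + σ t = 0) {g : GL (Fin a × Fin b) F} (hg : g ∈ M)
    (hgK : g ∉ Geo.kroneckerSubgroup a b F) {x₁ : Fin a → F} (hx0 : x₁ ≠ 0) (hx : hp σ x₁ x₁ = 0)
    {c : F} (hc0 : c ≠ 0) (hc : c + σ c = 0)
    (h4 : (4 : F) = 0 ∨ IsUnit (th ((uB σ a w t : Matrix (Fin a × Fin b) (Fin a × Fin b) F) - 1)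
      (((g * uA σ b x₁ c * g⁻¹ : GL (Fin a × Fin b) F) :
        Matrix (Fin a × Fin b) (Fin a × Fin b) F) - 1) + 4)) : False := by
  set u := uB σ a w t with hu
  set U := (u : Matrix (Fin a × Fin b) (Fin a × Fin b) F) - 1 with hU
  set x := g * uA σ b x₁ c * g⁻¹ with hxdef
  set X := (x : Matrix (Fin a × Fin b) (Fin a × Fin b) F) - 1 with hXdef
  have hxK : x ∉ Geo.kroneckerSubgroup a b F := hN.rootA ⟨by omega, by omega⟩ g hg hgK x₁ c hx0 hx hc0 hc
  have hxM : x ∈ M := mul_mem (mul_mem hg (uA_memM S hM hx hc)) (inv_mem hg)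
  have hU2 : U * U = 0 := uB_sq S hw t
  have hX : X * X = 0 := by rw [hXdef, hxdef, val_conj_sub_one]; exact sq_conj g (uA_sq S hx c)
  have hXr : X.rank = b := by rw [hXdef, hxdef, rank_conj_sub_one, rank_uA S hx0 hx hc0]
  have hUr : U.rank = a := rank_uB S hw0 hw ht0
  have hinj : ∀ v, X *ᵥ (U *ᵥ v) = 0 → U *ᵥ v = 0 := by
    intro v hv
    rw [hU, hu, uB_sub_mulVec S hw] at hv ⊢
    have := mixed_inj S p hM hN (by omega) (by omega) (by omega) hg hgK hw0 hw hx0 hx hc0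
      (t • Cw σ w v) (eq_zero_of_mulVec g (by
        rw [← hv, hXdef, hxdef, val_conj_sub_one, ← mulVec_mulVec, ← mulVec_mulVec]))
    rw [this, map_zero]
  obtain ⟨m, hmX, hmU, hm0⟩ : ∃ m ∈ ran X, U *ᵥ m = 0 ∧ m ≠ 0 := by
    by_contra hno
    push Not at hno
    have hdis : Disjoint (ran X) (LinearMap.ker U.mulVecLin) :=
      Submodule.disjoint_def.mpr fun m h1 h2 => hno m h1 h2
    have h1 := Submodule.finrank_add_finrank_le_of_disjoint hdis
    have h2 := LinearMap.finrank_range_add_finrank_ker U.mulVecLin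
    rw [Module.finrank_fintype_fun_eq_card] at h1 h2
    rw [rank_def] at hXr hUr
    simp only [ran] at hXr hUr h1
    omega
  have hXm : X *ᵥ m = 0 := by
    obtain ⟨v, hv⟩ := mem_ran.mp hmX
    rw [← hv, mulVec_mulVec, hX, zero_mulVec]
  have hθm : th U X *ᵥ m = 0 := by
    rw [th, add_mulVec, ← mulVec_mulVec, ← mulVec_mulVec, hXm, hmU, mulVec_zero, mulVec_zero, add_zero]
  have hmnot : m ∉ ran U := fun h => by
    obtain ⟨v, hv⟩ := mem_ran.mp h
    exact hm0 (hv ▸ hinj v (hv ▸ hXm))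
  have hθ := theta_not_nilpotent S p hM hN (by omega) (by omega) hw0 hw ht0 ht hxM hxK hX
  have hxX : (x : Matrix (Fin a × Fin b) (Fin a × Fin b) F) = 1 + X := (add_sub_cancel _ _).symm
  haveI : Nonempty (Fin a × Fin b) := ⟨(⟨0, by omega⟩, ⟨0, by omega⟩)⟩
  obtain ⟨z, Q, hz1, hzQ, hQp, hQ, hnorm, hr, hr', hcomm⟩ := exists_small p hU2 hX
    (uB_one_add S hw t) hxX hθ ⟨m, hθm, Or.inr ⟨hmX, hmnot⟩⟩ h4
  rw [hUr, hXr] at hr hr'
  have hΓ : Subgroup.closure ({u, x} : Set (GL (Fin a × Fin b) F)) ≤ M :=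
    (Subgroup.closure_le M).mpr fun y hy => by
      rcases hy with rfl | rfl
      exacts [uB_memM S hM hw ht, hxM]
  have hcQ : u * z * u⁻¹ * z⁻¹ ∈ Q :=
    mul_mem (hnorm u (Subgroup.subset_closure (Or.inl rfl)) z hzQ) (inv_mem hzQ)
  by_cases hc1 : u * z * u⁻¹ * z⁻¹ = 1
  swap
  · exact qcontra S p hM hN (by omega) (by omega) (by omega) hw0 hw ht0 ht hxM hxK hc1 hcQ hQp hQ hnorm
      (by rw [hu]; omega)
  have huz : Commute u z := commutatorElement_eq_one_iff_mul_comm.mp hc1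
  obtain ⟨hxz, hsmall⟩ := hcomm huz
  have hzM : z ∈ M := hΓ (hQ hzQ)
  have hzK : z ∈ Geo.kroneckerSubgroup a b F := by
    by_contra hz
    refine hN.rootB z hzM hz w t hw0 hw ht0 ht ?_
    rw [← hu, huz.symm.eq, mul_inv_cancel_right]
    exact uB_kron S w t
  set z' := g⁻¹ * z * g with hz'
  have hz'M : z' ∈ M := mul_mem (mul_mem (inv_mem hg) hzM) hg
  have hz'c : Commute (uA σ b x₁ c) z' := by
    show _ = _
    have : g⁻¹ * (x * z) * g = g⁻¹ * (z * x) * g := by rw [hxz.eq]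
    simpa [hxdef, hz', mul_assoc] using this
  have hz'K : z' ∈ Geo.kroneckerSubgroup a b F := by
    by_contra hz
    refine hN.rootA ⟨by omega, by omega⟩ z' hz'M hz x₁ c hx0 hx hc0 hc ?_
    rw [hz'c.symm.eq, mul_inv_cancel_right]
    exact kr_mem _ _
  obtain ⟨j, hj⟩ := hQp ⟨z, hzQ⟩
  have hj1 : z ^ p ^ j = 1 := congrArg Subtype.val hj
  have hj2 : z' ^ p ^ j = 1 := by
    have := conj_pow (i := p ^ j) (a := g⁻¹) (b := z)
    rw [inv_inv] at this
    rw [hz', this, hj1, mul_one, inv_mul_cancel]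
  have hrz' : ((z' : Matrix (Fin a × Fin b) (Fin a × Fin b) F) - 1).rank =
      ((z : Matrix (Fin a × Fin b) (Fin a × Fin b) F) - 1).rank := by
    have := rank_conj_sub_one g⁻¹ z
    rwa [inv_inv] at this
  have hform : ∀ y : GL (Fin a × Fin b) F, y ∈ Geo.kroneckerSubgroup a b F → y ∈ M → y ^ p ^ j = 1 →
      y ≠ 1 → ((y : Matrix (Fin a × Fin b) (Fin a × Fin b) F) - 1).rank < 2 * a →
      ∃ (G : GL (Fin a) F) (H : GL (Fin b) F), y = kr G H ∧
        ((G : Matrix (Fin a) (Fin a) F) - 1).rank ≤ 1 ∧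
        ((H : Matrix (Fin b) (Fin b) F) - 1).rank ≤ 1 := by
    intro y hyK hyM hyp hy1 hyr
    rcases (classify S p (by omega) (by omega) hyK (hM.le hyM).1 hyp hy1 hyr).2 with
      ⟨w', t', _, e2, _, _, e5⟩ | ⟨x', t', _, e2, _, _, e5⟩ | ⟨-, G, H, e, r1, r2, -⟩
    · refine ⟨1, ut (hp σ) w' t', e5, by simp, ?_⟩
      rw [ut, tv_coe (ut_dot (uf S) e2 t'), add_sub_cancel_left]
      exact rank_vecMulVec_le _ _
    · refine ⟨ut (hp σ) x' t', 1, e5, ?_, by simp⟩
      rw [ut, tv_coe (ut_dot (uf S) e2 t'), add_sub_cancel_left]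
      exact rank_vecMulVec_le _ _
    · exact ⟨G, H, e, r1, r2⟩
  obtain ⟨G, H, hzGH, hG, hH⟩ := hform z hzK hzM hj1 hz1 (by omega)
  obtain ⟨G', H', hz'GH, hG', hH'⟩ := hform z' hz'K hz'M hj2 (fun e => hz1 (by
    have : z = g * z' * g⁻¹ := by rw [hz']; group
    rw [this, e, mul_one, mul_inv_cancel])) (by omega)
  have e1 : (U * ((z : Matrix (Fin a × Fin b) (Fin a × Fin b) F) - 1)).rank ≤ 1 := by
    set N := (ut (hp σ) w t : Matrix (Fin b) (Fin b) F) - 1 with hNdef
    have hN2 : N * N = 0 := by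
      rw [hNdef, ut, tv_coe (ut_dot (uf S) hw t), add_sub_cancel_left, vecMulVec_mul_vecMulVec,
        ut_dot (uf S) hw t]
      simp
    have hN1 : N.rank ≤ 1 := by
      rw [hNdef, ut, tv_coe (ut_dot (uf S) hw t), add_sub_cancel_left]
      exact rank_vecMulVec_le _ _
    have hUN : U = (1 : Matrix (Fin a) (Fin a) F) ⊗ₖ N := by
      rw [hU, hu, uB, kr_coe, Units.val_one, hNdef, ksub_right, Matrix.one_kronecker_one]
    have hc' : U * (z : Matrix (Fin a × Fin b) (Fin a × Fin b) F) = z * U := by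
      rw [hU, sub_mul, mul_sub, one_mul, mul_one, ← Units.val_mul, ← Units.val_mul, huz.eq]
    rw [hUN, hzGH, kr_coe, ← Matrix.mul_kronecker_mul, ← Matrix.mul_kronecker_mul, Matrix.one_mul,
      Matrix.mul_one] at hc'
    have hNH : N * (H : Matrix (Fin b) (Fin b) F) = H * N := by
      obtain ⟨i, k, hik⟩ : ∃ i k, (G : Matrix (Fin a) (Fin a) F) i k ≠ 0 := by
        by_contra h0
        push Not at h0
        haveI : Nonempty (Fin a) := ⟨⟨0, by omega⟩⟩
        exact G.ne_zero (Matrix.ext h0)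
      ext j l
      have := congrFun (congrFun hc' (i, j)) (k, l)
      simp only [Matrix.kroneckerMap_apply] at this
      exact mul_left_cancel₀ hik this
    have h0 : N * ((H : Matrix (Fin b) (Fin b) F) - 1) = 0 :=
      mul_eq_zero_of_comm hN2 hN1 hH (by rw [mul_sub_one, hNH, sub_one_mul])
    rw [Matrix.mul_sub, mul_one, sub_eq_zero] at h0
    have : U * ((z : Matrix (Fin a × Fin b) (Fin a × Fin b) F) - 1) =
        ((G : Matrix (Fin a) (Fin a) F) - 1) ⊗ₖ N := by
      rw [hUN, hzGH, kr_coe, Matrix.mul_sub, ← Matrix.mul_kronecker_mul, Matrix.one_mul, h0,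
        Matrix.mul_one, ksub_left]
    rw [this]
    exact rank_kron_one_le hG hN1
  have e2 : (X * ((z : Matrix (Fin a × Fin b) (Fin a × Fin b) F) - 1)).rank ≤ 1 := by
    set N := (ut (hp σ) x₁ c : Matrix (Fin a) (Fin a) F) - 1 with hNdef
    have hN2 : N * N = 0 := by
      rw [hNdef, ut, tv_coe (ut_dot (uf S) hx c), add_sub_cancel_left, vecMulVec_mul_vecMulVec,
        ut_dot (uf S) hx c]
      simp
    have hN1 : N.rank ≤ 1 := by
      rw [hNdef, ut, tv_coe (ut_dot (uf S) hx c), add_sub_cancel_left]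
      exact rank_vecMulVec_le _ _
    set V := (uA σ b x₁ c : Matrix (Fin a × Fin b) (Fin a × Fin b) F) - 1 with hV
    have hUN : V = N ⊗ₖ (1 : Matrix (Fin b) (Fin b) F) := by
      rw [hV, uA, kr_coe, Units.val_one, hNdef, ksub_left, Matrix.one_kronecker_one]
    have hc' : V * (z' : Matrix (Fin a × Fin b) (Fin a × Fin b) F) = z' * V := by
      rw [hV, sub_mul, mul_sub, one_mul, mul_one, ← Units.val_mul, ← Units.val_mul, hz'c.eq]
    rw [hUN, hz'GH, kr_coe, ← Matrix.mul_kronecker_mul, ← Matrix.mul_kronecker_mul, Matrix.one_mul,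
      Matrix.mul_one] at hc'
    have hNH : N * (G' : Matrix (Fin a) (Fin a) F) = G' * N := by
      obtain ⟨i, k, hik⟩ : ∃ i k, (H' : Matrix (Fin b) (Fin b) F) i k ≠ 0 := by
        by_contra h0
        push Not at h0
        haveI : Nonempty (Fin b) := ⟨⟨0, by omega⟩⟩
        exact H'.ne_zero (Matrix.ext h0)
      ext j l
      have := congrFun (congrFun hc' (j, i)) (l, k)
      simp only [Matrix.kroneckerMap_apply] at this
      exact mul_right_cancel₀ hik this
    have h0 : N * ((G' : Matrix (Fin a) (Fin a) F) - 1) = 0 :=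
      mul_eq_zero_of_comm hN2 hN1 hG' (by rw [mul_sub_one, hNH, sub_one_mul])
    rw [Matrix.mul_sub, mul_one, sub_eq_zero] at h0
    have hz'' : (z : Matrix (Fin a × Fin b) (Fin a × Fin b) F) - 1 =
        ((g * z' * g⁻¹ : GL (Fin a × Fin b) F) : Matrix (Fin a × Fin b) (Fin a × Fin b) F) - 1 := by
      rw [hz']; group
    have : X * ((z : Matrix (Fin a × Fin b) (Fin a × Fin b) F) - 1) =
        (g : Matrix (Fin a × Fin b) (Fin a × Fin b) F) *
          (N ⊗ₖ ((H' : Matrix (Fin b) (Fin b) F) - 1)) *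
          ((g⁻¹ : GL (Fin a × Fin b) F) : Matrix (Fin a × Fin b) (Fin a × Fin b) F) := by
      rw [hz'', hXdef, hxdef, val_conj_sub_one, val_conj_sub_one, ← hV, conj_mul_conj]
      congr 2
      rw [hUN, hz'GH, kr_coe, Matrix.mul_sub, ← Matrix.mul_kronecker_mul, Matrix.one_mul, h0,
        Matrix.mul_one, ksub_right]
    rw [this, rank_mul_unit _ (Units.isUnit _),
      Matrix.rank_mul_eq_right_of_isUnit_det _ _
        ((Matrix.isUnit_iff_isUnit_det _).mp (Units.isUnit g))]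
    exact rank_kron_one_le hN1 hH'
  have h3 := hsmall e1 e2 hinj (by rw [hUr, hXr, hab])
  obtain ⟨hlow, hcl⟩ := classify S p (by omega) (by omega) hzK (hM.le hzM).1 hj1 hz1 (by omega)
  rcases hcl with ⟨w', t', f1, f2, f3, f4, f5⟩ | ⟨x', t', f1, f2, f3, -, f5⟩ | ⟨h6, -⟩
  · refine hN.rootB g⁻¹ (inv_mem hg) (fun h => hgK (by simpa using inv_mem h)) w' t' f1 f2 f3 f4 ?_
    rw [← f5, inv_inv, ← hz']
    exact hz'K
  · have := rank_uA S (b := b) f1 f2 f3
    rw [← f5] at this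
    omega
  · omega

/-- A mixed pair. -/
theorem mixed_false (ha : 3 ≤ a) (hab : b = a + 1) {w : Fin b → F} (hw0 : w ≠ 0) (hw : hp σ w w = 0)
    {t : F} (ht0 : t ≠ 0) (ht : t + σ t = 0) :
    ∀ (N : ℕ) (g : GL (Fin a × Fin b) F) (x₁ : Fin a → F) (c : F), g ∈ M →
      g ∉ Geo.kroneckerSubgroup a b F → x₁ ≠ 0 → hp σ x₁ x₁ = 0 → c ≠ 0 → c + σ c = 0 →
      (idem ((uB σ a w t : Matrix (Fin a × Fin b) (Fin a × Fin b) F) - 1)
        (((g * uA σ b x₁ c * g⁻¹ : GL (Fin a × Fin b) F) :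
          Matrix (Fin a × Fin b) (Fin a × Fin b) F) - 1)).rank ≤ N → False := by
  intro N
  induction N using Nat.strong_induction_on with
  | _ N ih =>
  intro g x₁ c hg hgK hx0 hx hc0 hc hN'
  set u := uB σ a w t with hu
  set U := (u : Matrix (Fin a × Fin b) (Fin a × Fin b) F) - 1 with hU
  set x := g * uA σ b x₁ c * g⁻¹ with hxdef
  set X := (x : Matrix (Fin a × Fin b) (Fin a × Fin b) F) - 1 with hXdef
  have hxM : x ∈ M := mul_mem (mul_mem hg (uA_memM S hM hx hc)) (inv_mem hg)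
  have hX : X * X = 0 := by rw [hXdef, hxdef, val_conj_sub_one]; exact sq_conj g (uA_sq S hx c)
  by_cases h4 : (4 : F) = 0 ∨ IsUnit (th U X + 4)
  · exact mixed_base S p hM hN ha hab hw0 hw ht0 ht hg hgK hx0 hx hc0 hc h4
  push Not at h4
  obtain ⟨h40, hun⟩ := h4
  obtain ⟨k, hk⟩ : ∃ k : ℕ, (4 : F) * k = 1 := by
    have h4p : ((4 : ℕ) : ZMod p) ≠ 0 := fun h => h40 (by
      have := congrArg (ZMod.castHom (dvd_refl p) F) h
      rwa [map_natCast, map_zero, Nat.cast_ofNat] at this)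
    refine ⟨(((4 : ℕ) : ZMod p)⁻¹).val, ?_⟩
    have := congrArg (ZMod.castHom (dvd_refl p) F) (mul_inv_cancel₀ h4p)
    rw [map_mul, map_natCast, map_one, Nat.cast_ofNat] at this
    rwa [ZMod.natCast_val]
  have hxX : (x : Matrix (Fin a × Fin b) (Fin a × Fin b) F) = 1 + X := (add_sub_cancel _ _).symm
  set d := x ^ k * u with hd
  have hdM : d ∈ M := mul_mem (pow_mem hxM k) (uB_memM S hM hw ht)
  set x4 := (d * g) * uA σ b x₁ c * (d * g)⁻¹ with hx4
  have hx4' : x4 = d * x * d⁻¹ := by rw [hx4, hxdef]; group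
  set X4 := (x4 : Matrix (Fin a × Fin b) (Fin a × Fin b) F) - 1 with hX4
  have hU2 : U * U = 0 := uB_sq S hw t
  have hdval : (d : Matrix (Fin a × Fin b) (Fin a × Fin b) F) = (1 + (k : F) • X) * (1 + U) := by
    rw [hd, Units.val_mul, pow_one_add hxX hX, hU, hu, add_sub_cancel]
  have hdinv : ((d⁻¹ : GL (Fin a × Fin b) F) : Matrix (Fin a × Fin b) (Fin a × Fin b) F) =
      (1 - U) * (1 - (k : F) • X) := by
    rw [hd, _root_.mul_inv_rev, Units.val_mul, val_inv_one_add (uB_one_add S hw t) hU2,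
      val_inv_one_add (pow_one_add hxX hX k) (by rw [smul_mul_smul_comm, hX, smul_zero])]
  have hθ4 : th U X4 = (1 + (k : F) • th U X) * (1 + (k : F) • th U X) * th U X := by
    rw [← move_formula hU2 hX, th, hX4, hx4', val_conj_sub_one, hdval, hdinv, ← hXdef, add_comm]
  by_cases hnil : IsNilpotent (th U X4)
  · have h20 : (2 : F) ≠ 0 := fun h => h40 (by
      rw [show (4 : F) = 2 * 2 by norm_num, h, mul_zero])
    have hc2 : 2 * c + σ (2 * c) = 0 := by
      rw [map_mul, map_ofNat]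
      linear_combination (2 : F) * hc
    refine mixed_base S p hM hN ha hab hw0 hw ht0 ht hg hgK hx0 hx (mul_ne_zero h20 hc0) hc2
      (Or.inr ?_)
    have h2X : (uA σ b x₁ (2 * c) : Matrix (Fin a × Fin b) (Fin a × Fin b) F) - 1 =
        (2 : F) • ((uA σ b x₁ c : Matrix (Fin a × Fin b) (Fin a × Fin b) F) - 1) := by
      rw [uA, uA, ut, ut, kr_coe, kr_coe, Units.val_one, tv_coe (ut_dot (uf S) hx _),
        tv_coe (ut_dot (uf S) hx _), Matrix.add_kronecker, Matrix.add_kronecker, Matrix.one_kronecker_one,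
        add_sub_cancel_left, add_sub_cancel_left, mul_smul, Matrix.vecMulVec_smul, Matrix.smul_kronecker]
    rw [val_conj_sub_one, h2X, Matrix.mul_smul, Matrix.smul_mul, ← val_conj_sub_one, ← hxdef, ← hXdef]
    exact isUnit_two_step hk h40 (hθ4 ▸ hnil)
  · have hdgK : d * g ∉ Geo.kroneckerSubgroup a b F := by
      intro hK
      refine hnil ⟨2, ?_⟩
      have hdgM : d * g ∈ M := mul_mem hdM hg
      have hx4K : x4 ∈ Geo.kroneckerSubgroup a b F :=
        mul_mem (mul_mem hK (kr_mem _ _)) (inv_mem hK)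
      have hx4r : X4.rank = b := by rw [hX4, hx4, rank_conj_sub_one, rank_uA S hx0 hx hc0]
      have hX42 : X4 * X4 = 0 := by rw [hX4, hx4, val_conj_sub_one]; exact sq_conj _ (uA_sq S hx c)
      have hx4p : x4 ^ p ^ 1 = 1 := Units.ext (by
        rw [pow_one, pow_one_add (x := x4) (X := X4) (add_sub_cancel _ _).symm hX42,
          CharP.cast_eq_zero, zero_smul, add_zero]
        rfl)
      have hx41 : x4 ≠ 1 := fun h => by
        rw [hX4, h, Units.val_one, sub_self, Matrix.rank_zero] at hx4r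
        omega
      rcases (classify S p (by omega) (by omega) hx4K (hM.le (mul_mem (mul_mem hdgM (uA_memM S hM hx hc))
          (inv_mem hdgM))).1 hx4p hx41 (by rw [← hX4, hx4r]; omega)).2 with
          ⟨w', t', e1, e2, e3, e4, e5⟩ | ⟨x', t', e1, e2, e3, e4, e5⟩ | ⟨h3, -⟩
      · have := rank_uB S (a := a) e1 e2 e3
        rw [← e5, ← hX4, hx4r] at this
        omega
      · have hcomm : U * X4 = X4 * U := by
          rw [hX4, e5, hU, hu, uB, uA, kr_coe, kr_coe, Units.val_one, Units.val_one]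
          simp only [mul_sub, sub_mul, ← Matrix.mul_kronecker_mul, one_mul, mul_one, Matrix.one_mul,
            Matrix.mul_one]
          abel
        rw [th, ← hcomm, sq]
        simp only [Matrix.add_mul, Matrix.mul_add, Matrix.mul_assoc]
        rw [← Matrix.mul_assoc X4 U X4, ← hcomm, Matrix.mul_assoc U X4 X4, hX42]
        simp
      · rw [← hX4, hx4r] at h3
        omega
    have hlt := idem_lt (U := U) (X := X) (X' := X4) (by rw [hk]) hθ4 hun
    exact ih _ (lt_of_lt_of_le hlt hN') (d * g) x₁ c (mul_mem hdM hg) hdgK hx0 hx hc0 hc le_rfl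

/-- Without a moved root element the group is the stabiliser. -/
theorem noRoot_le (ha : 2 ≤ a) (hab : a < b) (hb : 4 ≤ b) :
    M ≤ Geo.kroneckerSubgroup a b F := by
  intro g hg
  by_contra hgK
  by_cases hgap : a + 2 ≤ b
  · obtain ⟨v, -, hv0, hv⟩ := HermStab.exists_iso_mem (uf S) (K := (⊤ : Submodule F (Fin b → F)))
      (by rw [finrank_top, finrank_fin_fun]; omega)
    have := kerC_finrank S
      ((g : Matrix (Fin a × Fin b) (Fin a × Fin b) F) *ᵥ emb v (Pi.single ⟨0, by omega⟩ 1))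
    exact kernel_false S p hM hN ha hab hb hg hgK (y := Pi.single (⟨0, by omega⟩ : Fin a) (1 : F))
      (by simp) hv0 hv (by omega)
  · have hb1 : b = a + 1 := by omega
    have ha4 : 3 ≤ a := by omega
    obtain ⟨w, -, hw0, hw⟩ := HermStab.exists_iso_mem (uf S) (K := (⊤ : Submodule F (Fin b → F)))
      (by rw [finrank_top, finrank_fin_fun]; omega)
    obtain ⟨x, -, hx0, hx⟩ := HermStab.exists_iso_mem (uf S) (K := (⊤ : Submodule F (Fin a → F)))
      (by rw [finrank_top, finrank_fin_fun]; omega)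
    obtain ⟨t, ht0, ht⟩ := exists_skew (uf S (ι := Fin b))
    exact mixed_false S p hM hN ha4 hb1 hw0 hw ht0 ht _ g x t hg hgK hx0 hx ht0 ht le_rfl

end Cfsg.Agent.TU18
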