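import Cfsg.Agent.TU18.Std
import Cfsg.Agent.MaxSub.HermStab

/-!
Centres under a relabelling of the coordinates (helper18).
-/

set_option autoImplicit false
set_option linter.unusedSectionVars false

namespace Cfsg.Agent.TU18

open Matrix Cfsg.Agent.MaxSub

variable {F : Type*} [Field F] [Fintype F] {q : ℕ} {σ : F ≃+* F}
variable {ι κ : Type} [Fintype ι] [DecidableEq ι] [Fintype κ] [DecidableEq κ] (ε : ι ≃ κ)

theorem hp_comp (x y : κ → F) : hp σ (x ∘ ε) (y ∘ ε) = hp σ x y :=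
  Equiv.sum_comp ε fun j => x j * σ (y j)

theorem reindex_mulVec (g : GL ι F) (z : κ → F) :
    (Geo.glReindex ε g : Matrix κ κ F) *ᵥ z = ((g : Matrix ι ι F) *ᵥ (z ∘ ε)) ∘ ε.symm := by
  funext p
  simp only [Matrix.mulVec, dotProduct, Function.comp_apply]
  refine (Fintype.sum_equiv ε _ _ fun r => ?_).symm
  show (g : Matrix ι ι F) (ε.symm p) r * z (ε r) = (g : Matrix ι ι F) (ε.symm p) (ε.symm (ε r)) * z (ε r)
  rw [Equiv.symm_apply_apply]

theorem reindex_isom {g : GL ι F} (hg : g ∈ isom (hp σ)) : Geo.glReindex ε g ∈ isom (hp σ) := by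
  refine mem_isom.mpr fun x y => ?_
  rw [reindex_mulVec, reindex_mulVec, hp_comp ε.symm, mem_isom.mp hg, hp_comp]

theorem reindex_su {g : GL ι F} (hg : g ∈ HermStab.su (hp σ : (ι → F) → (ι → F) → F)) :
    Geo.glReindex ε g ∈ HermStab.su (hp σ : (κ → F) → (κ → F) → F) :=
  ⟨reindex_isom ε hg.1,
    (Units.ext (Matrix.det_reindex_self ε (g : Matrix ι ι F)) :
      Matrix.GeneralLinearGroup.det (Geo.glReindex ε g) = Matrix.GeneralLinearGroup.det g).trans hg.2⟩

variable (S : Ctx q σ)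
include S

theorem centre_reindex {M : Subgroup (GL ι F)} {N : Subgroup (GL κ F)}
    (hMN : ∀ g ∈ M, Geo.glReindex ε g ∈ N) {v : ι → F} (h : HermStab.Centre σ (hp σ) M v) :
    HermStab.Centre σ (hp σ) N (v ∘ ε.symm) := by
  have hv : hp σ (v ∘ ε.symm) (v ∘ ε.symm) = 0 := (hp_comp ε.symm v v).trans h.1
  refine ⟨hv, fun c hc => ?_⟩
  have e : ut (hp σ) (v ∘ ε.symm) c = Geo.glReindex ε (ut (hp σ) v c) := MaxSub.gl_ext fun z => by
    rw [reindex_mulVec, ut_mulVec (uf S) hv, ut_mulVec (uf S) h.1]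
    funext p
    have : hp σ z (v ∘ ε.symm) = hp σ (z ∘ ε) v := by
      rw [← hp_comp ε]
      congr 1
      funext i
      simp
    simp [this]
  rw [e]
  exact hMN _ (h.2 c hc)

end Cfsg.Agent.TU18
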