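import Cfsg.Agent.TU18.Iso
import Cfsg.Agent.TU18.NoL
import Cfsg.Agent.TU18.Transfer
import Cfsg.Agent.UDec18.Merge

/-!
One doubly isotropic centre gives all centres (helper18).
-/

set_option autoImplicit false
set_option linter.unusedSectionVars false

namespace Cfsg.Agent.TU18

open Matrix Cfsg.Agent.MaxSub Cfsg.Agent.TensorMax Module
open scoped Kronecker

variable {F : Type*} [Field F] [Fintype F] {a b n q : ℕ} {σ : F ≃+* F}

local notation:73 g:74 " ◆ " x:73 => (Units.val g) *ᵥ x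

/-- The vector with components `α` at `p` and `β` at `r`. -/
def tp {ι : Type} [DecidableEq ι] (p : ι) (α : F) (r : ι) (β : F) : ι → F :=
  α • Pi.single p 1 + β • Pi.single r 1

theorem emb_single (i : Fin a) (j : Fin b) :
    emb (Pi.single j (1 : F)) (Pi.single i 1 : Fin a → F) = Pi.single (i, j) 1 := by
  funext p
  simp only [emb_apply, Pi.single_apply, Prod.ext_iff]
  split_ifs <;> simp_all

theorem emb_swap (w : Fin b → F) (x : Fin a → F) :
    emb w x ∘ (Equiv.prodComm (Fin a) (Fin b)).symm = emb x w := by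
  funext p
  simp [emb_apply, mul_comm]

variable (S : Ctx q σ)
include S

theorem hp_tp {ι : Type} [Fintype ι] [DecidableEq ι] (x : ι → F) (p : ι) (α : F) (r : ι) (β : F) :
    hp σ x (tp p α r β) = σ α * x p + σ β * x r := by
  rw [tp, hadd_right (uf S), hsmul_right (uf S), hsmul_right (uf S), hp_single_right, hp_single_right]

theorem exists_line_move (hn : 2 ≤ n) {x x' : Fin n → F} (hx0 : x ≠ 0) (hx : hp σ x x = 0)
    (hx'0 : x' ≠ 0) (hx' : hp σ x' x' = 0) :
    ∃ h ∈ HermStab.su (hp σ : (Fin n → F) → (Fin n → F) → F), ∃ c : F, c ≠ 0 ∧ h ◆ x = c • x' := by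
  have _ := hn
  obtain ⟨c, hc0, hc⟩ := exists_skew (uf S (ι := Fin n))
  have one : ∀ {v v' : Fin n → F}, hp σ v v = 0 → hp σ v' v' = 0 → hp σ v v' = c →
      ∃ h ∈ HermStab.su (hp σ : (Fin n → F) → (Fin n → F) → F), h ◆ v = v' := by
    intro v v' hv hv' hvv'
    have hd : hp σ (v' - v) (v' - v) = 0 := by
      rw [hsub_left (uf S), hsub_right (uf S), hsub_right (uf S), hv, hv', hvv', (uf S).herm v' v, hvv']
      linear_combination -hc
    refine ⟨ut (hp σ) (v' - v) c⁻¹, HermStab.ut_mem_su (uf S) hd ?_, ?_⟩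
    · rw [map_inv₀, eq_neg_of_add_eq_zero_right hc, inv_neg, add_neg_cancel]
    · rw [ut_mulVec (uf S) hd, hsub_right (uf S), hv, hvv', sub_zero, inv_mul_cancel₀ hc0, one_smul,
        add_sub_cancel]
  by_cases hne : hp σ x x' = 0
  · by_cases hdep : x ∈ Submodule.span F {x'}
    · obtain ⟨r, rfl⟩ := Submodule.mem_span_singleton.mp hdep
      exact ⟨1, Subgroup.one_mem _, r, fun h => hx0 (by rw [h, zero_smul]), by rw [Units.val_one, one_mulVec]⟩
    have hdep' : x' ∉ Submodule.span F {x} := fun hm => by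
      obtain ⟨r, hr⟩ := Submodule.mem_span_singleton.mp hm
      exact hdep (Submodule.mem_span_singleton.mpr ⟨r⁻¹, by
        rw [← hr, smul_smul, inv_mul_cancel₀ fun h0 => hx'0 (by rw [← hr, h0, zero_smul]), one_smul]⟩)
    obtain ⟨z₁, hz₁, hz₁'⟩ := exists_dual (uf S) hdep
    obtain ⟨z₂, hz₂, hz₂'⟩ := exists_dual (uf S) hdep'
    have e₁ := (hz₁' x' (Submodule.mem_span_singleton_self x')).1
    have e₂ := (hz₂' x (Submodule.mem_span_singleton_self x)).1
    set z := σ c • z₁ + c • z₂ with hz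
    have hzx : hp σ z x = σ c := by
      rw [hz, (uf S).add_left, (uf S).smul_left, (uf S).smul_left, hz₁, e₂]; ring
    have hzx' : hp σ z x' = c := by
      rw [hz, (uf S).add_left, (uf S).smul_left, (uf S).smul_left, hz₂, e₁]; ring
    obtain ⟨t, ht⟩ := exists_trace (uf S (ι := Fin n)) (r := -hp σ z z)
      (by rw [map_neg, ← (uf S).herm])
    set y := z + (t / c) • x with hy
    have hxz : hp σ x z = c := by rw [(uf S).herm, hzx, S.inv]
    have hyy : hp σ y y = 0 := by
      have h1 : t / c * c = t := div_mul_cancel₀ _ hc0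
      rw [hy, (uf S).add_left, hadd_right (uf S) z z, hadd_right (uf S) ((t / c) • x) z,
        (uf S).smul_left (t / c) x z, (uf S).smul_left (t / c) x, hsmul_right (uf S) (t / c) z,
        hsmul_right (uf S) (t / c) x, hzx, hx, hxz, ← map_mul, h1]
      linear_combination ht
    obtain ⟨h₁, hh₁, e1⟩ := one hx hyy (by
      rw [hy, hadd_right (uf S), hsmul_right (uf S), hxz, hx, mul_zero, add_zero])
    obtain ⟨h₂, hh₂, e2⟩ := one hyy hx' (by
      rw [hy, (uf S).add_left, (uf S).smul_left, hzx', hne, mul_zero, add_zero])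
    exact ⟨h₂ * h₁, mul_mem hh₂ hh₁, 1, one_ne_zero,
      by rw [Units.val_mul, ← mulVec_mulVec, e1, e2, one_smul]⟩
  · set r := σ (c / hp σ x x') with hr
    have hr0 : r ≠ 0 := (map_ne_zero σ).mpr (div_ne_zero hc0 hne)
    obtain ⟨h, hh, e⟩ := one hx (v' := r • x')
      (by rw [(uf S).smul_left, hsmul_right (uf S), hx', mul_zero, mul_zero])
      (by rw [hsmul_right (uf S), hr, S.inv, div_mul_cancel₀ _ hne])
    exact ⟨h, hh, r, hr0, e⟩

variable {M : Subgroup (GL (Fin a × Fin b) F)} (hM : Hyp σ M)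

/-- Centres at all tensors of two isotropic vectors. -/
def Base (σ : F ≃+* F) (M : Subgroup (GL (Fin a × Fin b) F)) : Prop :=
  ∀ (x : Fin a → F) (w : Fin b → F), hp σ x x = 0 → hp σ w w = 0 →
    HermStab.Centre σ (hp σ) M (emb w x)

include hM in
theorem base_of_one (ha : 2 ≤ a) (hb : 2 ≤ b) {x₀ : Fin a → F} {w₀ : Fin b → F} (hx₀0 : x₀ ≠ 0)
    (hx₀ : hp σ x₀ x₀ = 0) (hw₀0 : w₀ ≠ 0) (hw₀ : hp σ w₀ w₀ = 0)
    (h : HermStab.Centre σ (hp σ) M (emb w₀ x₀)) : Base σ M := by
  intro x w hx hw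
  by_cases hx0 : x = 0
  · rw [hx0, map_zero]; exact HermStab.centre_zero (uf S)
  by_cases hw0 : w = 0
  · rw [hw0, show emb (0 : Fin b → F) x = 0 from funext fun _ => mul_zero _]
    exact HermStab.centre_zero (uf S)
  obtain ⟨G, hG, c, hc, hGx⟩ := exists_line_move S ha hx₀0 hx₀ hx0 hx
  obtain ⟨H, hH, d, hd, hHw⟩ := exists_line_move S hb hw₀0 hw₀ hw0 hw
  have hk : kr G H ∈ M :=
    hM.kron _ (kr_mem _ _) ⟨kr_isom S hG.1 hH.1, det_kr_eq_one hG.2 hH.2⟩
  have h1 := HermStab.centre_map (uf S) h hk (kr_isom S hG.1 hH.1)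
  rw [kr_emb, hGx, hHw, map_smul, emb_smul, smul_smul] at h1
  have h2 := HermStab.centre_smul (uf S) h1 (c * d)⁻¹
  rwa [smul_smul, inv_mul_cancel₀ (mul_ne_zero hc hd), one_smul] at h2

/-- A tensor with one isotropic factor is a centre in odd characteristic. -/
theorem pure_centre (hb : 2 ≤ b) (h2 : (2 : F) ≠ 0) (hB : Base σ M) {x : Fin a → F}
    (hx : hp σ x x = 0) (h : Fin b → F) : HermStab.Centre σ (hp σ) M (emb h x) := by
  by_cases hh : hp σ h h = 0
  · exact hB x h hx hh
  by_cases hx0 : x = 0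
  · rw [hx0, map_zero]; exact HermStab.centre_zero (uf S)
  obtain ⟨x', hx'x, hxx', hx'⟩ := exists_partner S hx0 hx
  obtain ⟨w, hw, hhw⟩ : ∃ w : Fin b → F, hp σ w w = 0 ∧ hp σ h w = 1 := by
    obtain ⟨w, hw, hne⟩ : ∃ w : Fin b → F, hp σ w w = 0 ∧ hp σ h w ≠ 0 := by
      by_contra hno
      push Not at hno
      refine hh ?_
      have hle := HermStab.le_of_iso_mem (uf S) (U := (⊤ : Submodule F (Fin b → F)))
        (S := LinearMap.ker (hl (uf S) h))
        (fun y _ hy => by_contra fun hy0 => by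
          obtain ⟨z, hz⟩ := ((uf S).nondegenerate y hy0).2
          exact hz (hy z trivial))
        (by rw [finrank_top, finrank_fin_fun]; exact hb)
        (fun z _ hz => hswap_zero (uf S) (hno z hz))
      exact hle (Submodule.mem_top (x := h))
    refine ⟨σ (hp σ h w)⁻¹ • w, by rw [(uf S).smul_left, hsmul_right (uf S), hw, mul_zero, mul_zero], ?_⟩
    rw [hsmul_right (uf S), S.inv, inv_mul_cancel₀ hne]
  set ρ := hp σ h h / 2 with hρ
  have hρr : σ ρ = ρ := by rw [hρ, map_div₀, map_ofNat, ← (uf S).herm]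
  have hρ2 : ρ + ρ = hp σ h h := by rw [hρ]; field_simp; ring
  have hwh : hp σ w h = 1 := by rw [(uf S).herm, hhw, map_one]
  set w₂ := h - ρ • w with hw₂
  have hw₂w : hp σ w₂ w = 1 := by
    rw [hw₂, hsub_left (uf S), (uf S).smul_left, hw, hhw, mul_zero, sub_zero]
  have hw₂₂ : hp σ w₂ w₂ = 0 := by
    rw [hw₂, hsub_left (uf S), hsub_right (uf S), hsub_right (uf S), (uf S).smul_left,
      (uf S).smul_left, hsmul_right (uf S), hsmul_right (uf S), hw, hhw, hwh, hρr]
    linear_combination -hρ2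
  obtain ⟨l, hl0, hl⟩ := exists_skew (uf S (ι := Fin a))
  have hσl : σ l = -l := eq_neg_of_add_eq_zero_right hl
  set y₁ := ρ • x + l • x' with hy₁
  have hxy₁ : hp σ x y₁ = σ l := by
    rw [hy₁, hadd_right (uf S), hsmul_right (uf S), hsmul_right (uf S), hx, hxx', mul_zero, zero_add,
      mul_one]
  have hy₁y₁ : hp σ y₁ y₁ = 0 := by
    rw [hy₁, (uf S).add_left, hadd_right (uf S), hadd_right (uf S), (uf S).smul_left, (uf S).smul_left,
      (uf S).smul_left, (uf S).smul_left, hsmul_right (uf S), hsmul_right (uf S), hsmul_right (uf S),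
      hsmul_right (uf S), hx, hx', hxx', hx'x, hρr, hσl]
    ring
  have hc1 : (σ l)⁻¹ + σ (σ l)⁻¹ = 0 := by
    rw [map_inv₀, S.inv, hσl, inv_neg, neg_add_cancel]
  have h1 := HermStab.centre_move (uf S) (hB y₁ w hy₁y₁ hw) (hB x w₂ hx hw₂₂) hc1
  rw [hp_emb_emb S, hxy₁, hw₂w, mul_one, inv_mul_cancel₀ ((map_ne_zero σ).mpr hl0), one_smul] at h1
  have hnl : -l + σ (-l) = 0 := by rw [map_neg, hσl]; ring
  have h3 := HermStab.centre_move (uf S) (hB x' w hx' hw) h1 hnl
  have hf : hp σ (emb w₂ x + emb w y₁) (emb w x') = 1 := by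
    rw [(uf S).add_left, hp_emb_emb S, hp_emb_emb S, hw, hxx', hw₂w]
    ring
  rw [hf, mul_one] at h3
  convert h3 using 1
  rw [hy₁, hw₂, map_add, map_smul, map_smul, ← emb_smul]
  rw [show h = (h - ρ • w) + ρ • w from (sub_add_cancel _ _).symm, emb_add, add_sub_cancel_right,
    neg_smul]
  abel

omit S in
theorem base_swap {M' : Subgroup (GL (Fin b × Fin a) F)} [hS : Fact (Ctx q σ)]
    (hMM : ∀ g ∈ M, sw a b g ∈ M') (hB : Base σ M) : Base σ M' := fun x w hx hw => by
  rw [← emb_swap (a := a) x w]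
  exact centre_reindex (Equiv.prodComm (Fin a) (Fin b)) hS.out hMM (hB w x hw hx)

include hM

/-- A tensor with isotropic second factor is a centre in odd characteristic. -/
theorem pure_centre' (ha : 2 ≤ a) (h2 : (2 : F) ≠ 0) (hB : Base σ M) {w : Fin b → F}
    (hw : hp σ w w = 0) (y : Fin a → F) : HermStab.Centre σ (hp σ) M (emb w y) := by
  have _ := hM
  haveI : Fact (Ctx q σ) := ⟨S⟩
  have h1 := pure_centre S (M := M.map (sw a b).toMonoidHom) ha h2
    (base_swap (q := q) (fun g hg => ⟨g, hg, rfl⟩) hB) hw y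
  rw [← emb_swap (a := b) y w]
  refine centre_reindex (Equiv.prodComm (Fin b) (Fin a)) S (fun g hg => ?_) h1
  obtain ⟨g', hg', rfl⟩ := hg
  show sw b a (sw a b g') ∈ M
  rw [sw_sw]
  exact hg'

theorem middle (hc2 : (2 : F) = 0) {p m r : Fin a × Fin b} (hpm : p ≠ m) (hmr : m ≠ r) (hpr : p ≠ r)
    {α β : F} (hα : α ≠ 0)
    (h₁ : HermStab.Centre σ (hp σ) M (tp p α m α)) (h₂ : HermStab.Centre σ (hp σ) M (tp m α r β)) :
    HermStab.Centre σ (hp σ) M (tp p α r β) := by
  have _ := hM
  have hN : α * σ α ≠ 0 := mul_ne_zero hα ((map_ne_zero σ).mpr hα)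
  have hc : (α * σ α)⁻¹ + σ (α * σ α)⁻¹ = 0 := by
    rw [map_inv₀, map_mul, S.inv, mul_comm (σ α) α, ← two_mul, hc2, zero_mul]
  have h := HermStab.centre_move (uf S) h₁ h₂ hc
  rw [show hp σ (tp m α r β) (tp p α m α) = α * σ α by
    rw [hp_tp S]
    simp [tp, Pi.single_apply, hpm, hpr, hmr, mul_comm], inv_mul_cancel₀ hN, one_smul] at h
  convert h using 1
  funext i
  simp only [tp, Pi.add_apply, Pi.smul_apply, smul_eq_mul]
  linear_combination -(α * (Pi.single m (1 : F) : Fin a × Fin b → F) i) * hc2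

theorem cross_centre (ha : 2 ≤ a) (hB : Base σ M) {i k : Fin a} {j l : Fin b} (hik : i ≠ k)
    (hjl : j ≠ l) {α β : F} (hαβ : α * σ α + β * σ β = 0) (hβ : β ≠ 0) :
    HermStab.Centre σ (hp σ) M (tp (i, j) α (k, l) β) := by
  classical
  obtain ⟨ν, hν⟩ := exists_norm (uf S (ι := Fin b)) (r := (-1 : F)) (by rw [map_neg, map_one])
  have hν0 : ν ≠ 0 := fun h => by simp [h] at hν
  obtain ⟨ζ, hζ, hζ1, hζm⟩ : ∃ ζ : F, ζ * σ ζ = 1 ∧ ζ ≠ 1 ∧ ζ ≠ -1 := by
    set T := (std (σ := σ) S 1).circ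
    have hne : ((T.erase 1).erase (-1)).Nonempty := by
      rw [← Finset.card_pos]
      have h0 : T.card = q + 1 := (std (σ := σ) S 1).card_circ
      have hq := two_le_q S
      by_cases h2 : (2 : F) = 0
      · have he : (-1 : F) = 1 := by linear_combination -h2
        rw [he, Finset.erase_idem]
        have h1 := Finset.pred_card_le_card_erase (a := (1 : F)) (s := T)
        omega
      · have h1 := Finset.pred_card_le_card_erase (a := (1 : F)) (s := T)
        have h3 := Finset.pred_card_le_card_erase (a := (-1 : F)) (s := T.erase 1)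
        omega
    obtain ⟨ζ, hζ⟩ := hne
    simp only [T, Finset.mem_erase, UDec18.Std.mem_circ] at hζ
    exact ⟨ζ, hζ.2.2, hζ.2.1, hζ.1⟩
  set D := ν * ζ - ν with hD
  have hD0 : D ≠ 0 := by
    rw [hD, show ν * ζ - ν = ν * (ζ - 1) by ring]
    exact mul_ne_zero hν0 (sub_ne_zero.mpr hζ1)
  set w₁ := Pi.single j (1 : F) + ν • (Pi.single l 1 : Fin b → F) with hw₁
  set w₂ := Pi.single j (1 : F) + (ν * ζ) • (Pi.single l 1 : Fin b → F) with hw₂
  set y₁ := (α * (ν * ζ) / D) • (Pi.single i 1 : Fin a → F) + (-β / D) • Pi.single k 1 with hy₁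
  set y₂ := (-α * ν / D) • (Pi.single i 1 : Fin a → F) + (β / D) • Pi.single k 1 with hy₂
  have hww : ∀ r : F, hp σ (Pi.single j (1 : F) + r • (Pi.single l 1 : Fin b → F))
      (Pi.single j (1 : F) + r • (Pi.single l 1 : Fin b → F)) = 1 + r * σ r := fun r => by
    rw [hadd_right (uf S), hsmul_right (uf S), hp_single_right, hp_single_right]
    simp [Pi.single_apply, hjl, hjl.symm, mul_comm]
  have hyy : ∀ r s : F, hp σ (r • (Pi.single i 1 : Fin a → F) + s • Pi.single k 1)
      (r • (Pi.single i 1 : Fin a → F) + s • Pi.single k 1) = r * σ r + s * σ s := fun r s => by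
    rw [hadd_right (uf S), hsmul_right (uf S), hsmul_right (uf S), hp_single_right, hp_single_right]
    simp [Pi.single_apply, hik, hik.symm, mul_comm]
  have hw₁0 : hp σ w₁ w₁ = 0 := by rw [hw₁, hww]; linear_combination hν
  have hw₂0 : hp σ w₂ w₂ = 0 := by
    rw [hw₂, hww, map_mul]; linear_combination (ζ * σ ζ) * hν - hζ
  have hσD : σ D ≠ 0 := (map_ne_zero σ).mpr hD0
  have hy : ∀ (r s : F) (w : Fin b → F), hp σ w w = 0 → r * σ r + s * σ s = 2 * (β * σ β) / (D * σ D) →
      HermStab.Centre σ (hp σ) M (emb w (r • (Pi.single i 1 : Fin a → F) + s • Pi.single k 1)) := by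
    intro r s w hw hrs
    by_cases h2 : (2 : F) = 0
    · refine hB _ w ?_ hw
      rw [hyy, hrs, h2, zero_mul, zero_div]
    · exact pure_centre' S hM ha h2 hB hw _
  have hp1 : HermStab.Centre σ (hp σ) M (emb w₁ y₁) := hy _ _ _ hw₁0 (by
    rw [map_div₀, map_div₀, map_neg, map_mul, map_mul]
    field_simp
    linear_combination (α * σ α * ζ * σ ζ) * hν + (-(α * σ α)) * hζ - hαβ)
  have hp2 : HermStab.Centre σ (hp σ) M (emb w₂ y₂) := hy _ _ _ hw₂0 (by
    rw [map_div₀, map_div₀, map_mul, map_neg]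
    field_simp
    linear_combination (α * σ α) * hν - hαβ)
  -- the inner product
  set f := hp σ (emb w₂ y₂) (emb w₁ y₁) with hf
  have hfv : f = β * σ β * (ζ - σ ζ) / (D * σ D) := by
    rw [hf, hp_emb_emb S, hy₁, hy₂, hw₁, hw₂]
    rw [hadd_right (uf S), hsmul_right (uf S), hsmul_right (uf S), hp_single_right, hp_single_right,
      hadd_right (uf S), hsmul_right (uf S), hp_single_right, hp_single_right]
    simp [Pi.single_apply, hik, hik.symm, hjl, hjl.symm]
    field_simp
    linear_combination (-(α * σ α) * σ ζ - α * σ α * ζ * σ ν * ν * σ ζ - ζ * β * σ β +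
        α * σ α * ζ * σ ζ) * hν +
      (-(α * σ α)) * hζ + (σ ζ - 1) * hαβ
  have hfs : f⁻¹ + σ f⁻¹ = 0 := by
    rw [map_inv₀, show σ f = -f by
      rw [hfv, map_div₀, map_mul, map_mul, map_mul, map_sub, S.inv, S.inv, S.inv]
      field_simp
      ring, inv_neg, add_neg_cancel]
  have hf0 : f ≠ 0 := by
    rw [hfv]
    refine div_ne_zero (mul_ne_zero (mul_ne_zero hβ ((map_ne_zero σ).mpr hβ)) fun h => ?_)
      (mul_ne_zero hD0 hσD)
    have hζσ : σ ζ = ζ := (sub_eq_zero.mp h).symm
    rw [hζσ] at hζ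
    rcases mul_self_eq_one_iff.mp hζ with h' | h'
    exacts [hζ1 h', hζm h']
  have h1 := HermStab.centre_move (uf S) hp1 hp2 hfs
  rw [← hf, inv_mul_cancel₀ hf0, one_smul] at h1
  convert h1 using 1
  rw [tp, ← emb_single, ← emb_single, hw₁, hw₂, hy₁, hy₂]
  funext r
  simp only [Pi.add_apply, Pi.smul_apply, smul_eq_mul, emb_apply, hD]
  field_simp
  ring

theorem roots_all (ha : 2 ≤ a) (hb : 3 ≤ b) (hB : Base σ M) (p r : Fin a × Fin b) (α β : F)
    (hpr : p ≠ r) (hαβ : α * σ α + β * σ β = 0) : HermStab.Centre σ (hp σ) M (tp p α r β) := by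
  obtain ⟨i, j⟩ := p
  obtain ⟨k, l⟩ := r
  by_cases hα : α = 0
  · have hβ : β = 0 := by simpa [hα] using hαβ
    rw [tp, hα, hβ, zero_smul, zero_smul, add_zero]
    exact HermStab.centre_zero (uf S)
  have hβ : β ≠ 0 := fun h => hα (by simpa [h] using hαβ)
  have hcc : ∀ {γ : F}, γ ≠ 0 → (2 : F) = 0 → γ * σ γ + γ * σ γ = 0 := fun _ h2 => by
    rw [← two_mul, h2, zero_mul]
  -- equal first coordinates
  have same : ∀ (i : Fin a) {j l : Fin b} {α β : F}, j ≠ l → α * σ α + β * σ β = 0 → α ≠ 0 → β ≠ 0 →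
      HermStab.Centre σ (hp σ) M (tp (i, j) α (i, l) β) := by
    intro i j l α β hjl hαβ hα hβ
    by_cases h2 : (2 : F) = 0
    · obtain ⟨k, hk⟩ : ∃ k : Fin a, k ≠ i := Fintype.exists_ne_of_one_lt_card (by simp; omega) i
      obtain ⟨m, hmj, hml⟩ : ∃ m : Fin b, m ≠ j ∧ m ≠ l := by
        obtain ⟨m, -, hm⟩ := Finset.exists_mem_notMem_of_card_lt_card (s := ({j, l} : Finset (Fin b)))
          (t := Finset.univ) (lt_of_le_of_lt Finset.card_le_two (by simp; omega))
        simp only [Finset.mem_insert, Finset.mem_singleton, not_or] at hm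
        exact ⟨m, hm⟩
      exact middle S hM h2 (m := (k, m)) (fun h => hk (congrArg Prod.fst h).symm)
        (fun h => hk (congrArg Prod.fst h)) (fun h => hjl (congrArg Prod.snd h)) hα
        (cross_centre S hM ha hB hk.symm hmj.symm (by rw [← two_mul, h2, zero_mul]) hα)
        (cross_centre S hM ha hB hk hml hαβ hβ)
    · have hw : hp σ (α • Pi.single j (1 : F) + β • (Pi.single l 1 : Fin b → F))
          (α • Pi.single j (1 : F) + β • (Pi.single l 1 : Fin b → F)) = 0 := by
        rw [hadd_right (uf S), hsmul_right (uf S), hsmul_right (uf S), hp_single_right, hp_single_right]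
        simp [Pi.single_apply, hjl, hjl.symm]
        linear_combination hαβ
      have := pure_centre' S hM ha h2 hB hw (Pi.single i 1)
      rwa [emb_add, emb_smul, emb_smul, emb_single, emb_single] at this
  by_cases hik : i = k
  · subst hik
    exact same i (fun h => hpr (by rw [h])) hαβ hα hβ
  by_cases hjl : j = l
  · subst hjl
    by_cases h2 : (2 : F) = 0
    · obtain ⟨m, hm⟩ : ∃ m : Fin b, m ≠ j := Fintype.exists_ne_of_one_lt_card (by simp; omega) j
      exact middle S hM h2 (m := (i, m)) (fun h => hm (congrArg Prod.snd h).symm)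
        (fun h => hik (congrArg Prod.fst h)) hpr hα (same i hm.symm (hcc hα h2) hα hα)
        (cross_centre S hM ha hB hik hm hαβ hβ)
    · have hx : hp σ (α • Pi.single i (1 : F) + β • (Pi.single k 1 : Fin a → F))
          (α • Pi.single i (1 : F) + β • (Pi.single k 1 : Fin a → F)) = 0 := by
        rw [hadd_right (uf S), hsmul_right (uf S), hsmul_right (uf S), hp_single_right, hp_single_right]
        simp [Pi.single_apply, hik, Ne.symm hik]
        linear_combination hαβ
      have := pure_centre S (by omega) h2 hB hx (Pi.single j 1)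
      rwa [map_add, map_smul, map_smul, emb_single, emb_single] at this
  · exact cross_centre S hM ha hB hik hjl hαβ hβ

omit hM in
/-- One centre of weight four gives all of them over the field with four elements. -/
theorem four_of_one (h2 : q = 2) {m : ℕ} (hm : 5 ≤ m) {N : Subgroup (GL (Fin m) F)}
    (hR : UDec18.Roots σ (hp σ) N) {v₀ : Fin m → F} (hv₀ : HermStab.Centre σ (hp σ) N v₀)
    (h40 : (UDec18.sp v₀).card = 4) :
    ∀ u : Fin m → F, (UDec18.sp u).card = 4 → HermStab.Centre σ (hp σ) N u := by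
  classical
  have St := std (σ := σ) S m
  have hc2 := UDec18.two_char St h2
  have hnorm : ∀ x : F, x ≠ 0 → x * σ x = 1 := fun x hx => UDec18.norm_two St h2 hx
  have hneg : ∀ x : F, -x = x := fun x => by linear_combination -x * hc2
  -- monomial moves
  have move : ∀ (v : Fin m → F), HermStab.Centre σ (hp σ) N v → ∀ (a b : Fin m) (ξ : F), a ≠ b →
      ξ * σ ξ = 1 → ∃ v', HermStab.Centre σ (hp σ) N v' ∧ v' a = σ ξ * v b ∧ v' b = ξ * v a ∧
        (∀ i, i ≠ a → i ≠ b → v' i = v i) ∧ (UDec18.sp v').card = (UDec18.sp v).card := by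
    intro v hv a b ξ hab hξ
    have hξ' : ξ * σ ξ = -1 := by rw [hξ, hneg]
    obtain ⟨k, hk, hki, he, hka, hkb⟩ := UDec18.root_move St hR hab hξ'
      (c := 1) (by rw [map_one]; linear_combination hc2) v
    have e1 : (k ◆ v) a = σ ξ * v b := by rw [hka]; linear_combination (v a) * hc2
    have e2 : (k ◆ v) b = ξ * v a := by rw [hkb]; linear_combination (v b) * hξ + (v b) * hc2
    refine ⟨_, HermStab.centre_map St.uf hv hk hki, e1, e2, he, ?_⟩
    have hξ0 : ξ ≠ 0 := fun h => by simp [h] at hξ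
    refine Finset.card_bij (fun i _ => Equiv.swap a b i) (fun i hi => ?_)
      (fun i _ j _ h => (Equiv.swap a b).injective h) fun i hi => ⟨Equiv.swap a b i, ?_, by simp⟩
    · rw [UDec18.mem_sp] at hi ⊢
      rcases eq_or_ne i a with rfl | h1
      · rw [Equiv.swap_apply_left]
        intro h0; exact hi (by rw [e1, h0, mul_zero])
      rcases eq_or_ne i b with rfl | h2
      · rw [Equiv.swap_apply_right]
        intro h0; exact hi (by rw [e2, h0, mul_zero])
      rwa [Equiv.swap_apply_of_ne_of_ne h1 h2, ← he i h1 h2]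
    · rw [UDec18.mem_sp] at hi ⊢
      rcases eq_or_ne i a with rfl | h1
      · rw [Equiv.swap_apply_left, e2]; exact mul_ne_zero hξ0 hi
      rcases eq_or_ne i b with rfl | h2
      · rw [Equiv.swap_apply_right, e1]; exact mul_ne_zero ((map_ne_zero σ).mpr hξ0) hi
      rwa [Equiv.swap_apply_of_ne_of_ne h1 h2, he i h1 h2]
  intro u hu
  suffices ∀ (d : ℕ) (v : Fin m → F), HermStab.Centre σ (hp σ) N v → (UDec18.sp v).card = 4 →
      (Finset.univ.filter fun i => u i ≠ v i).card ≤ d → HermStab.Centre σ (hp σ) N u from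
    this _ v₀ hv₀ h40 le_rfl
  intro d
  induction d using Nat.strong_induction_on with
  | _ d ih =>
  intro v hv h4 hd
  by_cases hdiff : u = v
  · rwa [hdiff]
  obtain ⟨a, ha⟩ := Function.ne_iff.mp hdiff
  -- first a move from outside the support
  have hA : ∀ (v : Fin m → F) (a o : Fin m), HermStab.Centre σ (hp σ) N v → (UDec18.sp v).card = 4 →
      v a = 0 → v o ≠ 0 → u o = 0 → u a ≠ 0 →
      ∃ v', HermStab.Centre σ (hp σ) N v' ∧ (UDec18.sp v').card = 4 ∧ v' a = u a ∧ v' o = 0 ∧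
        ∀ i, i ≠ a → i ≠ o → v' i = v i := by
    intro v a o hv h4 hva hvo huo hua
    have hao : a ≠ o := fun h => hvo (h ▸ hva)
    have hq1 : (u a / v o) * σ (u a / v o) = 1 := hnorm _ (div_ne_zero hua hvo)
    obtain ⟨v', hv', e1, e2, e3, e4⟩ := move v hv a o (σ (u a / v o)) hao
      (by rw [S.inv, mul_comm]; exact hq1)
    exact ⟨v', hv', e4.trans h4, by rw [e1, S.inv, div_mul_cancel₀ _ hvo], by rw [e2, hva, mul_zero], e3⟩
  have finish : ∀ v' : Fin m → F, HermStab.Centre σ (hp σ) N v' → (UDec18.sp v').card = 4 →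
      ∀ c, u c ≠ v c → v' c = u c → (∀ i, u i = v i → v' i = u i) → HermStab.Centre σ (hp σ) N u := by
    intro v' hv' h4' c hc hc' hkeep
    refine ih _ (lt_of_lt_of_le (Finset.card_lt_card ⟨fun i hi => ?_, fun hsub => ?_⟩) hd) v' hv' h4' le_rfl
    · simp only [Finset.mem_filter, Finset.mem_univ, true_and] at hi ⊢
      exact fun h => hi (hkeep i h).symm
    · have := hsub (by simp [hc] : c ∈ Finset.univ.filter fun i => u i ≠ v i)
      simp only [Finset.mem_filter, Finset.mem_univ, true_and] at this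
      exact this hc'.symm
  by_cases hsupp : UDec18.sp u = UDec18.sp v
  · have hsame : ∀ i, u i = 0 ↔ v i = 0 := fun i => by
      have h1 : i ∈ UDec18.sp u ↔ i ∈ UDec18.sp v := by rw [hsupp]
      simpa using not_congr h1
    have hua : u a ≠ 0 := fun h => ha (by rw [h, (hsame a).mp h])
    have hva : v a ≠ 0 := fun h => hua ((hsame a).mpr h)
    obtain ⟨o, -, ho⟩ := Finset.exists_mem_notMem_of_card_lt_card (s := UDec18.sp v)
      (t := Finset.univ) (by simp; omega)
    rw [UDec18.mem_sp, not_not] at ho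
    have hao : a ≠ o := fun h => hva (h ▸ ho)
    obtain ⟨v', hv', e1, e2, e3, e4⟩ := move v hv a o 1 hao (by simp)
    rw [ho, map_one, mul_zero] at e1
    rw [one_mul] at e2
    obtain ⟨v'', hv'', g4, g1, g2, g3⟩ := hA v' a o hv' (e4.trans h4) e1 (by rw [e2]; exact hva)
      ((hsame o).mpr ho) hua
    refine finish v'' hv'' g4 a ha g1 fun i hi => ?_
    rcases eq_or_ne i a with rfl | h1
    · exact g1
    rcases eq_or_ne i o with rfl | h2
    · rw [g2, (hsame _).mpr ho]
    rw [g3 i h1 h2, e3 i h1 h2, hi]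
  · obtain ⟨c, hcu, hcv⟩ := Finset.not_subset.mp fun hsub =>
      hsupp (Finset.eq_of_subset_of_card_le hsub (by rw [hu, h4]))
    obtain ⟨o, hov, hou⟩ := Finset.not_subset.mp fun hsub : UDec18.sp v ⊆ UDec18.sp u =>
      hsupp (Finset.eq_of_subset_of_card_le hsub (by rw [hu, h4])).symm
    rw [UDec18.mem_sp] at hcu hov
    rw [UDec18.mem_sp, not_not] at hcv hou
    obtain ⟨v', hv', g4, g1, g2, g3⟩ := hA v c o hv h4 hcv hov hou hcu
    refine finish v' hv' g4 c (by rw [hcv]; exact hcu) g1 fun i hi => ?_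
    rcases eq_or_ne i c with rfl | h1
    · exact g1
    rcases eq_or_ne i o with rfl | h2
    · rw [g2, hou]
    rw [g3 i h1 h2, hi]

/-- All isotropic vectors are centres. -/
theorem all_centres (ha : 2 ≤ a) (hb : 3 ≤ b) (hB : Base σ M) :
    ∀ v : Fin a × Fin b → F, hp σ v v = 0 → HermStab.Centre σ (hp σ) M v := by
  classical
  set ε : Fin a × Fin b ≃ Fin (a * b) := finProdFinEquiv
  set T := (Geo.glReindex ε : GL (Fin a × Fin b) F ≃* GL (Fin (a * b)) F)
  have hto : ∀ g ∈ M, T g ∈ M.map T.toMonoidHom := fun g hg => ⟨g, hg, rfl⟩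
  have St := std (σ := σ) S (a * b)
  have hR : UDec18.Roots σ (hp σ) (M.map T.toMonoidHom) := by
    intro p r α β hpr hαβ
    have h := centre_reindex ε S hto (roots_all S hM ha hb hB (ε.symm p) (ε.symm r) α β
      (fun h => hpr (ε.symm.injective h)) hαβ)
    convert h using 1
    funext i
    simp [UDec18.two, tp, UDec18.e, Pi.single_apply, ε.symm.injective.eq_iff]
  have h4 : q = 2 → ∀ u : Fin (a * b) → F, hp σ u u = 0 → (UDec18.sp u).card = 4 →
      HermStab.Centre σ (hp σ) (M.map T.toMonoidHom) u := by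
    intro h2 u _ hu
    have hc2 := UDec18.two_char St h2
    have h5 : 5 ≤ a * b := le_trans (by norm_num : 5 ≤ 2 * 3) (Nat.mul_le_mul ha hb)
    set i₀ : Fin a := ⟨0, by omega⟩
    set i₁ : Fin a := ⟨1, by omega⟩
    set j₀ : Fin b := ⟨0, by omega⟩
    set j₁ : Fin b := ⟨1, by omega⟩
    have hi : i₀ ≠ i₁ := by simp [i₀, i₁, Fin.ext_iff]
    have hj : j₀ ≠ j₁ := by simp [j₀, j₁, Fin.ext_iff]
    set x := Pi.single i₀ (1 : F) + (Pi.single i₁ 1 : Fin a → F) with hx
    set w := Pi.single j₀ (1 : F) + (Pi.single j₁ 1 : Fin b → F) with hw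
    have hxx : hp σ x x = 0 := by
      rw [hx, hadd_right (uf S), hp_single_right, hp_single_right]
      simp [Pi.single_apply, hi, hi.symm]
      linear_combination hc2
    have hww : hp σ w w = 0 := by
      rw [hw, hadd_right (uf S), hp_single_right, hp_single_right]
      simp [Pi.single_apply, hj, hj.symm]
      linear_combination hc2
    refine four_of_one S h2 h5 hR (centre_reindex ε S hto (hB x w hxx hww)) ?_ u hu
    have e : UDec18.sp (emb w x ∘ ε.symm) =
        (({i₀, i₁} : Finset (Fin a)) ×ˢ ({j₀, j₁} : Finset (Fin b))).map ε.toEmbedding := by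
      ext p
      obtain ⟨⟨i, j⟩, rfl⟩ := ε.surjective p
      simp only [UDec18.mem_sp, Function.comp_apply, Equiv.symm_apply_apply, emb_apply, Finset.mem_map_equiv,
        Finset.mem_product, Finset.mem_insert, Finset.mem_singleton, hx, hw, Pi.add_apply, Pi.single_apply]
      by_cases h1 : i = i₀ <;> by_cases h2 : i = i₁ <;> by_cases h3 : j = j₀ <;> by_cases h4 : j = j₁ <;>
        simp_all
    rw [e, Finset.card_map, Finset.card_product, Finset.card_pair hi, Finset.card_pair hj]
  intro v hv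
  have hN := UDec18.centre_all St hR h4 (v ∘ ε.symm) ((hp_comp ε.symm v v).trans hv)
  have h := centre_reindex ε.symm S (N := M) (fun g hg => by
    obtain ⟨g', hg', rfl⟩ := hg
    have : Geo.glReindex ε.symm (Geo.glReindex ε g') = g' :=
      Units.ext (Matrix.ext fun p r => by
        show (g' : Matrix _ _ F) (ε.symm (ε p)) (ε.symm (ε r)) = _
        rw [ε.symm_apply_apply, ε.symm_apply_apply])
    exact this.symm ▸ hg') hN
  convert h using 1
  funext i
  simp

end Cfsg.Agent.TU18
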