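import Cfsg.Agent.TU18.Std
import Cfsg.Agent.MaxSub.HermStab

/-!
Isotropic vectors, scalars and adjoints for the standard unitary form (helper18).
-/

set_option autoImplicit false
set_option linter.unusedSectionVars false

namespace Cfsg.Agent.TU18

open Matrix Cfsg.Agent.MaxSub Module

variable {F : Type*} [Field F] [Fintype F] {n q : ℕ} {σ : F ≃+* F}

/-- The adjoint matrix. -/
def adj (σ : F ≃+* F) (A : Matrix (Fin n) (Fin n) F) : Matrix (Fin n) (Fin n) F := (A.map σ)ᵀ

theorem adj_smul (c : F) (A : Matrix (Fin n) (Fin n) F) : adj σ (c • A) = σ c • adj σ A := by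
  ext i j; simp [adj]

theorem adj_sub (A B : Matrix (Fin n) (Fin n) F) : adj σ (A - B) = adj σ A - adj σ B := by
  ext i j; simp [adj]

theorem adj_one : adj σ (1 : Matrix (Fin n) (Fin n) F) = 1 := by
  ext i j; simp [adj, Matrix.one_apply, eq_comm, apply_ite σ]

/-- A matrix is a scalar. -/
def IsScal (E : Matrix (Fin n) (Fin n) F) : Prop := ∃ μ : F, E = μ • 1

theorem isScal_zero : IsScal (0 : Matrix (Fin n) (Fin n) F) := ⟨0, (zero_smul _ _).symm⟩

theorem isScal_of_smul {c : F} (hc : c ≠ 0) {E : Matrix (Fin n) (Fin n) F} (h : IsScal (c • E)) :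
    IsScal E := by
  obtain ⟨μ, hμ⟩ := h
  exact ⟨c⁻¹ * μ, by rw [mul_smul, ← hμ, inv_smul_smul₀ hc]⟩

theorem IsScal.smul {E : Matrix (Fin n) (Fin n) F} (h : IsScal E) (c : F) : IsScal (c • E) := by
  obtain ⟨μ, rfl⟩ := h
  exact ⟨c * μ, smul_smul _ _ _⟩

theorem IsScal.sub {E E' : Matrix (Fin n) (Fin n) F} (h : IsScal E) (h' : IsScal E') :
    IsScal (E - E') := by
  obtain ⟨μ, rfl⟩ := h
  obtain ⟨ν, rfl⟩ := h'
  exact ⟨μ - ν, (sub_smul _ _ _).symm⟩

variable (S : Ctx q σ)
include S

theorem two_le_q : 2 ≤ q := Unitary.two_le_q S.card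

theorem hp_adj (A : Matrix (Fin n) (Fin n) F) (x y : Fin n → F) :
    hp σ (A *ᵥ x) y = hp σ x (adj σ A *ᵥ y) := by
  simp only [hp, adj, Matrix.mulVec, dotProduct, Matrix.transpose_apply, Matrix.map_apply, map_sum,
    map_mul, S.inv, Finset.mul_sum, Finset.sum_mul]
  rw [Finset.sum_comm]
  exact Finset.sum_congr rfl fun i _ => Finset.sum_congr rfl fun j _ => by ring

theorem adj_adj (A : Matrix (Fin n) (Fin n) F) : adj σ (adj σ A) = A := by
  ext i j; simp [adj, S.inv]

omit S in
theorem adj_mul (A B : Matrix (Fin n) (Fin n) F) : adj σ (A * B) = adj σ B * adj σ A := by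
  rw [adj, adj, adj, Matrix.map_mul, Matrix.transpose_mul]

/-- A real number different from zero and one. -/
theorem exists_real (hq : 3 ≤ q) : ∃ r : F, σ r = r ∧ r ≠ 0 ∧ r ≠ 1 := by
  classical
  have hc := (std (σ := σ) S 1).card_reals
  have hs : ((((std (σ := σ) S 1).reals).erase 0).erase 1).Nonempty := by
    rw [← Finset.card_pos]
    have h1 := Finset.pred_card_le_card_erase (a := (0 : F)) (s := (std (σ := σ) S 1).reals)
    have h2 := Finset.pred_card_le_card_erase (a := (1 : F)) (s := ((std (σ := σ) S 1).reals).erase 0)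
    omega
  obtain ⟨r, hr⟩ := hs
  simp only [Finset.mem_erase, UDec18.Std.mem_reals] at hr
  exact ⟨r, hr.2.2, hr.2.1, hr.1⟩

theorem exists_perp (hn : 3 ≤ n) (w : Fin n → F) :
    ∃ y, hp σ y w = 0 ∧ y ∉ Submodule.span F {w} := by
  have h1 := LinearMap.finrank_range_add_finrank_ker (hl (uf S) w)
  have h2 := Submodule.finrank_le (LinearMap.range (hl (uf S) w))
  rw [Module.finrank_self] at h2
  rw [finrank_fin_fun] at h1
  obtain ⟨y, hy, hy'⟩ := SetLike.not_le_iff_exists.mp
    fun h : LinearMap.ker (hl (uf S) w) ≤ Submodule.span F {w} => by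
      have h3 := Submodule.finrank_mono h
      have h4 : finrank F (Submodule.span F ({w} : Set (Fin n → F))) ≤ 1 := by
        simpa using finrank_span_le_card (R := F) ({w} : Set (Fin n → F))
      omega
  exact ⟨y, hy, hy'⟩

/-- A partner of an isotropic vector. -/
theorem exists_partner {w : Fin n → F} (hw0 : w ≠ 0) (hw : hp σ w w = 0) :
    ∃ u, hp σ u w = 1 ∧ hp σ w u = 1 ∧ hp σ u u = 0 := by
  obtain ⟨z, hz, -⟩ := exists_dual (uf S) (U := ⊥) (a := w) (by simpa using hw0)
  obtain ⟨t, ht⟩ := exists_trace (uf S (ι := Fin n)) (r := -hp σ z z)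
    (by rw [map_neg, ← (uf S).herm])
  have h1 : hp σ (z + t • w) w = 1 := by
    rw [(uf S).add_left, (uf S).smul_left, hz, hw, mul_zero, add_zero]
  have h2 : hp σ w z = 1 := by rw [(uf S).herm, hz, map_one]
  refine ⟨z + t • w, h1, by rw [(uf S).herm, h1, map_one], ?_⟩
  rw [(uf S).add_left, hadd_right (uf S), hadd_right (uf S), (uf S).smul_left, hsmul_right (uf S),
    (uf S).smul_left, hsmul_right (uf S), hz, hw, h2]
  linear_combination ht

theorem eigen_scalar (hn : 2 ≤ n) {E : Matrix (Fin n) (Fin n) F}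
    (h : ∀ x : Fin n → F, hp σ x x = 0 → ∃ μ : F, E *ᵥ x = μ • x) : IsScal E := by
  obtain ⟨x, -, hx0, hx⟩ := HermStab.exists_iso_mem (uf S) (K := (⊤ : Submodule F (Fin n → F)))
    (by rw [finrank_top, finrank_fin_fun]; exact hn)
  obtain ⟨μ, hμ⟩ := h x hx
  obtain ⟨c, hc0, hc⟩ := exists_skew (uf S (ι := Fin n))
  -- two eigenvectors whose sum is one have the same eigenvalue
  have hsum : ∀ {y z : Fin n → F} {ν : F}, E *ᵥ y = ν • y → hp σ z z = 0 → hp σ (y + z) (y + z) = 0 →
      z ∉ Submodule.span F {y} → y ≠ 0 → E *ᵥ z = ν • z := by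
    intro y z ν hy hz hyz hind hy0
    obtain ⟨ν', hν'⟩ := h z hz
    obtain ⟨ν'', hν''⟩ := h _ hyz
    have he : (ν'' - ν) • y + (ν'' - ν') • z = 0 := by
      rw [mulVec_add, hy, hν', smul_add] at hν''
      linear_combination (norm := module) -hν''
    have h2 : ν'' - ν' = 0 := by
      by_contra hne
      refine hind (Submodule.mem_span_singleton.mpr ⟨-(ν'' - ν) / (ν'' - ν'), ?_⟩)
      rw [div_eq_inv_mul, mul_smul, neg_smul, neg_eq_of_add_eq_zero_right he, inv_smul_smul₀ hne]
    rw [h2, zero_smul, add_zero, smul_eq_zero] at he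
    rw [hν', ← sub_eq_zero.mp h2, sub_eq_zero.mp (he.resolve_right hy0)]
  have hall : ∀ z : Fin n → F, hp σ z z = 0 → E *ᵥ z = μ • z := by
    intro z hz
    by_cases hzs : z ∈ Submodule.span F {x}
    · obtain ⟨r, rfl⟩ := Submodule.mem_span_singleton.mp hzs
      rw [mulVec_smul, hμ, smul_comm]
    by_cases hxz : hp σ x z = 0
    · refine hsum hμ hz ?_ hzs hx0
      rw [(uf S).add_left, hadd_right (uf S), hadd_right (uf S), hx, hz, hxz, hswap_zero (uf S) hxz]
      simp
    -- rescale
    set r := σ (c / hp σ x z) with hr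
    have hr0 : r ≠ 0 := (map_ne_zero σ).mpr (div_ne_zero hc0 hxz)
    have h1 : E *ᵥ (r • z) = μ • r • z := by
      refine hsum hμ ?_ ?_ ?_ hx0
      · rw [(uf S).smul_left, hsmul_right (uf S), hz, mul_zero, mul_zero]
      · rw [(uf S).add_left, hadd_right (uf S), hadd_right (uf S), (uf S).smul_left, (uf S).smul_left,
          hsmul_right (uf S), hsmul_right (uf S), hx, hz, (uf S).herm z x, hr, S.inv, ← map_mul,
          div_mul_cancel₀ _ hxz]
        linear_combination hc
      · exact fun hm => hzs ((Submodule.smul_mem_iff _ hr0).mp hm)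
    rw [mulVec_smul, smul_comm μ r z] at h1
    exact smul_right_injective _ hr0 h1
  refine ⟨μ, Matrix.toLin'.injective (LinearMap.ext fun v => ?_)⟩
  have hle := HermStab.le_of_iso_mem (uf S) (U := (⊤ : Submodule F (Fin n → F)))
    (S := LinearMap.ker (E - μ • 1).mulVecLin)
    (fun y _ hy => by_contra fun hy0 => by
      obtain ⟨z, hz⟩ := ((uf S).nondegenerate y hy0).2
      exact hz (hy z trivial))
    (by rw [finrank_top, finrank_fin_fun]; exact hn)
    (fun z _ hz => by
      rw [LinearMap.mem_ker, mulVecLin_apply, sub_mulVec, smul_mulVec, one_mulVec, hall z hz, sub_self])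
  have h3 := hle (Submodule.mem_top (x := v))
  rw [LinearMap.mem_ker, mulVecLin_apply, sub_mulVec, sub_eq_zero] at h3
  exact h3

/-- A matrix commuting with the group up to scalars is a scalar. -/
theorem scalar_of_conj (hn : 2 ≤ n) (hex : n = 2 → 3 ≤ q) {E : Matrix (Fin n) (Fin n) F}
    (h : ∀ G ∈ HermStab.su (hp σ : (Fin n → F) → (Fin n → F) → F),
      IsScal ((G : Matrix (Fin n) (Fin n) F) * E * ((G⁻¹ : GL (Fin n) F) : Matrix (Fin n) (Fin n) F) - E)) :
    IsScal E := by
  refine eigen_scalar S hn fun x hx => ?_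
  by_cases hx0 : x = 0
  · exact ⟨0, by rw [hx0, mulVec_zero, smul_zero]⟩
  -- the equation for one transvection
  have key : ∀ t : F, t + σ t = 0 → ∃ c : F, ∀ y : Fin n → F,
      (t * hp σ (E *ᵥ y) x) • x - (t * hp σ y x) • (E *ᵥ x) = c • (y + (t * hp σ y x) • x) := by
    intro t ht
    obtain ⟨c, hc⟩ := h (ut (hp σ) x t) (HermStab.ut_mem_su (uf S) hx ht)
    refine ⟨c, fun y => ?_⟩
    set G := ut (hp σ) x t with hG
    have h1 := congrArg (fun X => X * (G : Matrix (Fin n) (Fin n) F)) hc
    simp only [Matrix.sub_mul, Matrix.mul_assoc, Units.inv_mul, Matrix.mul_one, Matrix.smul_mul,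
      Matrix.one_mul] at h1
    have h2 := congrArg (· *ᵥ y) h1
    simp only [sub_mulVec, ← mulVec_mulVec, smul_mulVec] at h2
    rw [hG, ut_mulVec (uf S) hx, ut_mulVec (uf S) hx, mulVec_add, mulVec_smul] at h2
    linear_combination (norm := module) h2
  obtain ⟨t, ht0, ht⟩ := exists_skew (uf S (ι := Fin n))
  obtain ⟨c, hc⟩ := key t ht
  have hc0 : c = 0 := by
    by_cases h3 : 3 ≤ n
    · obtain ⟨y, hy, hys⟩ := exists_perp S h3 x
      by_contra hne
      refine hys (Submodule.mem_span_singleton.mpr ⟨c⁻¹ * (t * hp σ (E *ᵥ y) x), ?_⟩)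
      have := hc y
      rw [hy, mul_zero, zero_smul, sub_zero, zero_smul, add_zero] at this
      rw [mul_smul, this, inv_smul_smul₀ hne]
    · obtain ⟨r, hr, hr0, hr1⟩ := exists_real S (hex (by omega))
      obtain ⟨c', hc'⟩ := key (r * t) (by rw [map_mul, hr]; linear_combination r * ht)
      obtain ⟨y, hy, -, -⟩ := exists_partner S hx0 hx
      have e : ∀ z : Fin n → F, (r * c) • (z + (t * hp σ z x) • x) = c' • (z + (r * t * hp σ z x) • x) :=
        fun z => by rw [← hc' z, mul_smul, ← hc z]; module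
      have e1 := e x
      rw [hx, mul_zero, mul_zero, zero_smul, add_zero] at e1
      have e2 : r * c = c' := by
        by_contra hne
        refine hx0 ((smul_eq_zero.mp (?_ : (r * c - c') • x = 0)).resolve_left (sub_ne_zero.mpr hne))
        rw [sub_smul, e1, sub_self]
      have e3 := e y
      rw [hy, ← e2, mul_one, mul_one] at e3
      have e4 : (r * c * (t - r * t)) • x = 0 := by linear_combination (norm := module) e3
      rcases smul_eq_zero.mp e4 with h4 | h4
      · rw [← one_sub_mul, mul_eq_zero, mul_eq_zero, mul_eq_zero] at h4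
        rcases h4 with (h4 | h4) | h4 | h4
        exacts [absurd h4 hr0, h4, absurd h4 (sub_ne_zero.mpr (Ne.symm hr1)), absurd h4 ht0]
      · exact absurd h4 hx0
  obtain ⟨y, hy, -, -⟩ := exists_partner S hx0 hx
  refine ⟨hp σ (E *ᵥ y) x, ?_⟩
  have := hc y
  rw [hc0, zero_smul, hy, mul_one, sub_eq_zero, mul_smul] at this
  exact (smul_right_injective _ ht0 this).symm

/-- The special unitary group is transitive on non-zero isotropic vectors. -/
theorem exists_move_iso (hn : 3 ≤ n) {w w' : Fin n → F} (hw0 : w ≠ 0) (hw : hp σ w w = 0)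
    (hw'0 : w' ≠ 0) (hw' : hp σ w' w' = 0) :
    ∃ h ∈ HermStab.su (hp σ : (Fin n → F) → (Fin n → F) → F),
      (h : Matrix (Fin n) (Fin n) F) *ᵥ w = w' := by
  obtain ⟨c, hc0, hc⟩ := exists_skew (uf S (ι := Fin n))
  have one : ∀ {v v' : Fin n → F}, hp σ v v = 0 → hp σ v' v' = 0 → hp σ v v' = c →
      ∃ h ∈ HermStab.su (hp σ : (Fin n → F) → (Fin n → F) → F),
        (h : Matrix (Fin n) (Fin n) F) *ᵥ v = v' := by
    intro v v' hv hv' hvv'
    have hd : hp σ (v' - v) (v' - v) = 0 := by
      rw [hsub_left (uf S), hsub_right (uf S), hsub_right (uf S), hv, hv', hvv', (uf S).herm v' v, hvv']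
      linear_combination -hc
    refine ⟨ut (hp σ) (v' - v) c⁻¹, HermStab.ut_mem_su (uf S) hd ?_, ?_⟩
    · rw [map_inv₀, eq_neg_of_add_eq_zero_right hc, inv_neg, add_neg_cancel]
    · rw [ut_mulVec (uf S) hd, hsub_right (uf S), hv, hvv', sub_zero, inv_mul_cancel₀ hc0, one_smul,
        add_sub_cancel]
  have two : ∀ {v v' : Fin n → F}, v ≠ 0 → v' ∉ Submodule.span F {v} → hp σ v v = 0 →
      hp σ v' v' = 0 → hp σ v v' = 0 →
      ∃ h ∈ HermStab.su (hp σ : (Fin n → F) → (Fin n → F) → F),
        (h : Matrix (Fin n) (Fin n) F) *ᵥ v = v' := by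
    intro v v' hv0 hind hv hv' hvv'
    have hind' : v ∉ Submodule.span F {v'} := fun hm => by
      obtain ⟨r, hr⟩ := Submodule.mem_span_singleton.mp hm
      exact hind (Submodule.mem_span_singleton.mpr ⟨r⁻¹, by
        rw [← hr, smul_smul, inv_mul_cancel₀ fun h0 => hv0 (by rw [← hr, h0, zero_smul]), one_smul]⟩)
    obtain ⟨z₁, hz₁, hz₁'⟩ := exists_dual (uf S) hind'
    obtain ⟨z₂, hz₂, hz₂'⟩ := exists_dual (uf S) hind
    have e₁ := (hz₁' v' (Submodule.mem_span_singleton_self v')).1
    have e₂ := (hz₂' v (Submodule.mem_span_singleton_self v)).1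
    set z := σ c • z₁ + c • z₂ with hz
    have hzv : hp σ z v = σ c := by
      rw [hz, (uf S).add_left, (uf S).smul_left, (uf S).smul_left, hz₁, e₂]; ring
    have hzv' : hp σ z v' = c := by
      rw [hz, (uf S).add_left, (uf S).smul_left, (uf S).smul_left, hz₂, e₁]; ring
    obtain ⟨t, ht⟩ := exists_trace (uf S (ι := Fin n)) (r := -hp σ z z)
      (by rw [map_neg, ← (uf S).herm])
    set y := z + (t / c) • v with hy
    have hvz : hp σ v z = c := by rw [(uf S).herm, hzv, S.inv]
    have hyy : hp σ y y = 0 := by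
      have h1 : t / c * c = t := div_mul_cancel₀ _ hc0
      rw [hy, (uf S).add_left, hadd_right (uf S) z z, hadd_right (uf S) ((t / c) • v) z,
        (uf S).smul_left (t / c) v z, (uf S).smul_left (t / c) v, hsmul_right (uf S) (t / c) z,
        hsmul_right (uf S) (t / c) v, hzv, hv, hvz, ← map_mul, h1]
      linear_combination ht
    obtain ⟨h₁, hh₁, e1⟩ := one hv hyy (by
      rw [hy, hadd_right (uf S), hsmul_right (uf S), hvz, hv, mul_zero, add_zero])
    obtain ⟨h₂, hh₂, e2⟩ := one hyy hv' (by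
      rw [hy, (uf S).add_left, (uf S).smul_left, hzv', hvv', mul_zero, add_zero])
    exact ⟨h₂ * h₁, mul_mem hh₂ hh₁, by rw [Units.val_mul, ← mulVec_mulVec, e1, e2]⟩
  -- two vectors which are not orthogonal: a common neighbour at skew distance
  have three : ∀ {v v' : Fin n → F}, hp σ v v = 0 → hp σ v' v' = 0 → hp σ v v' ≠ 0 →
      ∃ h ∈ HermStab.su (hp σ : (Fin n → F) → (Fin n → F) → F),
        (h : Matrix (Fin n) (Fin n) F) *ᵥ v = v' := by
    intro v v' hv hv' hvv'
    have hv'v : hp σ v' v ≠ 0 := hswap_ne_zero (uf S) hvv'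
    set L := LinearMap.pi ![hl (uf S) v, hl (uf S) v'] with hL
    have hKne : LinearMap.ker L ≠ ⊥ := fun e => by
      have h1 := LinearMap.finrank_range_add_finrank_ker L
      have h2 := Submodule.finrank_le (LinearMap.range L)
      rw [e, finrank_bot, finrank_fin_fun] at h1
      rw [finrank_fin_fun] at h2
      omega
    obtain ⟨k, hkL, hkk⟩ : ∃ k ∈ LinearMap.ker L, hp σ k k ≠ 0 := by
      by_contra hno
      simp only [not_exists, not_and, not_not] at hno
      have hti := totally_isotropic (uf S) (K := LinearMap.ker L) hno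
      obtain ⟨k, hk, hk0⟩ := Submodule.ne_bot_iff _ |>.mp hKne
      have k1 : hp σ k v = 0 := congrFun hk 0
      have k2 : hp σ k v' = 0 := congrFun hk 1
      obtain ⟨x, hx⟩ := ((uf S).nondegenerate k hk0).1
      set x' := x - (hp σ x v' / hp σ v v') • v - (hp σ x v / hp σ v' v) • v' with hx'
      have hx'K : x' ∈ LinearMap.ker L := by
        rw [LinearMap.mem_ker]
        funext i
        fin_cases i
        · show hp σ x' v = 0
          rw [hx', hsub_left (uf S), hsub_left (uf S), (uf S).smul_left, (uf S).smul_left, hv,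
            div_mul_cancel₀ _ hv'v]
          ring
        · show hp σ x' v' = 0
          rw [hx', hsub_left (uf S), hsub_left (uf S), (uf S).smul_left, (uf S).smul_left, hv',
            div_mul_cancel₀ _ hvv']
          ring
      have h3 := hti x' hx'K k hk
      rw [hx', hsub_left (uf S), hsub_left (uf S), (uf S).smul_left, (uf S).smul_left,
        hswap_zero (uf S) k1, hswap_zero (uf S) k2] at h3
      exact hx (by simpa using h3)
    have k1 : hp σ k v = 0 := congrFun hkL 0
    have k2 : hp σ k v' = 0 := congrFun hkL 1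
    have hσv : σ (hp σ v' v) = hp σ v v' := ((uf S).herm v v').symm
    set z := (c / hp σ v v') • v + (σ c / hp σ v' v) • v' with hz
    have hzv : hp σ z v = σ c := by
      rw [hz, (uf S).add_left, (uf S).smul_left, (uf S).smul_left, hv, div_mul_cancel₀ _ hv'v]
      ring
    have hzv' : hp σ z v' = c := by
      rw [hz, (uf S).add_left, (uf S).smul_left, (uf S).smul_left, hv', div_mul_cancel₀ _ hvv']
      ring
    obtain ⟨r, hr⟩ := exists_norm (uf S (ι := Fin n)) (r := -hp σ z z / hp σ k k)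
      (by rw [map_div₀, map_neg, ← (uf S).herm, ← (uf S).herm])
    have hkz : hp σ k z = 0 := by
      rw [hz, hadd_right (uf S), hsmul_right (uf S), hsmul_right (uf S), k1, k2]; simp
    set y := z + r • k with hy
    clear_value z
    have hyy : hp σ y y = 0 := by
      rw [hy, (uf S).add_left, hadd_right (uf S), hadd_right (uf S), (uf S).smul_left,
        hsmul_right (uf S), hsmul_right (uf S), (uf S).smul_left, hkz, hswap_zero (uf S) hkz]
      field_simp at hr
      linear_combination hr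
    have hyv : hp σ y v = σ c := by
      rw [hy, (uf S).add_left, (uf S).smul_left, hzv, k1, mul_zero, add_zero]
    obtain ⟨h₁, hh₁, e1⟩ := one hv hyy (by rw [(uf S).herm, hyv, S.inv])
    obtain ⟨h₂, hh₂, e2⟩ := one hyy hv' (by
      rw [hy, (uf S).add_left, (uf S).smul_left, hzv', k2, mul_zero, add_zero])
    exact ⟨h₂ * h₁, mul_mem hh₂ hh₁, by rw [Units.val_mul, ← mulVec_mulVec, e1, e2]⟩
  by_cases hcase : hp σ w w' = 0
  swap
  · exact three hw hw' hcase
  by_cases hdep : w' ∈ Submodule.span F {w}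
  swap
  · exact two hw0 hdep hw hw' hcase
  obtain ⟨u, hu, hu', huu⟩ := exists_partner S hw0 hw
  obtain ⟨r, rfl⟩ := Submodule.mem_span_singleton.mp hdep
  obtain ⟨h₁, hh₁, e1⟩ := three hw huu (by rw [hu']; exact one_ne_zero)
  obtain ⟨h₂, hh₂, e2⟩ := three huu hw' (by
    rw [hsmul_right (uf S), hu, mul_one]
    exact (map_ne_zero σ).mpr fun h => hw'0 (by rw [h, zero_smul]))
  exact ⟨h₂ * h₁, mul_mem hh₂ hh₁, by rw [Units.val_mul, ← mulVec_mulVec, e1, e2]⟩

end Cfsg.Agent.TU18
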