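import Cfsg.Agent.TU18.NoL
import Cfsg.Agent.TU18.Iso

/-!
The decomposition `2 ⊗ 3`: without a moved root element the group is the stabiliser (helper17).

A pure vector with isotropic factors has an image whose rows span a non-degenerate plane, so some
plane `F² ⊗ v` is mapped to another one; there are at least four such `v`, and then some `F² ⊗ w`
with `w` isotropic is mapped to a plane of the same kind.
-/

set_option autoImplicit false
set_option linter.unusedSectionVars false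

namespace Cfsg.Agent.TU18

open Matrix Cfsg.Agent.MaxSub Cfsg.Agent.TensorMax Module
open scoped Kronecker

variable {F : Type*} [Field F] [Fintype F] {q : ℕ} {σ : F ≃+* F}

local notation:73 g:74 " ◆ " x:73 => (Units.val g) *ᵥ x

section Ingredients

variable (S : Ctx q σ)
include S

/-- In two dimensions the orthogonal of an isotropic vector is its span. -/
theorem eq_smul_of_orth {y u : Fin 2 → F} (hy0 : y ≠ 0) (hy : hp σ y y = 0) (hu : hp σ u y = 0) :
    ∃ s : F, u = s • y := by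
  have hy1 : y 1 ≠ 0 := fun h => hy0 (funext fun i => by
    simp only [hp, Fin.sum_univ_two, h, zero_mul, add_zero, mul_eq_zero, map_eq_zero] at hy
    fin_cases i
    · simpa using hy
    · simpa using h)
  have hd : u 0 * y 1 - u 1 * y 0 = 0 := by
    simp only [hp, Fin.sum_univ_two] at hy hu
    have h0 : σ (y 1) * (u 1 * y 0 - u 0 * y 1) = 0 := by linear_combination y 0 * hu - u 0 * hy
    have := (mul_eq_zero.mp h0).resolve_left ((map_ne_zero σ).mpr hy1)
    linear_combination -this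
  refine ⟨u 1 / y 1, funext fun i => ?_⟩
  fin_cases i
  · simp only [Pi.smul_apply, smul_eq_mul, Fin.zero_eta]
    field_simp
    linear_combination hd
  · simp [div_mul_cancel₀ _ hy1]

/-- A scalar of norm one which is no cube root of unity. -/
theorem exists_norm_one (hq : 3 ≤ q) : ∃ l : F, l * σ l = 1 ∧ l ^ 3 ≠ 1 := by
  obtain ⟨γ, hγ⟩ := IsCyclic.exists_generator (α := Fˣ)
  have ho : orderOf γ = q ^ 2 - 1 := by
    rw [orderOf_eq_card_of_forall_mem_zpowers hγ, Nat.card_units, Nat.card_eq_fintype_card, S.card]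
  have hm : (q - 1) * (q + 1) = q ^ 2 - 1 := by
    rw [mul_comm, ← Nat.sq_sub_sq, one_pow]
  refine ⟨((γ ^ (q - 1) : Fˣ) : F), ?_, fun h => ?_⟩
  · rw [S.pow, ← pow_succ', ← Units.val_pow_eq_pow_val, ← pow_mul, hm, ← ho, pow_orderOf_eq_one,
      Units.val_one]
  · rw [← Units.val_pow_eq_pow_val, Units.val_eq_one, ← pow_mul] at h
    have h1 := Nat.le_of_dvd (by omega) (orderOf_dvd_of_pow_eq_one h)
    rw [ho, ← hm] at h1
    have := Nat.le_of_mul_le_mul_left h1 (by omega)
    omega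

/-- An isotropic vector not orthogonal to three given vectors. -/
theorem exists_iso_avoid (hq : 3 ≤ q) {a v l₁ l₂ : Fin 3 → F} (ha0 : a ≠ 0) (ha : hp σ a a = 0)
    (hva : hp σ v a = 0) (hv : hp σ v v ≠ 0) (h₁ : hp σ l₁ a ≠ 0) (h₂ : hp σ l₂ a ≠ 0) :
    ∃ p : Fin 3 → F, p ≠ 0 ∧ hp σ p p = 0 ∧ hp σ v p ≠ 0 ∧ hp σ l₁ p ≠ 0 ∧ hp σ l₂ p ≠ 0 := by
  have hf := uf S (ι := Fin 3)
  obtain ⟨u, hua, -, -⟩ := exists_partner S ha0 ha
  set α := (1 - hp σ u v) / hp σ v v
  set w₀ := u + α • v with hw₀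
  have h0a : hp σ w₀ a = 1 := by rw [hw₀, hf.add_left, hf.smul_left, hua, hva, mul_zero, add_zero]
  have h0v : hp σ w₀ v = 1 := by
    rw [hw₀, hf.add_left, hf.smul_left, div_mul_cancel₀ _ hv, add_sub_cancel]
  have ha0' : hp σ a w₀ = 1 := by rw [hf.herm, h0a, map_one]
  have hav : hp σ a v = 0 := hswap_zero hf hva
  obtain ⟨β, hβ⟩ := exists_trace hf (r := -hp σ w₀ w₀) (by rw [map_neg, ← hf.herm])
  have hiso : ∀ s : F, s + σ s = 0 → hp σ (w₀ + (β + s) • a) (w₀ + (β + s) • a) = 0 := fun s hs => by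
    rw [hf.add_left w₀, hadd_right hf w₀, hadd_right hf ((β + s) • a), hf.smul_left, hsmul_right hf,
      hf.smul_left, hsmul_right hf, ha, h0a, ha0', map_add]
    linear_combination hβ + hs
  have hvp : ∀ s : F, hp σ v (w₀ + (β + s) • a) = 1 := fun s => by
    rw [hadd_right hf, hsmul_right hf, hva, mul_zero, add_zero, hf.herm, h0v, map_one]
  have hinj : ∀ {l : Fin 3 → F}, hp σ l a ≠ 0 → ∀ s s' : F, hp σ l (w₀ + (β + s) • a) = 0 →
      hp σ l (w₀ + (β + s') • a) = 0 → s = s' := by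
    intro l hl s s' e1 e2
    rw [hadd_right hf, hsmul_right hf, map_add] at e1 e2
    have : (σ s - σ s') * hp σ l a = 0 := by linear_combination e1 - e2
    exact σ.injective (sub_eq_zero.mp ((mul_eq_zero.mp this).resolve_right hl))
  obtain ⟨c, hc0, hc⟩ := exists_skew hf
  obtain ⟨r, hr, hr0, hr1⟩ := exists_real S hq
  have hrc : r * c + σ (r * c) = 0 := by rw [map_mul, hr]; linear_combination r * hc
  have h01 : (0 : F) ≠ c := Ne.symm hc0
  have h02 : (0 : F) ≠ r * c := Ne.symm (mul_ne_zero hr0 hc0)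
  have h12 : c ≠ r * c := fun h => hr1 (mul_right_cancel₀ hc0 (by rw [one_mul]; exact h.symm))
  obtain ⟨s, hs, e1, e2⟩ : ∃ s : F, s + σ s = 0 ∧ hp σ l₁ (w₀ + (β + s) • a) ≠ 0 ∧
      hp σ l₂ (w₀ + (β + s) • a) ≠ 0 := by
    by_contra hcon
    push Not at hcon
    have k := fun (s : F) (hs : s + σ s = 0) => or_iff_not_imp_left.mpr (hcon s hs)
    rcases k 0 (by simp) with e0 | e0 <;> rcases k c hc with ec | ec <;>
      rcases k (r * c) hrc with er | er <;>
      first
        | exact h01 (hinj h₁ _ _ e0 ec)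
        | exact h01 (hinj h₂ _ _ e0 ec)
        | exact h02 (hinj h₁ _ _ e0 er)
        | exact h02 (hinj h₂ _ _ e0 er)
        | exact h12 (hinj h₁ _ _ ec er)
        | exact h12 (hinj h₂ _ _ ec er)
  refine ⟨_, fun h => ?_, hiso s hs, ?_, e1, e2⟩
  · exact e1 (by rw [h]; exact hzero_right hf _)
  · rw [hvp]; exact one_ne_zero

/-- The element `1 ⊗ diag (l, l, m)`. -/
theorem exists_hom {d : Fin 3 → F} (hd : hp σ d d ≠ 0) {l m : F} (hl : l * σ l = 1) (hm : m * σ m = 1)
    (hdet : l * l * m = 1) :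
    ∃ H : GL (Fin 3) F, kr (1 : GL (Fin 2) F) H ∈ suT σ 2 3 ∧
      (∀ z, kr (1 : GL (Fin 2) F) H ◆ z = l • z + emb d (((m - l) / hp σ d d) • Cw σ d z)) ∧
      ((kr (1 : GL (Fin 2) F) H : Matrix (Fin 2 × Fin 3) (Fin 2 × Fin 3) F)).trace = 4 * l + 2 * m := by
  have hf := uf S (ι := Fin 3)
  have hl0 : l ≠ 0 := left_ne_zero_of_mul_eq_one hl
  set δ := hp σ d d with hδ
  set c := (m - l) / δ with hc
  set H₀ : Matrix (Fin 3) (Fin 3) F := l • 1 + c • vecMulVec d (rep (hp σ) d) with hH₀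
  have hrd : rep (hp σ) d ⬝ᵥ d = δ := hrep_dot hf d d
  have hdet0 : H₀.det = 1 := by
    have e : H₀ = l • (1 + replicateCol Unit ((c / l) • d) * replicateRow Unit (rep (hp σ) d)) := by
      rw [hH₀, ← vecMulVec_eq, smul_vecMulVec, smul_add, smul_smul, mul_div_cancel₀ _ hl0]
    rw [e, Matrix.det_smul, Fintype.card_fin, det_one_add_replicateCol_mul_replicateRow,
      dotProduct_smul, hrd, smul_eq_mul, hc, div_div, div_mul_eq_mul_div]
    field_simp
    linear_combination hdet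
  let H : GL (Fin 3) F := Matrix.GeneralLinearGroup.mkOfDetNeZero H₀ (by rw [hdet0]; exact one_ne_zero)
  have hHv : (H : Matrix (Fin 3) (Fin 3) F) = H₀ := rfl
  have hHm : ∀ u, H₀ *ᵥ u = l • u + (c * hp σ u d) • d := fun u => by
    rw [hH₀, add_mulVec, smul_mulVec, smul_mulVec, one_mulVec, vecMulVec_mulVec, hrep_dot hf]
    simp [smul_smul]
  refine ⟨H, ⟨kr_isom S (Subgroup.one_mem _) (mem_isom.mpr fun u v => ?_),
    det_kr_eq_one (map_one _) (Units.ext hdet0)⟩, fun z => ?_, ?_⟩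
  · rw [hHv, hHm, hHm]
    simp only [hf.add_left, hadd_right hf, hf.smul_left, hsmul_right hf, map_mul, ← hf.herm]
    have hδr : σ δ = δ := (hf.herm d d).symm
    have key : l * σ c + c * σ l + c * σ c * δ = 0 := by
      rw [hc, map_div₀, map_sub, hδr]
      field_simp
      linear_combination hm - hl
    rw [← hδ]
    linear_combination hp σ u v * hl + hp σ u d * hp σ d v * key
  · funext p
    obtain ⟨i, j⟩ := p
    have h1 := congrFun (hHm fun j => z (i, j)) j
    simp only [Pi.add_apply, Pi.smul_apply, smul_eq_mul] at h1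
    simp only [Pi.add_apply, Pi.smul_apply, smul_eq_mul, emb_apply, Cw_apply]
    rw [← h1, kr_coe, Units.val_one, hHv]
    simp only [Matrix.mulVec, dotProduct, Fintype.sum_prod_type, Matrix.kroneckerMap_apply,
      Matrix.one_apply, ite_mul, one_mul, zero_mul, Finset.sum_ite_irrel, Finset.sum_const_zero,
      Finset.sum_ite_eq, Finset.mem_univ, if_true]
  · rw [kr_coe, Units.val_one, Matrix.trace_kronecker, Matrix.trace_one, hHv, hH₀, Matrix.trace_add,
      Matrix.trace_smul, Matrix.trace_smul, Matrix.trace_one, Matrix.trace_vecMulVec,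
      dotProduct_comm, hrd, hc]
    simp only [Fintype.card_fin, smul_eq_mul, Nat.cast_ofNat, div_mul_cancel₀ _ hd]
    ring

end Ingredients

section Core

variable (S : Ctx q σ) (p : ℕ) [hpp : Fact p.Prime] [hcp : CharP F p]
variable {M : Subgroup (GL (Fin 2 × Fin 3) F)} (hM : Hyp σ M) (hN : NoRoot σ M)
include S p hpp hcp hM hN

/-- An element fixing the line of a pure vector with isotropic factors is in the stabiliser. -/
theorem stab_pure {h : GL (Fin 2 × Fin 3) F} (hh : h ∈ M) {y : Fin 2 → F} (hy0 : y ≠ 0)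
    (hy : hp σ y y = 0) {a : Fin 3 → F} (ha0 : a ≠ 0) (ha : hp σ a a = 0) {lam : F}
    (he : h ◆ emb a y = lam • emb a y) : h ∈ Geo.kroneckerSubgroup 2 3 F := by
  by_contra hK
  have hf := uf S (ι := Fin 2 × Fin 3)
  have hlam : lam ≠ 0 := fun h0 => by
    rw [h0, zero_smul] at he
    exact hy0 (emb_eq_zero ha0 (eq_zero_of_mulVec h he))
  set ℓ := emb a y with hℓ
  obtain ⟨t, ht0, ht⟩ := exists_skew (uf S (ι := Fin 3))
  set u := uB σ 2 a t with hu
  set x := h * u * h⁻¹ with hx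
  set U := (u : Matrix (Fin 2 × Fin 3) (Fin 2 × Fin 3) F) - 1 with hU
  set X := (x : Matrix (Fin 2 × Fin 3) (Fin 2 × Fin 3) F) - 1 with hX
  have hi : h ∈ isom (hp σ) := (hM.le hh).1
  have hinv : ∀ z, hp σ ((h⁻¹ : GL (Fin 2 × Fin 3) F) ◆ z) ℓ = σ lam * hp σ z ℓ := fun z => by
    rw [← mem_isom.mp hi, mulVec_inv_mulVec, he, hsmul_right hf]
  have hfix : (h⁻¹ : GL (Fin 2 × Fin 3) F) ◆ ℓ = lam⁻¹ • ℓ := by
    conv_rhs => rw [← inv_mulVec_mulVec h ℓ, he, mulVec_smul, smul_smul, inv_mul_cancel₀ hlam, one_smul]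
  have U1 : ∀ z, hp σ (U *ᵥ z) ℓ = 0 := fun z => by
    rw [hU, hu, uB_sub_mulVec S ha, hℓ, hp_emb_emb S, ha, mul_zero]
  have U2 : ∀ z, hp σ z ℓ = 0 → ∃ s : F, U *ᵥ z = s • ℓ := fun z hz => by
    have h1 := hswap_zero hf hz
    rw [hℓ, hp_emb S] at h1
    obtain ⟨s, hs⟩ := eq_smul_of_orth S hy0 hy (hswap_zero (uf S) h1)
    exact ⟨t * s, by rw [hU, hu, uB_sub_mulVec S ha, hs, smul_smul, map_smul]⟩
  have U3 : U *ᵥ ℓ = 0 := by
    rw [hU, hu, uB_sub_mulVec S ha, hℓ, Cw_emb S, ha, zero_smul, smul_zero, map_zero]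
  have hXv : ∀ z, X *ᵥ z = h ◆ (U *ᵥ ((h⁻¹ : GL (Fin 2 × Fin 3) F) ◆ z)) := fun z => by
    rw [hX, hx, val_conj_sub_one, ← mulVec_mulVec, ← mulVec_mulVec]
  have X1 : ∀ z, hp σ (X *ᵥ z) ℓ = 0 := fun z => by
    have h1 := mem_isom.mp hi (U *ᵥ ((h⁻¹ : GL (Fin 2 × Fin 3) F) ◆ z)) ℓ
    rw [he, hsmul_right hf, U1] at h1
    rw [hXv]
    exact (mul_eq_zero.mp h1).resolve_left ((map_ne_zero σ).mpr hlam)
  have X2 : ∀ z, hp σ z ℓ = 0 → ∃ s : F, X *ᵥ z = s • ℓ := fun z hz => by
    obtain ⟨s, hs⟩ := U2 _ (by rw [hinv, hz, mul_zero])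
    exact ⟨s * lam, by rw [hXv, hs, mulVec_smul, he, smul_smul]⟩
  have X3 : X *ᵥ ℓ = 0 := by rw [hXv, hfix, mulVec_smul, U3, smul_zero, mulVec_zero]
  have hchain : ∀ T₁ T₂ T₃ : Matrix (Fin 2 × Fin 3) (Fin 2 × Fin 3) F, (T₁ = U ∨ T₁ = X) →
      (T₂ = U ∨ T₂ = X) → (T₃ = U ∨ T₃ = X) → T₁ * T₂ * T₃ = 0 := by
    intro T₁ T₂ T₃ h1 h2 h3
    refine Matrix.toLin'.injective (LinearMap.ext fun z => ?_)
    rw [Matrix.toLin'_apply, map_zero, LinearMap.zero_apply, ← mulVec_mulVec, ← mulVec_mulVec]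
    have e3 : hp σ (T₃ *ᵥ z) ℓ = 0 := by rcases h3 with rfl | rfl; exacts [U1 z, X1 z]
    obtain ⟨s, hs⟩ : ∃ s : F, T₂ *ᵥ (T₃ *ᵥ z) = s • ℓ := by
      rcases h2 with rfl | rfl; exacts [U2 _ e3, X2 _ e3]
    rw [hs, mulVec_smul]
    rcases h1 with rfl | rfl <;> simp [U3, X3]
  have hxM : x ∈ M := mul_mem (mul_mem hh (uB_memM S hM ha ht)) (inv_mem hh)
  refine theta_not_nilpotent S p hM hN (by omega) (by omega) ha0 ha ht0 ht hxM
    (hN.rootB h hh hK a t ha0 ha ht0 ht) ?_ ⟨2, ?_⟩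
  · rw [hx, val_conj_sub_one]; exact sq_conj h (uB_sq S ha t)
  · have c1 := hchain
    rw [← hU, ← hX, th, sq, Matrix.add_mul, Matrix.mul_add, Matrix.mul_add]
    simp only [← Matrix.mul_assoc]
    rw [hchain U X U (Or.inl rfl) (Or.inr rfl) (Or.inl rfl), hchain U X X (Or.inl rfl) (Or.inr rfl) (Or.inr rfl),
      hchain X U U (Or.inr rfl) (Or.inl rfl) (Or.inl rfl), hchain X U X (Or.inr rfl) (Or.inl rfl) (Or.inr rfl)]
    simp

/-- No isotropic vector kills the rows of the image of a pure vector with isotropic factors. -/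
theorem no_iso_kernel {g : GL (Fin 2 × Fin 3) F} (hg : g ∈ M) (hgK : g ∉ Geo.kroneckerSubgroup 2 3 F)
    {y : Fin 2 → F} (hy0 : y ≠ 0) (hy : hp σ y y = 0) {a : Fin 3 → F} (ha0 : a ≠ 0) (ha : hp σ a a = 0)
    {w : Fin 3 → F} (hw0 : w ≠ 0) (hw : hp σ w w = 0) : Cw σ w (g ◆ emb a y) ≠ 0 := by
  intro hk
  obtain ⟨t, ht0, ht⟩ := exists_skew (uf S (ι := Fin 3))
  have hm : g⁻¹ * uB σ 2 w t * g ∈ M := mul_mem (mul_mem (inv_mem hg) (uB_memM S hM hw ht)) hg
  have := stab_pure S p hM hN hm hy0 hy ha0 ha (lam := 1) (by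
    rw [Units.val_mul, Units.val_mul, ← mulVec_mulVec, ← mulVec_mulVec, uB_mulVec S hw, hk, smul_zero,
      map_zero, add_zero, inv_mulVec_mulVec, one_smul])
  exact hN.rootB g⁻¹ (inv_mem hg) (fun h => hgK (by simpa using inv_mem h)) w t hw0 hw ht0 ht
    (by rwa [inv_inv])

/-- An anisotropic `v` with `F² ⊗ v` mapped to a plane of the same kind. -/
def GoodVec (g : GL (Fin 2 × Fin 3) F) (v : Fin 3 → F) : Prop :=
  hp σ v v ≠ 0 ∧ ∃ (d : Fin 3 → F) (G : Matrix (Fin 2) (Fin 2) F), hp σ d d ≠ 0 ∧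
    ∀ x, g ◆ emb v x = emb d (G *ᵥ x)

/-- Every isotropic vector is orthogonal to such a vector. -/
theorem exists_goodVec (hq : 3 ≤ q) {g : GL (Fin 2 × Fin 3) F} (hg : g ∈ M)
    (hgK : g ∉ Geo.kroneckerSubgroup 2 3 F) {a : Fin 3 → F} (ha0 : a ≠ 0) (ha : hp σ a a = 0) :
    ∃ v, hp σ v a = 0 ∧ GoodVec (σ := σ) g v := by
  have hf := uf S (ι := Fin 2 × Fin 3)
  obtain ⟨y, -, hy0, hy⟩ := HermStab.exists_iso_mem (uf S) (K := (⊤ : Submodule F (Fin 2 → F)))
    (by rw [finrank_top, finrank_fin_fun])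
  set z := g ◆ emb a y with hz
  obtain ⟨d, hd, hd0⟩ := (kerC S z).ne_bot_iff.mp fun h => by
    have := kerC_finrank S z
    rw [h, finrank_bot] at this
    omega
  rw [mem_kerC S] at hd
  have hdd : hp σ d d ≠ 0 := fun h => no_iso_kernel S p hM hN hg hgK hy0 hy ha0 ha hd0 h hd
  obtain ⟨l, hl, hl3⟩ := exists_norm_one S hq
  have hl0 : l ≠ 0 := left_ne_zero_of_mul_eq_one hl
  have hσl : σ l = l⁻¹ := eq_inv_of_mul_eq_one_right hl
  set m := (l * l)⁻¹ with hm
  have hmm : m * σ m = 1 := by rw [hm, map_inv₀, map_mul, hσl]; field_simp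
  have hne : m ≠ l := fun h => hl3 (by rw [hm] at h; field_simp at h; linear_combination -h)
  obtain ⟨H, hHsu, hk, htr⟩ := exists_hom S hdd hl hmm (by rw [hm]; field_simp)
  set k := kr (1 : GL (Fin 2) F) H with hkdef
  set k' := g⁻¹ * k * g with hk'
  have hkM : k' ∈ M := mul_mem (mul_mem (inv_mem hg) (hM.kron k (kr_mem _ _) hHsu)) hg
  have happ : ∀ u, g ◆ k' ◆ u = k ◆ g ◆ u := fun u => by
    rw [hk', Units.val_mul, Units.val_mul, ← mulVec_mulVec, ← mulVec_mulVec, mulVec_inv_mulVec]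
  have hfix : k' ◆ emb a y = l • emb a y := mulVec_injective g (by
    show g ◆ k' ◆ emb a y = g ◆ (l • emb a y)
    rw [happ, mulVec_smul, ← hz, hk, hd, smul_zero, map_zero, add_zero])
  obtain ⟨G, H', hGH⟩ := stab_pure S p hM hN hkM hy0 hy ha0 ha hfix
  -- the minimal polynomial and the trace
  have htr' : (k' : Matrix (Fin 2 × Fin 3) (Fin 2 × Fin 3) F).trace = 4 * l + 2 * m := by
    rw [hk', Units.val_mul, Units.val_mul, Matrix.trace_mul_comm, ← Matrix.mul_assoc, Units.mul_inv,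
      one_mul, htr]
  rw [hGH, Matrix.trace_kronecker] at htr'
  have hquad : ∀ u, k ◆ k ◆ u = (l + m) • (k ◆ u) - (l * m) • u := fun u => by
    rw [hk (k ◆ u), hk u]
    simp only [map_add, map_smul, Cw_emb S]
    match_scalars <;> field_simp <;> ring
  have hquad' : (k' : Matrix (Fin 2 × Fin 3) (Fin 2 × Fin 3) F) * k' =
      (l + m) • (k' : Matrix (Fin 2 × Fin 3) (Fin 2 × Fin 3) F) - (l * m) • 1 := by
    refine Matrix.toLin'.injective (LinearMap.ext fun u => mulVec_injective g ?_)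
    show g ◆ _ = g ◆ _
    rw [Matrix.toLin'_apply, Matrix.toLin'_apply, ← mulVec_mulVec, happ, happ, hquad, sub_mulVec,
      smul_mulVec, smul_mulVec, one_mulVec, mulVec_sub, mulVec_smul, mulVec_smul, happ]
  set A := (G : Matrix (Fin 2) (Fin 2) F) with hA
  set B := (H' : Matrix (Fin 3) (Fin 3) F) with hB
  have hA2 : A * A = A.trace • A - A.det • 1 := by
    ext i j
    fin_cases i <;> fin_cases j <;>
      simp [Matrix.mul_apply, Fin.sum_univ_two, Matrix.trace_fin_two, Matrix.det_fin_two] <;> ring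
  rw [hGH, ← Matrix.mul_kronecker_mul, hA2] at hquad'
  have hent : ∀ i j, A i j • (A.trace • (B * B) - (l + m) • B) +
      (1 : Matrix (Fin 2) (Fin 2) F) i j • ((l * m) • (1 : Matrix (Fin 3) (Fin 3) F) - A.det • (B * B))
      = 0 := fun i j => by
    ext j' l'
    have h1 := congrFun (congrFun hquad' (i, j')) (j, l')
    simp only [Matrix.kroneckerMap_apply, Matrix.sub_apply, Matrix.smul_apply, smul_eq_mul,
      Matrix.one_apply, Prod.ext_iff] at h1
    simp only [Matrix.add_apply, Matrix.sub_apply, Matrix.smul_apply, smul_eq_mul, Matrix.zero_apply,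
      Matrix.one_apply]
    by_cases hi : i = j <;> by_cases hj : j' = l' <;>
      simp only [hi, hj, and_self, and_true, true_and, false_and, and_false, if_true, if_false] at h1 ⊢ <;>
      linear_combination h1
  -- the first factor is a scalar
  obtain ⟨γ, hA'⟩ : ∃ γ : F, A = γ • 1 := by
    by_contra hns
    push Not at hns
    obtain ⟨e, he0, he⟩ : ∃ e : F, e ≠ 0 ∧ e • (A.trace • (B * B) - (l + m) • B) = 0 := by
      by_cases h01 : A 0 1 = 0
      · by_cases h10 : A 1 0 = 0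
        · refine ⟨A 0 0 - A 1 1, fun h => hns (A 0 0) (Matrix.ext fun i j => ?_), ?_⟩
          · fin_cases i <;> fin_cases j <;> simp [h01, h10, sub_eq_zero.mp h]
          · have h0 := hent 0 0
            have h1 := hent 1 1
            simp only [Matrix.one_apply_eq] at h0 h1
            linear_combination (norm := module) h0 - h1
        · exact ⟨_, h10, by simpa using hent 1 0⟩
      · exact ⟨_, h01, by simpa using hent 0 1⟩
    have h1 := sub_eq_zero.mp ((smul_eq_zero.mp he).resolve_left he0)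
    have h2 := congrArg (fun R => ((H'⁻¹ : GL (Fin 3) F) : Matrix (Fin 3) (Fin 3) F) * R) h1
    have hBinv : ((H'⁻¹ : GL (Fin 3) F) : Matrix (Fin 3) (Fin 3) F) * B = 1 := Units.inv_mul H'
    simp only [Matrix.mul_smul, ← Matrix.mul_assoc, hBinv, Matrix.one_mul] at h2
    have h3 := congrArg Matrix.trace h2
    rw [Matrix.trace_smul, Matrix.trace_smul, Matrix.trace_one, Fintype.card_fin, smul_eq_mul,
      smul_eq_mul, htr'] at h3
    push_cast at h3
    exact hne (by linear_combination -h3)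
  have hkx : ∀ (u : Fin 3 → F) (x : Fin 2 → F), k' ◆ emb u x = emb (γ • (B *ᵥ u)) x := fun u x => by
    rw [show k' = kr G H' from Units.ext hGH, kr_emb, ← hA, ← hB, hA', smul_mulVec, one_mulVec,
      map_smul, emb_smul]
  -- the eigenvector
  obtain ⟨x₀, hx₀⟩ : ∃ x₀ : Fin 2 → F, x₀ ≠ 0 := ⟨y, hy0⟩
  set z₀ := (g⁻¹ : GL (Fin 2 × Fin 3) F) ◆ emb d x₀ with hz₀
  have hz0k : k' ◆ z₀ = m • z₀ := mulVec_injective g (by
    show g ◆ k' ◆ z₀ = g ◆ (m • z₀)
    rw [happ, mulVec_smul, hz₀, mulVec_inv_mulVec, hk, Cw_emb S, smul_smul, map_smul,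
      div_mul_cancel₀ _ hdd, ← add_smul, add_sub_cancel])
  obtain ⟨i, j, hij⟩ : ∃ i j, z₀ (i, j) ≠ 0 := by
    by_contra hcon
    push Not at hcon
    exact hx₀ (emb_eq_zero hd0 (eq_zero_of_mulVec g⁻¹ (funext fun r => hcon r.1 r.2)))
  set v : Fin 3 → F := fun j => z₀ (i, j) with hv
  have hv0 : v ≠ 0 := fun h => hij (congrFun h j)
  have hBv : γ • (B *ᵥ v) = m • v := by
    have hGH' : (k' : Matrix (Fin 2 × Fin 3) (Fin 2 × Fin 3) F) = (γ • 1 : Matrix (Fin 2) (Fin 2) F) ⊗ₖ B := by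
      rw [← hA']; exact hGH
    funext j'
    have h1 := congrFun hz0k (i, j')
    rw [hGH'] at h1
    simp only [Matrix.mulVec, dotProduct, Fintype.sum_prod_type, Matrix.kroneckerMap_apply,
      Matrix.smul_apply, Matrix.one_apply, smul_eq_mul, mul_ite, mul_one, mul_zero, ite_mul, zero_mul,
      Finset.sum_ite_irrel, Finset.sum_const_zero, Finset.sum_ite_eq, Finset.mem_univ, if_true,
      Pi.smul_apply] at h1
    simp only [Pi.smul_apply, smul_eq_mul, Matrix.mulVec, dotProduct, Finset.mul_sum, hv]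
    simpa [mul_assoc] using h1
  -- its image
  set L : (Fin 2 → F) →ₗ[F] (Fin 2 → F) :=
    (hp σ d d)⁻¹ • (Cw σ d).comp ((g : Matrix (Fin 2 × Fin 3) (Fin 2 × Fin 3) F).mulVecLin.comp (emb v))
  have himg : ∀ x, g ◆ emb v x = emb d (LinearMap.toMatrix' L *ᵥ x) := fun x => by
    rw [LinearMap.toMatrix'_mulVec]
    have h1 : k ◆ g ◆ emb v x = m • (g ◆ emb v x) := by
      rw [← happ, hkx, hBv, emb_smul, mulVec_smul]
    rw [hk] at h1
    have h2 : (m - l) • (g ◆ emb v x) =
        ((m - l) / hp σ d d) • emb d (Cw σ d (g ◆ emb v x)) := by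
      rw [sub_smul, ← h1, map_smul]; abel
    have hml : m - l ≠ 0 := sub_ne_zero.mpr hne
    calc g ◆ emb v x = (m - l)⁻¹ • ((m - l) • (g ◆ emb v x)) := by
          rw [smul_smul, inv_mul_cancel₀ hml, one_smul]
      _ = emb d (L x) := by
          rw [h2, smul_smul, ← map_smul]
          refine congrArg (emb d) ?_
          simp only [L, LinearMap.smul_apply, LinearMap.comp_apply, mulVecLin_apply]
          congr 1
          field_simp
  have hgi : g ∈ isom (hp σ) := (hM.le hg).1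
  refine ⟨v, ?_, fun hvv => ?_, d, _, hdd, himg⟩
  · obtain ⟨x, hxy⟩ := ((uf S).nondegenerate y hy0).1
    have h1 := mem_isom.mp (hM.le hkM).1 (emb v x) (emb a y)
    rw [hfix, hkx, hBv, emb_smul, hf.smul_left, hsmul_right hf, hp_emb_emb S] at h1
    have h2 : (m * σ l - 1) * (hp σ x y * hp σ v a) = 0 := by linear_combination h1
    refine (mul_eq_zero.mp ((mul_eq_zero.mp h2).resolve_left fun h => hne ?_)).resolve_left hxy
    rw [hσl] at h
    field_simp at h
    linear_combination h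
  · -- `v` is anisotropic
    set P := LinearMap.toMatrix' L
    have hPi : Function.Injective P.mulVecLin := fun x x' hxx => emb_injective hv0 (mulVec_injective g (by
      show g ◆ emb v x = g ◆ emb v x'
      rw [himg, himg]
      exact congrArg (emb d) hxx))
    obtain ⟨x, hx⟩ := (LinearMap.injective_iff_surjective.mp hPi) (Pi.single 0 1)
    have h1 := mem_isom.mp hgi (emb v x) (emb v x)
    rw [himg, hp_emb_emb S, hp_emb_emb S, hvv, mul_zero, show P *ᵥ x = Pi.single 0 1 from hx,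
      hp_single_right, Pi.single_eq_same, one_mul] at h1
    exact hdd h1

/-- Two such vectors with proportional maps give a moved root element. -/
theorem prop_false {g : GL (Fin 2 × Fin 3) F} (hg : g ∈ M) (hgK : g ∉ Geo.kroneckerSubgroup 2 3 F)
    {v₁ v₂ d₁ d₂ : Fin 3 → F} {G : Matrix (Fin 2) (Fin 2) F} {κ : F}
    (hv : hp σ v₁ v₁ ≠ 0) (hd : hp σ d₁ d₁ ≠ 0) (hind : v₂ ∉ Submodule.span F {v₁})
    (h₁ : ∀ x, g ◆ emb v₁ x = emb d₁ (G *ᵥ x))
    (h₂ : ∀ x, g ◆ emb v₂ x = emb d₂ ((κ • G) *ᵥ x)) : False := by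
  have hf := uf S (ι := Fin 3)
  have hgi : g ∈ isom (hp σ) := (hM.le hg).1
  have hv10 : v₁ ≠ 0 := fun h => hv (by rw [h]; exact hzero_left hf _)
  have hdim : 2 ≤ finrank F (Submodule.span F {v₁, v₂} : Submodule F (Fin 3 → F)) := by
    have hlt : Submodule.span F {v₁} < Submodule.span F {v₁, v₂} :=
      lt_of_le_of_ne (Submodule.span_mono (by simp)) fun e =>
        hind (e ▸ Submodule.subset_span (by simp))
    have := Submodule.finrank_lt_finrank_of_lt hlt
    rw [finrank_span_singleton hv10] at this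
    omega
  obtain ⟨w, hwm, hw0, hw⟩ := HermStab.exists_iso_mem hf hdim
  obtain ⟨α, β, rfl⟩ := Submodule.mem_span_pair.mp hwm
  set w' := α • d₁ + (β * κ) • d₂ with hw'
  have him : ∀ x, g ◆ emb (α • v₁ + β • v₂) x = emb w' (G *ᵥ x) := fun x => by
    rw [emb_add, emb_smul, emb_smul, mulVec_add, mulVec_smul, mulVec_smul, h₁, h₂, smul_mulVec,
      map_smul, smul_smul, hw', emb_add, emb_smul, emb_smul]
  -- the map is a similitude
  set κ₁ := hp σ v₁ v₁ / hp σ d₁ d₁
  have hG : ∀ x x', hp σ (G *ᵥ x) (G *ᵥ x') = κ₁ * hp σ x x' := fun x x' => by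
    have h := mem_isom.mp hgi (emb v₁ x) (emb v₁ x')
    rw [h₁, h₁, hp_emb_emb S, hp_emb_emb S] at h
    simp only [κ₁]
    field_simp
    linear_combination h
  have hκ0 : κ₁ ≠ 0 := div_ne_zero hv hd
  have hκr : σ κ₁ = κ₁ := by simp only [κ₁]; rw [map_div₀, ← hf.herm, ← hf.herm]
  have hAG : adj σ G * G = κ₁ • 1 := Matrix.toLin'.injective (LinearMap.ext fun x => by
    refine hp_ext_right S fun u => ?_
    rw [Matrix.toLin'_apply, Matrix.toLin'_apply, ← mulVec_mulVec, ← hp_adj S, hG, smul_mulVec,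
      one_mulVec, hsmul_right (uf S), hκr])
  have hGA : G * adj σ G = κ₁ • 1 := by
    have h1 : (κ₁⁻¹ • adj σ G) * G = 1 := by
      rw [Matrix.smul_mul, hAG, smul_smul, inv_mul_cancel₀ hκ0, one_smul]
    have h2 := mul_eq_one_comm.mp h1
    rw [Matrix.mul_smul] at h2
    rw [← h2, smul_smul, mul_inv_cancel₀ hκ0, one_smul]
  have hww : hp σ w' w' = 0 := by
    have h := mem_isom.mp hgi (emb (α • v₁ + β • v₂) (Pi.single 0 1))
      (emb (α • v₁ + β • v₂) (Pi.single 0 1))
    rw [him, hp_emb_emb S, hp_emb_emb S, hw, mul_zero, hG, hp_single_right, Pi.single_eq_same,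
      mul_one, mul_eq_zero] at h
    exact h.resolve_left hκ0
  obtain ⟨t, ht0, ht⟩ := exists_skew hf
  refine hN.rootB g hg hgK _ t hw0 hw ht0 ht ?_
  have e : g * uB σ 2 (α • v₁ + β • v₂) t * g⁻¹ = uB σ 2 w' (t * κ₁) := gl_ext fun z => by
    set z' := (g⁻¹ : GL (Fin 2 × Fin 3) F) ◆ z with hz'
    have hC : Cw σ (α • v₁ + β • v₂) z' = adj σ G *ᵥ Cw σ w' z := hp_ext_right S fun x => by
      rw [← hp_emb S, ← mem_isom.mp hgi, him, hz', mulVec_inv_mulVec, hp_emb S, hp_adj S]
    rw [Units.val_mul, Units.val_mul, ← mulVec_mulVec, ← mulVec_mulVec, ← hz', uB_mulVec S hw,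
      mulVec_add, him, hz', mulVec_inv_mulVec, uB_mulVec S hww, ← hz', hC, mulVec_smul, mulVec_mulVec,
      hGA, smul_mulVec, one_mulVec, smul_smul]
  rw [e]
  exact uB_kron S _ _

/-- A combination with two terms of such vectors is no such vector. -/
theorem combo_false {g : GL (Fin 2 × Fin 3) F} (hg : g ∈ M) (hgK : g ∉ Geo.kroneckerSubgroup 2 3 F)
    {m : ℕ} {v : Fin m → Fin 3 → F} (hli : LinearIndependent F v)
    (hgood : ∀ i, GoodVec (σ := σ) g (v i)) {c : Fin m → F} {i j : Fin m} (hij : i ≠ j)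
    (hi : c i ≠ 0) (hj : c j ≠ 0) (hsum : GoodVec (σ := σ) g (∑ k, c k • v k)) : False := by
  choose hv d G hd himg using hgood
  obtain ⟨hv₄, d₄, G₄, hd₄, himg₄⟩ := hsum
  have hv₄0 : (∑ k, c k • v k) ≠ 0 := fun h => hv₄ (by rw [h]; exact hzero_left (uf S) _)
  have hv0 : ∀ k, v k ≠ 0 := fun k => hli.ne_zero k
  have hGinj : ∀ k, Function.Injective (G k).mulVecLin := fun k x x' hxx =>
    emb_injective (hv0 k) (mulVec_injective g (by
      show g ◆ emb (v k) x = g ◆ emb (v k) x'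
      rw [himg, himg]
      exact congrArg (emb (d k)) hxx))
  have hrow : ∀ x r, ∑ k, (c k * (G k *ᵥ x) r) • d k = (G₄ *ᵥ x) r • d₄ := fun x r => by
    have h := himg₄ x
    rw [show emb (∑ k, c k • v k) x = ∑ k, c k • emb (v k) x from funext fun p => by
      simp only [emb_apply, Finset.sum_apply, Pi.smul_apply, smul_eq_mul, Finset.mul_sum]
      exact Finset.sum_congr rfl fun k _ => by ring, mulVec_sum] at h
    funext l
    have h' := congrFun h (r, l)
    simp only [mulVec_smul, himg, Finset.sum_apply, Pi.smul_apply, smul_eq_mul, emb_apply] at h'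
    simp only [Finset.sum_apply, Pi.smul_apply, smul_eq_mul]
    rw [← h']
    exact Finset.sum_congr rfl fun k _ => by ring
  have hdli : LinearIndependent F d := by
    refine Fintype.linearIndependent_iff.mpr fun e he k => ?_
    choose y hy using fun k => LinearMap.injective_iff_surjective.mp (hGinj k) (Pi.single 0 (1 : F))
    have h0 : g ◆ (∑ k, e k • emb (v k) (y k)) = 0 := by
      rw [mulVec_sum]
      funext p
      have h1 := congrFun he p.2
      simp only [mulVec_smul, himg, Finset.sum_apply, Pi.smul_apply, smul_eq_mul, emb_apply,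
        Pi.zero_apply] at h1 ⊢
      rw [← mul_zero ((Pi.single 0 1 : Fin 2 → F) p.1), ← h1, Finset.mul_sum]
      refine Finset.sum_congr rfl fun k _ => ?_
      have := congrFun (hy k) p.1
      simp only [mulVecLin_apply] at this
      rw [this]; ring
    have h2 := eq_zero_of_mulVec g h0
    obtain ⟨r, hr⟩ := Function.ne_iff.mp (show y k ≠ 0 from fun h => by
      have := hy k
      rw [h, map_zero] at this
      simpa using congrFun this 0)
    have h3 := Fintype.linearIndependent_iff.mp hli (fun k => e k * y k r) (funext fun l => by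
      have := congrFun h2 (r, l)
      simp only [Finset.sum_apply, Pi.smul_apply, smul_eq_mul, emb_apply, Pi.zero_apply] at this ⊢
      rw [← this]
      exact Finset.sum_congr rfl fun k _ => by ring) k
    exact (mul_eq_zero.mp h3).resolve_right hr
  -- the coefficients of the image
  obtain ⟨b, hb⟩ : ∃ b : Fin m → F, d₄ = ∑ k, b k • d k := by
    obtain ⟨x, r, hxr⟩ : ∃ x r, (G₄ *ᵥ x) r ≠ 0 := by
      by_contra hcon
      push Not at hcon
      have h := himg₄ (Pi.single 0 1)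
      rw [show G₄ *ᵥ Pi.single 0 1 = 0 from funext (hcon _), map_zero] at h
      simpa using congrFun (emb_eq_zero hv₄0 (eq_zero_of_mulVec g h)) 0
    refine ⟨fun k => ((G₄ *ᵥ x) r)⁻¹ * (c k * (G k *ᵥ x) r), ?_⟩
    rw [← one_smul F d₄, ← inv_mul_cancel₀ hxr, ← smul_smul, ← hrow, Finset.smul_sum]
    simp [smul_smul]
  have hco : ∀ k x, c k • (G k *ᵥ x) = b k • (G₄ *ᵥ x) := fun k x => funext fun r => by
    have h := hrow x r
    rw [hb, Finset.smul_sum, ← sub_eq_zero, ← Finset.sum_sub_distrib] at h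
    simp only [smul_smul, ← sub_smul] at h
    have := Fintype.linearIndependent_iff.mp hdli _ h k
    simp only [Pi.smul_apply, smul_eq_mul]
    linear_combination this
  have hbi : b i ≠ 0 := fun h0 => by
    obtain ⟨x, hx⟩ := LinearMap.injective_iff_surjective.mp (hGinj i) (Pi.single 0 (1 : F))
    have h := congrFun (hco i x) 0
    rw [h0, show G i *ᵥ x = Pi.single 0 1 from hx] at h
    simp at h
    exact hi h
  have hGj : G j = ((b j / c j) * (c i / b i)) • G i :=
    Matrix.toLin'.injective (LinearMap.ext fun x => by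
      rw [Matrix.toLin'_apply, Matrix.toLin'_apply, smul_mulVec]
      funext r
      have h1 := congrFun (hco i x) r
      have h2 := congrFun (hco j x) r
      simp only [Pi.smul_apply, smul_eq_mul] at h1 h2 ⊢
      field_simp
      linear_combination b i * h2 - b j * h1)
  refine prop_false S p hM hN hg hgK (v₁ := v i) (v₂ := v j) (hv i) (hd i) ?_ (himg i)
    (hGj ▸ himg j : ∀ x, g ◆ emb (v j) x = emb (d j) ((((b j / c j) * (c i / b i)) • G i) *ᵥ x))
  intro hm
  obtain ⟨s, hs⟩ := Submodule.mem_span_singleton.mp hm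
  have := Fintype.linearIndependent_iff.mp hli
    (fun k => if k = j then 1 else if k = i then -s else 0) (by
      rw [← Finset.sum_subset (Finset.subset_univ {i, j}) fun k _ hk => by
        simp only [Finset.mem_insert, Finset.mem_singleton, not_or] at hk; simp [hk.1, hk.2],
        Finset.sum_pair hij]
      simp [hij, ← hs]) j
  simp at this

/-- Without a moved root element the group is the stabiliser. -/
theorem noRoot_le_two_three (hq : 3 ≤ q) : M ≤ Geo.kroneckerSubgroup 2 3 F := by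
  intro g hg
  by_contra hgK
  have hf := uf S (ι := Fin 3)
  obtain ⟨a₁, -, ha₁0, ha₁⟩ := HermStab.exists_iso_mem hf (K := (⊤ : Submodule F (Fin 3 → F)))
    (by rw [finrank_top, finrank_fin_fun]; omega)
  obtain ⟨v₁, h11, g₁⟩ := exists_goodVec S p hM hN hq hg hgK ha₁0 ha₁
  obtain ⟨u, hu, -, -⟩ := exists_partner S ha₁0 ha₁
  have hu' : hp σ u a₁ ≠ 0 := by rw [hu]; exact one_ne_zero
  obtain ⟨a₂, ha₂0, ha₂, h12, -, -⟩ := exists_iso_avoid S hq ha₁0 ha₁ h11 g₁.1 hu' hu'
  obtain ⟨v₂, h22, g₂⟩ := exists_goodVec S p hM hN hq hg hgK ha₂0 ha₂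
  obtain ⟨a₃, ha₃0, ha₃, h23, h13, -⟩ := exists_iso_avoid S hq ha₂0 ha₂ h22 g₂.1 h12 h12
  obtain ⟨v₃, h33, g₃⟩ := exists_goodVec S p hM hN hq hg hgK ha₃0 ha₃
  obtain ⟨a₄, ha₄0, ha₄, h34, h14, h24⟩ := exists_iso_avoid S hq ha₃0 ha₃ h33 g₃.1 h13 h23
  obtain ⟨v₄, h44, g₄⟩ := exists_goodVec S p hM hN hq hg hgK ha₄0 ha₄
  have hn0 : ∀ {v}, GoodVec (σ := σ) g v → v ≠ 0 := fun hgv h => hgv.1 (by rw [h]; exact hzero_left hf _)
  have l2 : LinearIndependent F ![v₁, v₂] :=
    (LinearIndependent.pair_iff' (hn0 g₁)).mpr fun s hs => by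
      rw [← hs, hf.smul_left] at h22
      rcases mul_eq_zero.mp h22 with h | h
      · exact hn0 g₂ (by rw [← hs, h, zero_smul])
      · exact h12 h
  have gd2 : ∀ i, GoodVec (σ := σ) g (![v₁, v₂] i) := fun i => by fin_cases i <;> assumption
  have l3 : LinearIndependent F ![v₃, v₁, v₂] := by
    refine linearIndependent_finCons.mpr ⟨l2, fun hm => ?_⟩
    rw [Submodule.mem_span_range_iff_exists_fun] at hm
    obtain ⟨c, hc⟩ := hm
    simp only [Fin.sum_univ_two, Matrix.cons_val_zero, Matrix.cons_val_one] at hc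
    by_cases h0 : c 0 = 0
    · rw [← hc, h0, zero_smul, zero_add, hf.smul_left] at h33
      rcases mul_eq_zero.mp h33 with h | h
      · exact hn0 g₃ (by rw [← hc, h0, h, zero_smul, zero_smul, add_zero])
      · exact h23 h
    by_cases h1 : c 1 = 0
    · rw [← hc, h1, zero_smul, add_zero, hf.smul_left] at h33
      rcases mul_eq_zero.mp h33 with h | h
      · exact h0 h
      · exact h13 h
    exact combo_false S p hM hN hg hgK l2 gd2 (i := 0) (j := 1) (by simp) h0 h1
      (by simpa [Fin.sum_univ_two, hc] using g₃)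
  have gd3 : ∀ i, GoodVec (σ := σ) g (![v₃, v₁, v₂] i) := fun i => by fin_cases i <;> assumption
  have hspan := l3.span_eq_top_of_card_eq_finrank (by simp)
  obtain ⟨c, hc⟩ := Submodule.mem_span_range_iff_exists_fun F |>.mp
    (hspan ▸ Submodule.mem_top : v₄ ∈ Submodule.span F (Set.range ![v₃, v₁, v₂]))
  by_cases htwo : ∃ i j, i ≠ j ∧ c i ≠ 0 ∧ c j ≠ 0
  · obtain ⟨i, j, hij, hi, hj⟩ := htwo
    exact combo_false S p hM hN hg hgK l3 gd3 hij hi hj (hc ▸ g₄)
  obtain ⟨i, hi⟩ : ∃ i, c i ≠ 0 := by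
    by_contra h
    push Not at h
    exact hn0 g₄ (by rw [← hc]; simp [h])
  have hone : ∀ j, j ≠ i → c j = 0 := fun j hj => by
    by_contra h
    exact htwo ⟨i, j, hj.symm, hi, h⟩
  rw [← hc, Finset.sum_eq_single i (fun j _ hj => by rw [hone j hj, zero_smul])
    (fun h => absurd (Finset.mem_univ i) h), hf.smul_left] at h44
  have := (mul_eq_zero.mp h44).resolve_left hi
  fin_cases i
  exacts [h34 this, h14 this, h24 this]

end Core

end Cfsg.Agent.TU18
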