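import Cfsg.Agent.TU18.End
import Cfsg.Agent.TU18.Finish
import Cfsg.Agent.TU18.TwoThree
import Cfsg.Agent.MaxSub.HermStabStd
import Cfsg.Agent.Lib.Forms.Sesq

/-!
Stabilisers of unitary tensor decompositions are maximal (helper18).
-/

set_option autoImplicit false
set_option linter.unusedSectionVars false

namespace Cfsg.Agent.TU18

open Matrix Cfsg.Agent.MaxSub Cfsg.Agent.TensorMax Module
open scoped Kronecker

variable {F : Type*} [Field F] [Fintype F] {a b n q : ℕ} {σ : F ≃+* F}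

local notation:73 g:74 " ◆ " x:73 => (Units.val g) *ᵥ x

section Product

variable (S : Ctx q σ) {M : Subgroup (GL (Fin a × Fin b) F)} (hM : Hyp σ M)
include S hM

theorem line_fix (hb : 3 ≤ b) {h : GL (Fin a × Fin b) F} (hh : h ∈ M)
    (hK : h ∉ Geo.kroneckerSubgroup a b F) {w w' : Fin b → F} (hw0 : w ≠ 0) (hw : hp σ w w = 0)
    (hw'0 : w' ≠ 0) (hw' : hp σ w' w' = 0) {t t' : F} (ht0 : t ≠ 0)
    (he : h * uB σ a w t * h⁻¹ = uB σ a w' t') :
    ∃ (s : GL (Fin a × Fin b) F) (A : GL (Fin a) F), s ∈ M ∧ s ∉ Geo.kroneckerSubgroup a b F ∧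
      ∀ x, s ◆ emb w x = emb w (A ◆ x) := by
  obtain ⟨H, hH, hHw⟩ := exists_move_iso S hb hw'0 hw' hw0 hw
  have hk : kr (1 : GL (Fin a) F) H ∈ M :=
    hM.kron _ (kr_mem _ _) ⟨kr_isom S (Subgroup.one_mem _) hH.1, det_kr_eq_one (map_one _) hH.2⟩
  set s := kr (1 : GL (Fin a) F) H * h with hs
  have hline : ∀ x, ∃ y, s ◆ emb w x = emb w y := by
    intro x
    obtain ⟨v, hv⟩ := mem_ran.mp (ran_uB S (a := a) hw0 hw ht0 ▸ LinearMap.mem_range_self _ x :
      emb w x ∈ ran ((uB σ a w t : Matrix (Fin a × Fin b) (Fin a × Fin b) F) - 1))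
    have h1 : h ◆ emb w x = emb w' (t' • Cw σ w' (h ◆ v)) := by
      rw [← hv, ← uB_sub_mulVec S hw', ← he, val_conj_sub_one, ← mulVec_mulVec, ← mulVec_mulVec,
        inv_mulVec_mulVec]
    exact ⟨_, by rw [hs, Units.val_mul, ← mulVec_mulVec, h1, kr_emb, hHw]⟩
  obtain ⟨u, -, hu, -⟩ := exists_partner S hw0 hw
  let L : (Fin a → F) →ₗ[F] (Fin a → F) :=
    (Cw σ u).comp ((s : Matrix (Fin a × Fin b) (Fin a × Fin b) F).mulVecLin.comp (emb w))
  set Am := LinearMap.toMatrix' L with hAm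
  have hA : ∀ x, s ◆ emb w x = emb w (Am *ᵥ x) := fun x => by
    obtain ⟨y, hy⟩ := hline x
    have : Am *ᵥ x = y := by
      rw [hAm, LinearMap.toMatrix'_mulVec]
      show Cw σ u (s ◆ emb w x) = y
      rw [hy, Cw_emb S, hu, one_smul]
    rw [this, hy]
  have hdet : Am.det ≠ 0 := fun h0 => by
    obtain ⟨x, hx, hx0⟩ := Matrix.exists_mulVec_eq_zero_iff.mpr h0
    exact hx (emb_eq_zero hw0 (eq_zero_of_mulVec s (by rw [hA, hx0, map_zero])))
  refine ⟨s, Matrix.GeneralLinearGroup.mkOfDetNeZero Am hdet, mul_mem hk hh, fun hsK => hK ?_, hA⟩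
  have := mul_mem (inv_mem (kr_mem (1 : GL (Fin a) F) H)) hsK
  simpa [hs] using this

/-- A group strictly above the stabiliser has every isotropic vector as a centre. -/
theorem product_case (ha : 2 ≤ a) (hab : a < b) (hex : a = 2 → 3 ≤ q)
    {g : GL (Fin a × Fin b) F} (hg : g ∈ M) (hgK : g ∉ Geo.kroneckerSubgroup a b F) :
    ∀ v : Fin a × Fin b → F, hp σ v v = 0 → HermStab.Centre σ (hp σ) M v := by
  obtain ⟨p, hcp⟩ := CharP.exists F
  haveI : Fact p.Prime := ⟨CharP.char_is_prime F p⟩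
  have hb3 : 3 ≤ b := by omega
  suffices hone : ∃ (x : Fin a → F) (w : Fin b → F), x ≠ 0 ∧ hp σ x x = 0 ∧ w ≠ 0 ∧ hp σ w w = 0 ∧
      HermStab.Centre σ (hp σ) M (emb w x) by
    obtain ⟨x, w, hx0, hx, hw0, hw, hc⟩ := hone
    exact all_centres S hM ha (by omega) (base_of_one S hM ha (by omega) hx0 hx hw0 hw hc)
  have hpow : ∀ {r : GL (Fin a × Fin b) F}, ((r : Matrix (Fin a × Fin b) (Fin a × Fin b) F) - 1) *
      ((r : Matrix (Fin a × Fin b) (Fin a × Fin b) F) - 1) = 0 → r ^ p ^ 1 = 1 := fun {r} hr =>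
    Units.ext (by
      rw [pow_one, pow_one_add (add_sub_cancel _ _).symm hr, CharP.cast_eq_zero, zero_smul, add_zero]
      rfl)
  by_cases hB : ∃ h ∈ M, h ∉ Geo.kroneckerSubgroup a b F ∧ ∃ (w : Fin b → F) (t : F), w ≠ 0 ∧
      hp σ w w = 0 ∧ t ≠ 0 ∧ t + σ t = 0 ∧ h * uB σ a w t * h⁻¹ ∈ Geo.kroneckerSubgroup a b F
  · obtain ⟨h, hh, hhK, w, t, hw0, hw, ht0, ht, hmem⟩ := hB
    set r := h * uB σ a w t * h⁻¹ with hr
    have hrM : r ∈ M := mul_mem (mul_mem hh (uB_memM S hM hw ht)) (inv_mem hh)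
    have hrk : ((r : Matrix (Fin a × Fin b) (Fin a × Fin b) F) - 1).rank = a := by
      rw [hr, rank_conj_sub_one, rank_uB S hw0 hw ht0]
    have hr2 : ((r : Matrix (Fin a × Fin b) (Fin a × Fin b) F) - 1) *
        ((r : Matrix (Fin a × Fin b) (Fin a × Fin b) F) - 1) = 0 := by
      rw [hr, val_conj_sub_one]; exact sq_conj h (uB_sq S hw t)
    have hr1 : r ≠ 1 := fun e => by
      rw [e, Units.val_one, sub_self, Matrix.rank_zero] at hrk
      omega
    rcases (classify S p (by omega) hab hmem (hM.le hrM).1 (hpow hr2) hr1 (by omega)).2 with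
      ⟨w', t', e1, e2, -, -, e5⟩ | ⟨x', t', e1, e2, e3, -, e5⟩ | ⟨h3, -⟩
    · obtain ⟨s, A, hs, hsK, hsA⟩ := line_fix S hM (by omega) hh hhK hw0 hw e1 e2 ht0 e5
      obtain ⟨x, hx0, hx, hc⟩ := end_case S hM ha (by omega) hex hw0 hw hs hsK hsA
      exact ⟨x, w, hx0, hx, hw0, hw, hc⟩
    · rw [e5, rank_uA S e1 e2 e3] at hrk
      omega
    · omega
  by_cases hA : ∃ h ∈ M, h ∉ Geo.kroneckerSubgroup a b F ∧ (3 ≤ a ∧ b < 2 * a) ∧
      ∃ (x : Fin a → F) (t : F), x ≠ 0 ∧ hp σ x x = 0 ∧ t ≠ 0 ∧ t + σ t = 0 ∧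
        h * uA σ b x t * h⁻¹ ∈ Geo.kroneckerSubgroup a b F
  · obtain ⟨h, hh, hhK, ⟨ha4, hb2⟩, x, t, hx0, hx, ht0, ht, hmem⟩ := hA
    set r := h * uA σ b x t * h⁻¹ with hr
    have hrM : r ∈ M := mul_mem (mul_mem hh (uA_memM S hM hx ht)) (inv_mem hh)
    have hrk : ((r : Matrix (Fin a × Fin b) (Fin a × Fin b) F) - 1).rank = b := by
      rw [hr, rank_conj_sub_one, rank_uA S hx0 hx ht0]
    have hr2 : ((r : Matrix (Fin a × Fin b) (Fin a × Fin b) F) - 1) *
        ((r : Matrix (Fin a × Fin b) (Fin a × Fin b) F) - 1) = 0 := by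
      rw [hr, val_conj_sub_one]; exact sq_conj h (uA_sq S hx t)
    have hr1 : r ≠ 1 := fun e => by
      rw [e, Units.val_one, sub_self, Matrix.rank_zero] at hrk
      omega
    rcases (classify S p (by omega) hab hmem (hM.le hrM).1 (hpow hr2) hr1 (by omega)).2 with
      ⟨w', t', e1, e2, e3, -, e5⟩ | ⟨x', t', e1, e2, -, -, e5⟩ | ⟨h3, -⟩
    · rw [e5, rank_uB S e1 e2 e3] at hrk
      omega
    · set M' := M.map (sw a b).toMonoidHom with hM'
      have hM'h : Hyp σ M' := by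
        refine ⟨fun k hk => ?_, fun k hkK hk => ⟨sw b a k, hM.kron _ (sw_kron hkK) (sw_su hk), sw_sw k⟩⟩
        obtain ⟨k', hk', rfl⟩ := hk
        exact sw_su (hM.le hk')
      have hhK' : sw a b h ∉ Geo.kroneckerSubgroup b a F := fun hc => hhK (by
        rw [← sw_sw h]; exact sw_kron hc)
      have he : sw a b h * uB σ b x t * (sw a b h)⁻¹ = uB σ b x' t' := by
        rw [← sw_uA S x t, ← map_inv, ← map_mul, ← map_mul, ← hr, e5, sw_uA S]
      obtain ⟨s, A, hs, hsK, hsA⟩ :=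
        line_fix S hM'h (a := b) (b := a) ha4 ⟨h, hh, rfl⟩ hhK' hx0 hx e1 e2 ht0 he
      obtain ⟨y, hy0, hy, hc⟩ := end_case S hM'h (by omega) ha4 (by omega) hx0 hx hs hsK hsA
      refine ⟨x, y, hx0, hx, hy0, hy, ?_⟩
      rw [← emb_swap (a := b) (b := a) x y]
      refine centre_reindex (Equiv.prodComm (Fin b) (Fin a)) S (fun k hk => ?_) hc
      obtain ⟨k', hk', rfl⟩ := hk
      show sw b a (sw a b k') ∈ M
      rw [sw_sw]
      exact hk'
    · omega
  have hN : NoRoot σ M := ⟨fun h hh hhK w t hw0 hw ht0 ht hc =>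
    hB ⟨h, hh, hhK, w, t, hw0, hw, ht0, ht, hc⟩, fun hab' h hh hhK x t hx0 hx ht0 ht hc =>
    hA ⟨h, hh, hhK, hab', x, t, hx0, hx, ht0, ht, hc⟩⟩
  by_cases hb4 : 4 ≤ b
  · exact absurd (noRoot_le S p hM hN ha hab hb4 hg) hgK
  obtain ⟨rfl, rfl⟩ : a = 2 ∧ b = 3 := by omega
  exact absurd (noRoot_le_two_three S p hM hN (hex rfl) hg) hgK

end Product

/-- Coordinates of an orthonormal basis. -/
theorem exists_orth_coords (S : Ctx q σ) {f : (Fin n → F) → (Fin n → F) → F}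
    (hf : Geo.IsUnitaryForm σ f) :
    ∃ B : GL (Fin n) F, (B : Matrix (Fin n) (Fin n) F)ᵀ * Geo.gramMatrix f *
      (B : Matrix (Fin n) (Fin n) F).map σ = 1 := by
  let Bf : (Fin n → F) →ₛₗ[(σ : F →+* F)] (Fin n → F) →ₗ[F] F :=
    LinearMap.mk₂'ₛₗ (σ : F →+* F) (RingHom.id F) (fun x y => f y x)
      (fun x x' y => hadd_right hf y x x') (fun c x y => hsmul_right hf c y x)
      (fun x y y' => hf.add_left y y' x) (fun c x y => hf.smul_left c y x)
  have hBf : ∀ x y, Bf x y = f y x := fun x y => rfl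
  have hσ : (σ : F →+* F) ≠ RingHom.id F := fun h =>
    S.ne_refl (RingEquiv.ext fun x => RingHom.congr_fun h x)
  obtain ⟨v, -, hvo⟩ := Forms.exists_orthonormal_family hσ (fun a => S.inv a) Bf
    ⟨fun x y => by rw [hBf, hBf]; exact (hf.herm x y).symm⟩ n ⊤
    (fun w _ hall => by
      by_contra h0
      obtain ⟨x, hne⟩ := (hf.nondegenerate w h0).1
      exact hne (by rw [← hBf]; exact hall x trivial))
    (by rw [finrank_top, finrank_fin_fun])
  set Bm : Matrix (Fin n) (Fin n) F := Matrix.of fun k i => v i k with hBm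
  have hgram : ∀ x y, f x y = ∑ k, ∑ l, x k * Geo.gramMatrix f k l * σ (y l) := fun x y => by
    conv_lhs => rw [pi_eq_sum_univ' x]
    show hl hf y (∑ k, x k • Pi.single k 1) = _
    rw [map_sum]
    refine Finset.sum_congr rfl fun k _ => ?_
    rw [map_smul, smul_eq_mul, hl_apply, hf.herm]
    conv_lhs => rw [pi_eq_sum_univ' y]
    show _ * σ (hl hf (Pi.single k 1) (∑ l, y l • Pi.single l 1)) = _
    rw [map_sum, map_sum, Finset.mul_sum]
    refine Finset.sum_congr rfl fun l _ => ?_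
    rw [map_smul, smul_eq_mul, map_mul, hl_apply, ← hf.herm, Geo.gramMatrix]
    ring
  have h1 : Bmᵀ * Geo.gramMatrix f * Bm.map σ = 1 := Matrix.ext fun i j => by
    have h2 := hvo j i
    rw [hBf, hgram] at h2
    simp only [Matrix.mul_apply, Matrix.transpose_apply, Matrix.map_apply, hBm, Matrix.of_apply,
      Finset.sum_mul, Matrix.one_apply]
    rw [Finset.sum_comm, h2]
    exact if_congr eq_comm rfl rfl
  have hdet : Bm.det ≠ 0 := fun h => by
    have := congrArg Matrix.det h1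
    rw [Matrix.det_mul, Matrix.det_mul, Matrix.det_transpose, h] at this
    simp at this
  exact ⟨Matrix.GeneralLinearGroup.mkOfDetNeZero Bm hdet, h1⟩

/-- Stabilisers of unitary tensor decompositions are maximal. -/
theorem tensor_isMaximalIn (hF : Fintype.card F = q ^ 2) (hn : 6 ≤ n) {n₁ n₂ : ℕ} (h1 : 2 ≤ n₁)
    (h12 : n₁ < n₂) (hex : ¬ (n₁ = 2 ∧ q = 2)) (e : Fin n ≃ Fin n₁ × Fin n₂) (P : GL (Fin n) F)
    {f₁ : (Fin n₁ → F) → (Fin n₁ → F) → F} {f₂ : (Fin n₂ → F) → (Fin n₂ → F) → F}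
    (hf₁ : Geo.IsUnitaryFormPow q f₁) (hf₂ : Geo.IsUnitaryFormPow q f₂)
    (hT : Geo.IsTensorFormStructure (fun x : F => x ^ q) (hermForm n F q) f₁ f₂ e P) :
    Geo.IsMaximalIn (GU n F q ⊓ Geo.specialLinear (Fin n) F)
      (Geo.tensorProductSubgroup n₁ n₂ e P ⊓ (GU n F q ⊓ Geo.specialLinear (Fin n) F)) := by
  classical
  obtain ⟨σ, hσ, hf⟩ := HermStab.exists_setup (n := n) hF
  have S : Ctx q σ := ⟨hF, hσ, hf.ne_refl, hf.involutive⟩
  have hnm : n = n₁ * n₂ := by simpa using Fintype.card_congr e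
  obtain ⟨B₁, hB₁⟩ := exists_orth_coords S (f := f₁)
    ⟨S.ne_refl, S.inv, hf₁.add_left, hf₁.smul_left, fun v w => by rw [hσ]; exact hf₁.herm v w,
      hf₁.nondegenerate⟩
  obtain ⟨B₂, hB₂⟩ := exists_orth_coords S (f := f₂)
    ⟨S.ne_refl, S.inv, hf₂.add_left, hf₂.smul_left, fun v w => by rw [hσ]; exact hf₂.herm v w,
      hf₂.nondegenerate⟩
  obtain ⟨c, hc0, hT⟩ := hT
  set Q := kr B₁ B₂ with hQ
  set Φ := P * Geo.glReindex e.symm Q with hΦ
  have hΦap : ∀ x : Fin n₁ × Fin n₂ → F, Φ ◆ (x ∘ e) = P ◆ ((Q ◆ x) ∘ e) := fun x => by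
    rw [hΦ, Units.val_mul, ← mulVec_mulVec, reindex_mulVec]
    congr 1
    simp [Function.comp_assoc]
  have hform : ∀ x y : Fin n₁ × Fin n₂ → F,
      hermForm n F q (Φ ◆ (x ∘ e)) (Φ ◆ (y ∘ e)) = c * hp σ x y := fun x y => by
    rw [hΦap, hΦap, hT]
    congr 1
    set G := Geo.gramMatrix f₁ ⊗ₖ Geo.gramMatrix f₂ with hG
    set Qm := (Q : Matrix (Fin n₁ × Fin n₂) (Fin n₁ × Fin n₂) F) with hQm
    have hrel : Qmᵀ * G * Qm.map σ = 1 := by
      have hmap : Qm.map σ = (B₁ : Matrix (Fin n₁) (Fin n₁) F).map σ ⊗ₖ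
          (B₂ : Matrix (Fin n₂) (Fin n₂) F).map σ := Matrix.ext fun p r => by
        simp [hQm, hQ, kr_coe]
      have htr : Qmᵀ = (B₁ : Matrix (Fin n₁) (Fin n₁) F)ᵀ ⊗ₖ (B₂ : Matrix (Fin n₂) (Fin n₂) F)ᵀ :=
        Matrix.ext fun p r => by simp [hQm, hQ, kr_coe]
      rw [hmap, htr, hG, ← Matrix.mul_kronecker_mul, ← Matrix.mul_kronecker_mul, hB₁, hB₂,
        Matrix.one_kronecker_one]
    have hσy : (fun r => (Qm *ᵥ y) r ^ q) = Qm.map σ *ᵥ fun r => σ (y r) := funext fun r => by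
      rw [← hσ, Matrix.mulVec, dotProduct, map_sum]
      simp [Matrix.mulVec, dotProduct]
    have hdot : Geo.formOfGram (fun x : F => x ^ q) G (Qm *ᵥ x) (Qm *ᵥ y) =
        (Qm *ᵥ x) ⬝ᵥ (G *ᵥ fun r => (Qm *ᵥ y) r ^ q) := by
      simp only [Geo.formOfGram, dotProduct, Matrix.mulVec, Finset.mul_sum, mul_assoc]
    rw [hdot, hσy, mulVec_mulVec, dotProduct_mulVec, vecMul_mulVec, ← Matrix.mul_assoc, hrel,
      vecMul_one]
    rfl
  have hcr : σ c = c := by
    have hpos : 0 < n₁ ∧ 0 < n₂ := by omega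
    set x : Fin n₁ × Fin n₂ → F := Pi.single (⟨0, hpos.1⟩, ⟨0, hpos.2⟩) 1
    have h := hform x x
    rw [show hp σ x x = 1 by simp [x, hp_single_right], mul_one] at h
    rw [← h]
    exact (hf.herm _ _).symm
  have hsurj : ∀ v : Fin n → F, ∃ x : Fin n₁ × Fin n₂ → F, Φ ◆ (x ∘ e) = v := fun v =>
    ⟨((Φ⁻¹ : GL (Fin n) F) ◆ v) ∘ e.symm, by
      rw [Function.comp_assoc, Equiv.symm_comp_self, Function.comp_id, mulVec_inv_mulVec]⟩
  let ψ : GL (Fin n₁ × Fin n₂) F →* GL (Fin n) F :=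
    (MulAut.conj Φ).toMonoidHom.comp
      (Geo.glReindex e.symm : GL (Fin n₁ × Fin n₂) F ≃* GL (Fin n) F).toMonoidHom
  have hψ : ∀ g, ψ g = Φ * Geo.glReindex e.symm g * Φ⁻¹ := fun g => rfl
  have hψap : ∀ g (x : Fin n₁ × Fin n₂ → F), ψ g ◆ Φ ◆ (x ∘ e) = Φ ◆ ((g ◆ x) ∘ e) := fun g x => by
    rw [hψ, Units.val_mul, Units.val_mul, ← mulVec_mulVec, ← mulVec_mulVec, inv_mulVec_mulVec,
      reindex_mulVec]
    congr 1
    simp [Function.comp_assoc]
  have hψdet : ∀ g, Matrix.GeneralLinearGroup.det (ψ g) = Matrix.GeneralLinearGroup.det g := fun g => by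
    rw [hψ, map_mul, map_mul, map_inv, mul_inv_cancel_comm]
    exact Units.ext (Matrix.det_reindex_self _ _)
  have hψsu : ∀ g, ψ g ∈ HermStab.su (hermForm n F q) ↔ g ∈ suT σ n₁ n₂ := by
    intro g
    have hiso : ψ g ∈ isom (hermForm n F q) ↔ g ∈ isom (hp σ) := by
      rw [mem_isom, mem_isom]
      constructor
      · intro h x y
        have := h (Φ ◆ (x ∘ e)) (Φ ◆ (y ∘ e))
        rw [hψap, hψap, hform, hform] at this
        exact mul_left_cancel₀ hc0 this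
      · intro h v w
        obtain ⟨x, rfl⟩ := hsurj v
        obtain ⟨y, rfl⟩ := hsurj w
        rw [hψap, hψap, hform, hform, h]
    refine ⟨fun h => ⟨hiso.mp h.1, ?_⟩, fun h => ⟨hiso.mpr h.1, ?_⟩⟩
    · exact (hψdet g).symm.trans h.2
    · exact (hψdet g).trans h.2
  have hψK : ∀ g, ψ g ∈ Geo.tensorProductSubgroup n₁ n₂ e P ↔ g ∈ Geo.kroneckerSubgroup n₁ n₂ F := by
    intro g
    have hQK : Q ∈ Geo.kroneckerSubgroup n₁ n₂ F := kr_mem _ _
    have hψ' : ψ g = MulAut.conj P (Geo.glReindex e.symm (Q * g * Q⁻¹)) := by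
      rw [hψ, hΦ, MulAut.conj_apply, map_mul, map_mul, map_inv]
      group
    constructor
    · rintro ⟨_, ⟨k, hk, rfl⟩, he⟩
      have h2 : k = Q * g * Q⁻¹ := by
        rw [hψ'] at he
        exact (Geo.glReindex e.symm).injective ((MulAut.conj P).injective he)
      have : g = Q⁻¹ * k * Q := by rw [h2]; group
      rw [this]
      exact mul_mem (mul_mem (inv_mem hQK) hk) hQK
    · intro hg
      rw [hψ']
      exact ⟨_, ⟨_, mul_mem (mul_mem hQK hg) (inv_mem hQK), rfl⟩, rfl⟩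
  have hψsurj : ∀ g, ∃ g', ψ g' = g := fun g => by
    refine ⟨(Geo.glReindex e.symm).symm (Φ⁻¹ * g * Φ), ?_⟩
    rw [hψ, MulEquiv.apply_symm_apply]
    group
  rw [← HermStab.su_eq]
  refine isMaximalIn_of inf_le_right ?_ fun M hHM hMG g hg hgH => ?_
  · obtain ⟨x, -, hx0, hx⟩ := HermStab.exists_iso_mem (uf S) (K := (⊤ : Submodule F (Fin n₁ → F)))
      (by rw [finrank_top, finrank_fin_fun]; omega)
    obtain ⟨w, -, hw0, hw⟩ := HermStab.exists_iso_mem (uf S) (K := (⊤ : Submodule F (Fin n₂ → F)))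
      (by rw [finrank_top, finrank_fin_fun]; omega)
    obtain ⟨t, ht0, ht⟩ := exists_skew (uf S (ι := Fin n₁))
    set v := emb w x with hv
    have hvv : hp σ v v = 0 := by rw [hv, hp_emb_emb S, hx, zero_mul]
    have hv0 : v ≠ 0 := fun h => hx0 (emb_eq_zero hw0 h)
    refine ⟨ψ (ut (hp σ) v t), (hψsu _).mpr (HermStab.ut_mem_su (uf S) hvv ht), fun h => ?_⟩
    have hK := (hψK _).mp h.1
    obtain ⟨p, hcp⟩ := CharP.exists F
    haveI : Fact p.Prime := ⟨CharP.char_is_prime F p⟩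
    have hV : ((ut (hp σ) v t : GL (Fin n₁ × Fin n₂) F) : Matrix (Fin n₁ × Fin n₂) (Fin n₁ × Fin n₂) F) - 1 =
        vecMulVec v (t • rep (hp σ) v) := by
      rw [ut, tv_coe (ut_dot (uf S) hvv t), add_sub_cancel_left]
    have hr : (((ut (hp σ) v t : GL (Fin n₁ × Fin n₂) F) :
        Matrix (Fin n₁ × Fin n₂) (Fin n₁ × Fin n₂) F) - 1).rank ≤ 1 := hV ▸ rank_vecMulVec_le _ _
    have hne : ut (hp σ) v t ≠ 1 := fun h1 => by
      obtain ⟨z, hz⟩ := ((uf S).nondegenerate v hv0).1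
      have h2 := ut_mulVec (uf S) hvv t z
      rw [h1, Units.val_one, one_mulVec, left_eq_add, smul_eq_zero, mul_eq_zero] at h2
      rcases h2 with (h2 | h2) | h2
      exacts [ht0 h2, hz h2, hv0 h2]
    have hsq : (ut (hp σ) v t : GL (Fin n₁ × Fin n₂) F) ^ p ^ 1 = 1 := Units.ext (by
      rw [pow_one, pow_one_add (add_sub_cancel _ _).symm (by
        rw [hV, vecMulVec_mul_vecMulVec, ut_dot (uf S) hvv t]; simp), CharP.cast_eq_zero, zero_smul,
        add_zero]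
      rfl)
    have := (classify S p (by omega) h12 hK (ut_mem_isom (uf S) hvv ht) hsq hne (by omega)).1
    omega
  · set M' := M.comap ψ with hM'
    have hM'h : Hyp σ M' := ⟨fun k hk => (hψsu k).mp (hMG hk),
      fun k hkK hk => hHM ⟨(hψK k).mpr hkK, (hψsu k).mpr hk⟩⟩
    obtain ⟨g', rfl⟩ := hψsurj g
    have hgK : g' ∉ Geo.kroneckerSubgroup n₁ n₂ F := fun hc =>
      hgH ⟨(hψK g').mpr hc, hMG hg⟩
    have hcent := product_case S hM'h h1 h12 (fun h2 => by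
      by_contra hq
      exact hex ⟨h2, by have := two_le_q S; omega⟩) (g := g') hg hgK
    refine HermStab.le_of_centres hF hσ hf (by omega) fun v hv => ?_
    obtain ⟨x, rfl⟩ := hsurj v
    have hxx : hp σ x x = 0 := by
      have := hform x x
      rw [hv] at this
      exact (mul_eq_zero.mp this.symm).resolve_left hc0
    refine ⟨hv, fun t ht => ?_⟩
    have e1 : ut (hermForm n F q) (Φ ◆ (x ∘ e)) t = ψ (ut (hp σ) x (t * c)) := gl_ext fun z => by
      obtain ⟨y, rfl⟩ := hsurj z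
      rw [ut_mulVec hf hv, hψap, ut_mulVec (uf S) hxx, hform, ← mulVec_smul, ← mulVec_add]
      congr 1
      funext i
      simp [mul_assoc]
    rw [e1]
    exact (hcent x hxx).2 _ (by rw [map_mul, hcr]; linear_combination c * ht)

end Cfsg.Agent.TU18
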