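import Cfsg.Agent.TU18.Std

/-!
Unipotent elements of small rank in a tensor stabiliser are root elements (helper18).
-/

set_option autoImplicit false
set_option linter.unusedSectionVars false

namespace Cfsg.Agent.TU18

open Matrix Cfsg.Agent.MaxSub Cfsg.Agent.TensorMax Module
open scoped Kronecker

section Linear

variable {F : Type*} [Field F] [Finite F] {a b : ℕ}

/-- A vector of the product as a matrix. -/
def cur (z : Fin a × Fin b → F) : Matrix (Fin a) (Fin b) F := Matrix.of fun i j => z (i, j)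

theorem cur_kron (g : Matrix (Fin a) (Fin a) F) (h : Matrix (Fin b) (Fin b) F)
    (z : Fin a × Fin b → F) : cur ((g ⊗ₖ h) *ᵥ z) = g * cur z * hᵀ := by
  ext i j
  simp only [cur, Matrix.of_apply, Matrix.mulVec, dotProduct, Matrix.kroneckerMap_apply,
    Fintype.sum_prod_type, Matrix.mul_apply, Matrix.transpose_apply, Finset.sum_mul]
  rw [Finset.sum_comm]
  exact Finset.sum_congr rfl fun k _ => Finset.sum_congr rfl fun l _ => by ring

theorem cur_injective : Function.Injective (cur : (Fin a × Fin b → F) → Matrix (Fin a) (Fin b) F) :=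
  fun x y h => funext fun p => congrFun (congrFun h p.1) p.2

theorem cur_add (x y : Fin a × Fin b → F) : cur (x + y) = cur x + cur y := rfl

theorem cur_smul (c : F) (x : Fin a × Fin b → F) : cur (c • x) = c • cur x := rfl

theorem sq_zero_of_rank_one {n : ℕ} {M : Matrix (Fin n) (Fin n) F} (hM : IsNilpotent M)
    (h1 : M.rank ≤ 1) : M * M = 0 := by
  by_contra hne
  have hlt : mp M (ran M) = ran M := by
    refine Submodule.eq_of_le_of_finrank_le LinearMap.map_le_range ?_
    have h2 : ran (M * M) ≠ ⊥ := fun h => hne (ran_eq_bot_iff.mp h)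
    rw [ran_mul] at h2
    have h3 := Submodule.one_le_finrank_iff.mpr h2
    rw [rank_def] at h1
    omega
  obtain ⟨k, hk⟩ := hM
  have hpow : ∀ i : ℕ, ran (M ^ (i + 1)) = ran M := by
    intro i
    induction i with
    | zero => rw [zero_add, pow_one]
    | succ i ih => rw [pow_succ', ran_mul, ih, hlt]
  have h4 : M = 0 := ran_eq_bot_iff.mp (by
    rw [← hpow k, pow_eq_zero_of_le (Nat.le_succ k) hk, ran_eq_bot_iff.mpr rfl])
  exact hne (by rw [h4, zero_mul])

variable {g : GL (Fin a) F} {h : GL (Fin b) F}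

theorem fixed_rel {z : Fin a × Fin b → F}
    (hz : (kr g h : Matrix (Fin a × Fin b) (Fin a × Fin b) F) *ᵥ z = z) :
    cur z * ((h : Matrix (Fin b) (Fin b) F) - 1)ᵀ =
      -(((g⁻¹ : GL (Fin a) F) : Matrix (Fin a) (Fin a) F) * ((g : Matrix (Fin a) (Fin a) F) - 1)) *
        cur z := by
  have h1 : (g : Matrix (Fin a) (Fin a) F) * cur z * (h : Matrix (Fin b) (Fin b) F)ᵀ = cur z := by
    rw [← cur_kron, ← kr_coe, hz]
  have h2 : cur z * (h : Matrix (Fin b) (Fin b) F)ᵀ =
      ((g⁻¹ : GL (Fin a) F) : Matrix (Fin a) (Fin a) F) * cur z := by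
    conv_rhs => rw [← h1, ← Matrix.mul_assoc, ← Matrix.mul_assoc, Units.inv_mul, Matrix.one_mul]
  rw [Matrix.transpose_sub, Matrix.transpose_one, Matrix.mul_sub, h2, Matrix.mul_one, mul_sub,
    Units.inv_mul, mul_one, neg_sub, Matrix.sub_mul, Matrix.one_mul]

theorem pow_rel {z : Fin a × Fin b → F} {M : Matrix (Fin b) (Fin b) F} {N : Matrix (Fin a) (Fin a) F}
    (hz : cur z * M = N * cur z) (k : ℕ) : cur z * M ^ k = N ^ k * cur z := by
  induction k with
  | zero => simp
  | succ k ih => rw [pow_succ, ← Matrix.mul_assoc, ih, Matrix.mul_assoc, hz, ← Matrix.mul_assoc, ← pow_succ]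

/-- A solution vanishing on a complement of the image vanishes. -/
theorem eq_zero_of_vanish {z : Fin a × Fin b → F} {M : Matrix (Fin b) (Fin b) F}
    {N : Matrix (Fin a) (Fin a) F} (hz : cur z * M = N * cur z) (hM : IsNilpotent M)
    {C : Submodule F (Fin b → F)} (hC : C ⊔ ran M = ⊤) (h0 : ∀ c ∈ C, cur z *ᵥ c = 0) : z = 0 := by
  obtain ⟨k, hk⟩ := hM
  have hclaim : ∀ d i : ℕ, k ≤ i + d → ∀ v : Fin b → F, cur z *ᵥ (M ^ i *ᵥ v) = 0 := by
    intro d
    induction d with
    | zero => intro i hi v; rw [pow_eq_zero_of_le (by omega) hk, zero_mulVec, mulVec_zero]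
    | succ d ih =>
      intro i hi v
      have hv : v ∈ C ⊔ ran M := hC ▸ Submodule.mem_top
      obtain ⟨c, hc, _, ⟨w, rfl⟩, rfl⟩ := Submodule.mem_sup.mp hv
      rw [mulVecLin_apply, mulVec_add, mulVec_add, mulVec_mulVec c (cur z), pow_rel hz, ← mulVec_mulVec,
        h0 c hc, mulVec_zero, zero_add, mulVec_mulVec w (M ^ i), ← pow_succ]
      exact ih (i + 1) (by omega) w
  refine cur_injective (Matrix.ext fun i j => ?_)
  have := congrFun (hclaim k 0 (by omega) (Pi.single j 1)) i
  rw [pow_zero, one_mulVec, mulVec_single_one] at this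
  exact this

variable (hN : IsNilpotent ((g : Matrix (Fin a) (Fin a) F) - 1))
variable (hM : IsNilpotent ((h : Matrix (Fin b) (Fin b) F) - 1))
include hN hM

theorem rank_left_le :
    a * ((h : Matrix (Fin b) (Fin b) F) - 1).rank ≤
      ((kr g h : Matrix (Fin a × Fin b) (Fin a × Fin b) F) - 1).rank := by
  have _ := hN
  set K := LinearMap.ker ((kr g h : Matrix (Fin a × Fin b) (Fin a × Fin b) F) - 1).mulVecLin
  set M := ((h : Matrix (Fin b) (Fin b) F) - 1)ᵀ with hMdef
  have hMn : IsNilpotent M := by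
    obtain ⟨k, hk⟩ := hM
    exact ⟨k, by rw [hMdef, ← Matrix.transpose_pow, hk, Matrix.transpose_zero]⟩
  obtain ⟨C, hC⟩ := Submodule.exists_isCompl (ran M)
  let Φ : K →ₗ[F] (C →ₗ[F] (Fin a → F)) :=
    { toFun := fun z => (cur (z : Fin a × Fin b → F)).mulVecLin.comp C.subtype
      map_add' := fun x y => by
        ext c : 1
        simp [← add_mulVec]; rfl
      map_smul' := fun r x => by
        ext c : 1
        simp [← smul_mulVec]; rfl }
  have hΦ : Function.Injective Φ := (injective_iff_map_eq_zero Φ).mpr fun z hz => Subtype.ext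
    (eq_zero_of_vanish (fixed_rel (by
      have := z.2
      rw [LinearMap.mem_ker, mulVecLin_apply, sub_mulVec, one_mulVec, sub_eq_zero] at this
      exact this)) hMn (by rw [sup_comm]; exact hC.sup_eq_top) fun c hc =>
        LinearMap.congr_fun hz ⟨c, hc⟩)
  have h1 := LinearMap.finrank_le_finrank_of_injective hΦ
  rw [Module.finrank_linearMap, Module.finrank_fin_fun] at h1
  have h2 := Submodule.finrank_add_eq_of_isCompl hC
  rw [Module.finrank_fin_fun] at h2
  have h3 := LinearMap.finrank_range_add_finrank_ker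
    ((kr g h : Matrix (Fin a × Fin b) (Fin a × Fin b) F) - 1).mulVecLin
  rw [Module.finrank_fintype_fun_eq_card, Fintype.card_prod, Fintype.card_fin, Fintype.card_fin] at h3
  have h4 : M.rank = ((h : Matrix (Fin b) (Fin b) F) - 1).rank := Matrix.rank_transpose _
  simp only [rank_def] at h4 ⊢
  have h5 : a * finrank F (ran M) + finrank F C * a = a * b := by
    rw [mul_comm (finrank F C) a, ← Nat.mul_add, h2]
  rw [← h4]
  simp only [K, ran] at h1 h3 h5 ⊢
  omega

theorem rank_pair_le (hN1 : ((g : Matrix (Fin a) (Fin a) F) - 1).rank = 1)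
    (hM1 : ((h : Matrix (Fin b) (Fin b) F) - 1).rank = 1) :
    a + b ≤ ((kr g h : Matrix (Fin a × Fin b) (Fin a × Fin b) F) - 1).rank + 2 := by
  set K := LinearMap.ker ((kr g h : Matrix (Fin a × Fin b) (Fin a × Fin b) F) - 1).mulVecLin
  set N := (g : Matrix (Fin a) (Fin a) F) - 1 with hNdef
  set M := ((h : Matrix (Fin b) (Fin b) F) - 1)ᵀ with hMdef
  have hMn : IsNilpotent M := by
    obtain ⟨k, hk⟩ := hM
    exact ⟨k, by rw [hMdef, ← Matrix.transpose_pow, hk, Matrix.transpose_zero]⟩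
  have hM1' : M.rank = 1 := (Matrix.rank_transpose _).trans hM1
  have hMM : M * M = 0 := sq_zero_of_rank_one hMn hM1'.le
  set W := LinearMap.ker M.mulVecLin with hW
  have hle : ran M ≤ W := by
    rintro _ ⟨v, rfl⟩
    simp [hW, mulVec_mulVec, hMM]
  have hWd := LinearMap.finrank_range_add_finrank_ker M.mulVecLin
  rw [Module.finrank_fin_fun] at hWd
  obtain ⟨C0, hC0⟩ := Submodule.exists_isCompl ((ran M).comap W.subtype)
  obtain ⟨c1, hc1⟩ : ∃ c, c ∉ W := by
    by_contra hc
    push Not at hc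
    have hM0 : M = 0 := Matrix.toLin'.injective (LinearMap.ext fun v => by
      have h := hc v
      simp only [hW, LinearMap.mem_ker, mulVecLin_apply] at h
      simpa using h)
    rw [hM0, Matrix.rank_zero] at hM1'
    exact zero_ne_one hM1'
  set g' := ((g⁻¹ : GL (Fin a) F) : Matrix (Fin a) (Fin a) F)
  have hrel : ∀ z : K, cur (z : Fin a × Fin b → F) * M = -(g' * N) * cur (z : Fin a × Fin b → F) :=
    fun z => fixed_rel (by
      have := z.2
      rw [LinearMap.mem_ker, mulVecLin_apply, sub_mulVec, one_mulVec, sub_eq_zero] at this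
      exact this)
  have hker : ∀ (z : K) (c : C0),
      cur (z : Fin a × Fin b → F) *ᵥ ((c : W) : Fin b → F) ∈ LinearMap.ker N.mulVecLin := by
    intro z c
    have hMc : M *ᵥ ((c : W) : Fin b → F) = 0 := (c : W).2
    have h1 := congrArg (· *ᵥ ((c : W) : Fin b → F)) (hrel z)
    simp only [← mulVec_mulVec, hMc, mulVec_zero, neg_mulVec, zero_eq_neg] at h1
    rw [LinearMap.mem_ker, mulVecLin_apply]
    exact TensorMax_inj g⁻¹ (by rw [h1, mulVec_zero])
  let Φ : K →ₗ[F] (C0 →ₗ[F] LinearMap.ker N.mulVecLin) × (Fin a → F) :=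
    { toFun := fun z => (((cur (z : Fin a × Fin b → F)).mulVecLin.comp
        (W.subtype.comp C0.subtype)).codRestrict _ (hker z), cur (z : Fin a × Fin b → F) *ᵥ c1)
      map_add' := fun x y => by
        refine Prod.ext (LinearMap.ext fun c => Subtype.ext ?_) ?_ <;>
          simp [cur_add, add_mulVec] <;> rfl
      map_smul' := fun r x => by
        refine Prod.ext (LinearMap.ext fun c => Subtype.ext ?_) ?_ <;>
          simp [cur_smul, smul_mulVec] <;> rfl }
  have hΦ : Function.Injective Φ := by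
    refine (injective_iff_map_eq_zero Φ).mpr fun z hz => Subtype.ext ?_
    refine eq_zero_of_vanish (hrel z) hMn (C := C0.map W.subtype ⊔ Submodule.span F {c1}) ?_ ?_
    · have hWle : W ≤ C0.map W.subtype ⊔ ran M := by
        intro v hv
        have : (⟨v, hv⟩ : W) ∈ (ran M).comap W.subtype ⊔ C0 := hC0.sup_eq_top ▸ Submodule.mem_top
        obtain ⟨r, hr, c, hc, hrc⟩ := Submodule.mem_sup.mp this
        have hv' : v = (r : Fin b → F) + (c : Fin b → F) := (congrArg Subtype.val hrc).symm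
        rw [hv', add_comm]
        exact Submodule.add_mem_sup ⟨c, hc, rfl⟩ hr
      have htop : W ⊔ Submodule.span F {c1} = ⊤ := by
        refine Submodule.eq_top_of_finrank_eq (le_antisymm (Submodule.finrank_le _) ?_)
        have hlt : W < W ⊔ Submodule.span F {c1} := lt_of_le_of_ne le_sup_left fun he =>
          hc1 (he ▸ Submodule.mem_sup_right (Submodule.mem_span_singleton_self c1))
        have h2 := Submodule.finrank_lt_finrank_of_lt hlt
        have hWd' : finrank F W + 1 = b := by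
          rw [rank_def] at hM1'
          simp only [ran] at hM1'
          rw [hW]
          omega
        rw [Module.finrank_fin_fun]
        omega
      refine eq_top_iff.mpr (htop ▸ sup_le (hWle.trans ?_) ?_)
      · exact sup_le (le_sup_left.trans le_sup_left) le_sup_right
      · exact le_sup_right.trans le_sup_left
    · intro c hc
      obtain ⟨_, ⟨c', hc', rfl⟩, _, hr, rfl⟩ := Submodule.mem_sup.mp hc
      obtain ⟨r, rfl⟩ := Submodule.mem_span_singleton.mp hr
      have h1 := congrArg Subtype.val (LinearMap.congr_fun (congrArg Prod.fst hz) ⟨c', hc'⟩)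
      have h2 : cur (z : Fin a × Fin b → F) *ᵥ c1 = 0 := congrArg Prod.snd hz
      rw [mulVec_add, mulVec_smul, h2, smul_zero, add_zero]
      exact h1
  have h1 := LinearMap.finrank_le_finrank_of_injective hΦ
  haveI : Module.Free F C0 := Module.Free.of_divisionRing F C0
  haveI : Module.Free F (LinearMap.ker N.mulVecLin) := Module.Free.of_divisionRing F _
  haveI : Module.Finite F C0 := FiniteDimensional.finiteDimensional_submodule C0
  haveI : Module.Free F (C0 →ₗ[F] LinearMap.ker N.mulVecLin) := Module.Free.of_basis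
    ((Module.finBasis F C0).linearMap (Module.finBasis F (LinearMap.ker N.mulVecLin)))
  have hl := Module.finrank_linearMap F F C0 (LinearMap.ker N.mulVecLin)
  rw [Module.finrank_prod, hl, Module.finrank_fin_fun] at h1
  have h2 := Submodule.finrank_add_eq_of_isCompl hC0
  rw [(Submodule.comapSubtypeEquivOfLe hle).finrank_eq] at h2
  have h3 := LinearMap.finrank_range_add_finrank_ker
    ((kr g h : Matrix (Fin a × Fin b) (Fin a × Fin b) F) - 1).mulVecLin
  rw [Module.finrank_fintype_fun_eq_card, Fintype.card_prod, Fintype.card_fin, Fintype.card_fin] at h3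
  have h4 := LinearMap.finrank_range_add_finrank_ker N.mulVecLin
  rw [Module.finrank_fin_fun] at h4
  simp only [rank_def, ran] at hN1 hM1' h2 ⊢
  have hWe : finrank F W = finrank F (LinearMap.ker M.mulVecLin) := rfl
  obtain ⟨n', hn'⟩ : ∃ n', b = n' + 2 := ⟨b - 2, by
    have : finrank F (LinearMap.range M.mulVecLin) ≤ finrank F W := Submodule.finrank_mono hle
    omega⟩
  have hC : finrank F C0 = n' := by omega
  have hNk : finrank F (LinearMap.ker N.mulVecLin) + 1 = a := by omega
  rw [hC] at h1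
  simp only [K] at h1
  obtain ⟨a', rfl⟩ : ∃ a', a = a' + 1 := ⟨a - 1, by omega⟩
  have hNk' : finrank F (LinearMap.ker N.mulVecLin) = a' := by omega
  rw [hNk'] at h1
  subst hn'
  have e1 : (a' + 1) * (n' + 2) = n' * a' + (2 * a' + n' + 2) := by ring
  omega
where
  TensorMax_inj (k : GL (Fin a) F) {v : Fin a → F}
      (hv : (k : Matrix (Fin a) (Fin a) F) *ᵥ v = (k : Matrix (Fin a) (Fin a) F) *ᵥ 0) : v = 0 :=
    MaxSub.mulVec_injective k hv

omit hN hM in
theorem rank_kron_one_le {N : Matrix (Fin a) (Fin a) F} {B : Matrix (Fin b) (Fin b) F}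
    (hN1 : N.rank ≤ 1) (hB1 : B.rank ≤ 1) : (N ⊗ₖ B).rank ≤ 1 := by
  obtain ⟨⟨α, hα⟩, hαs⟩ := finrank_le_one_iff.mp (rank_def N ▸ hN1)
  obtain ⟨⟨γ, hγ⟩, hγs⟩ := finrank_le_one_iff.mp (rank_def B ▸ hB1)
  have hle : ran (N ⊗ₖ B) ≤ Submodule.span F {emb γ α} := by
    rintro _ ⟨z, rfl⟩
    have h1 : cur ((N ⊗ₖ B) *ᵥ z) = N * cur z * Bᵀ := cur_kron _ _ _
    choose r hr using fun j => hαs ⟨_, ⟨(cur z * Bᵀ) *ᵥ Pi.single j 1, rfl⟩⟩
    choose s hs using fun i => hγs ⟨_, ⟨(N * cur z)ᵀ *ᵥ Pi.single i 1, rfl⟩⟩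
    have hr' : ∀ i j, cur ((N ⊗ₖ B) *ᵥ z) i j = r j * α i := fun i j => by
      have := congrFun (congrArg Subtype.val (hr j)) i
      simp only [SetLike.val_smul, Pi.smul_apply, smul_eq_mul, mulVecLin_apply, mulVec_mulVec,
        mulVec_single_one] at this
      rw [h1, Matrix.mul_assoc, this]; rfl
    have hs' : ∀ i j, cur ((N ⊗ₖ B) *ᵥ z) i j = s i * γ j := fun i j => by
      have := congrFun (congrArg Subtype.val (hs i)) j
      simp only [SetLike.val_smul, Pi.smul_apply, smul_eq_mul, mulVecLin_apply, mulVec_mulVec,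
        mulVec_single_one] at this
      rw [h1, this]
      simp [Matrix.col, Matrix.mulVec, dotProduct, Matrix.mul_apply, Finset.mul_sum, mul_comm]
    rw [mulVecLin_apply, Submodule.mem_span_singleton]
    by_cases hg : γ = 0
    · refine ⟨0, funext fun p => ?_⟩
      have := hs' p.1 p.2
      rw [hg] at this
      simpa [cur] using this.symm
    obtain ⟨j₀, hj₀⟩ := Function.ne_iff.mp hg
    refine ⟨r j₀ / γ j₀, funext fun p => ?_⟩
    show _ = cur ((N ⊗ₖ B) *ᵥ z) p.1 p.2
    rw [hs', Pi.smul_apply, smul_eq_mul, emb_apply]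
    have h2 : s p.1 * γ j₀ = r j₀ * α p.1 := (hs' _ _).symm.trans (hr' _ _)
    rw [div_mul_eq_mul_div, ← mul_assoc, ← h2, mul_div_assoc, mul_comm (s p.1) (γ j₀)]
    field_simp
    rw [mul_assoc]
    exact mul_div_cancel_left₀ _ hj₀
  exact (Submodule.finrank_mono hle).trans ((finrank_span_le_card _).trans (by simp))

end Linear

section Unitary

variable {F : Type*} [Field F] [Fintype F] {a b q : ℕ} {σ : F ≃+* F} (S : Ctx q σ)
include S

/-- An isometry with one-dimensional nilpotent displacement is a transvection. -/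
theorem exists_ut {h : GL (Fin b) F} (hh : h ∈ isom (hp σ))
    (hn : IsNilpotent ((h : Matrix (Fin b) (Fin b) F) - 1))
    (h1 : ((h : Matrix (Fin b) (Fin b) F) - 1).rank = 1) :
    ∃ (w : Fin b → F) (t : F), w ≠ 0 ∧ hp σ w w = 0 ∧ t ≠ 0 ∧ t + σ t = 0 ∧ h = ut (hp σ) w t := by
  set M := (h : Matrix (Fin b) (Fin b) F) - 1 with hM
  obtain ⟨⟨w, hw⟩, hw0, hspan⟩ := finrank_eq_one_iff'.mp h1
  have hw0' : w ≠ 0 := fun e => hw0 (Subtype.ext e)
  choose c hc using fun v => hspan ⟨_, ⟨v, rfl⟩⟩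
  have hMv : ∀ v, M *ᵥ v = c v • w := fun v => (congrArg Subtype.val (hc v)).symm
  have hMM := sq_zero_of_rank_one hn h1.le
  have happ : ∀ v, (h : Matrix (Fin b) (Fin b) F) *ᵥ v = v + c v • w := fun v => by
    have := hMv v
    rw [hM, sub_mulVec, one_mulVec] at this
    rw [← this, add_sub_cancel]
  have hcw : c w = 0 := by
    obtain ⟨u, hu⟩ := hw
    have h2 : M *ᵥ w = 0 := by
      rw [← hu, mulVecLin_apply, mulVec_mulVec, hMM, zero_mulVec]
    rw [hMv] at h2
    exact (smul_eq_zero.mp h2).resolve_right hw0'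
  have hrel : ∀ x y, σ (c y) * hp σ x w + c x * hp σ w y + c x * σ (c y) * hp σ w w = 0 := by
    intro x y
    have := mem_isom.mp hh x y
    rw [happ, happ, (uf S).add_left, hadd_right (uf S), hadd_right (uf S), (uf S).smul_left,
      (uf S).smul_left, hsmul_right (uf S), hsmul_right (uf S)] at this
    linear_combination this
  obtain ⟨u, hu⟩ : ∃ u, c u ≠ 0 := by
    by_contra hc0
    push Not at hc0
    have : M = 0 := Matrix.toLin'.injective (LinearMap.ext fun v => by simp [hMv, hc0])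
    rw [this, Matrix.rank_zero] at h1
    exact zero_ne_one h1
  have hwy : ∀ y, hp σ w y = -(hp σ u w / c u) * σ (c y) - hp σ w w * σ (c y) := fun y => by
    have := hrel u y
    field_simp
    linear_combination this
  obtain ⟨y₁, hy₁⟩ := ((uf S).nondegenerate w hw0').2
  obtain ⟨y₀, hy₀⟩ := ((uf S).nondegenerate w hw0').1
  have hww : hp σ w w = 0 := by
    have h3 : hp σ w w = -(hp σ u w / c u) * σ (c w) - hp σ w w * σ (c w) := hwy w
    rwa [hcw, map_zero, mul_zero, mul_zero, sub_zero] at h3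
  have hlin : ∀ y, hp σ w y = -(hp σ u w / c u) * σ (c y) := fun y => by
    rw [hwy y, hww, zero_mul, sub_zero]
  have hs0 : hp σ u w / c u ≠ 0 := by
    intro h0
    have := ((uf S).nondegenerate w hw0')
    rcases this with ⟨⟨y, hy⟩, ⟨y', hy'⟩⟩
    first
      | exact hy (by rw [hlin y, h0, neg_zero, zero_mul])
      | exact hy' (by rw [hlin y', h0, neg_zero, zero_mul])
  set s := hp σ u w / c u
  set t := -(σ s)⁻¹ with ht
  have hσs : σ s ≠ 0 := (map_ne_zero σ).mpr hs0
  have hcx : ∀ x, c x = t * hp σ x w := fun x => by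
    have h3 := congrArg σ (hlin x)
    rw [map_mul, map_neg, S.inv, ← (uf S).herm] at h3
    rw [h3, ht]
    field_simp
  have hskew : t + σ t = 0 := by
    obtain ⟨x, hx⟩ : ∃ x, hp σ x w ≠ 0 := ⟨u, fun h0 => hu (by rw [hcx, h0, mul_zero])⟩
    have h3 := hrel x x
    rw [hww, mul_zero, add_zero, hcx, map_mul, (uf S).herm w x] at h3
    have h4 : (t + σ t) * (hp σ x w * σ (hp σ x w)) = 0 := by linear_combination h3
    exact (mul_eq_zero.mp h4).resolve_right (mul_ne_zero hx ((map_ne_zero σ).mpr hx))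
  refine ⟨w, t, hw0', hww, neg_ne_zero.mpr (inv_ne_zero hσs), hskew, MaxSub.gl_ext fun x => ?_⟩
  rw [happ, ut_mulVec (uf S) hww, hcx]

/-- An element of the product is a root element of the second kind. -/
def IsRootB (σ : F ≃+* F) (z : GL (Fin a × Fin b) F) : Prop :=
  ∃ (w : Fin b → F) (t : F), w ≠ 0 ∧ hp σ w w = 0 ∧ t ≠ 0 ∧ t + σ t = 0 ∧ z = uB σ a w t

/-- An element of the product is a root element of the first kind. -/
def IsRootA (σ : F ≃+* F) (z : GL (Fin a × Fin b) F) : Prop :=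
  ∃ (x : Fin a → F) (t : F), x ≠ 0 ∧ hp σ x x = 0 ∧ t ≠ 0 ∧ t + σ t = 0 ∧ z = uA σ b x t

variable (p : ℕ) [Fact p.Prime] [CharP F p]

theorem kron_split (ha : 1 ≤ a) (hb : 1 ≤ b) {z : GL (Fin a × Fin b) F}
    (hz : z ∈ Geo.kroneckerSubgroup a b F) {j : ℕ} (hzp : z ^ p ^ j = 1) :
    ∃ (g : GL (Fin a) F) (h : GL (Fin b) F), z = kr g h ∧
      IsNilpotent ((g : Matrix (Fin a) (Fin a) F) - 1) ∧
      IsNilpotent ((h : Matrix (Fin b) (Fin b) F) - 1) := by
  haveI : Nonempty (Fin a) := ⟨⟨0, ha⟩⟩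
  haveI : Nonempty (Fin b) := ⟨⟨0, hb⟩⟩
  obtain ⟨g, h, hgh⟩ := hz
  have hz' : z = kr g h := Units.ext hgh
  have hpow : ∀ n : ℕ, kr g h ^ n = kr (g ^ n) (h ^ n) := fun n => by
    induction n with
    | zero => rw [pow_zero, pow_zero, pow_zero]; exact Units.ext Matrix.one_kronecker_one.symm
    | succ n ih =>
      rw [pow_succ, ih, pow_succ, pow_succ]
      exact Units.ext (by rw [Units.val_mul, kr_coe, kr_coe, kr_coe, Units.val_mul, Units.val_mul,
        ← Matrix.mul_kronecker_mul])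
  set P := p ^ j
  have h1 : ((g ^ P : GL (Fin a) F) : Matrix (Fin a) (Fin a) F) ⊗ₖ
      ((h ^ P : GL (Fin b) F) : Matrix (Fin b) (Fin b) F) = 1 := by
    rw [← kr_coe, ← hpow, ← hz', hzp, Units.val_one]
  set i₀ : Fin b := ⟨0, hb⟩
  have hent : ∀ i k j l, ((g ^ P : GL (Fin a) F) : Matrix (Fin a) (Fin a) F) i k *
      ((h ^ P : GL (Fin b) F) : Matrix (Fin b) (Fin b) F) j l =
        if i = k ∧ j = l then 1 else 0 := fun i k j l => by
    have := congrFun (congrFun h1 (i, j)) (k, l)
    rw [Matrix.kroneckerMap_apply, Matrix.one_apply] at this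
    rw [this]
    simp [Prod.ext_iff]
  set d := ((h ^ P : GL (Fin b) F) : Matrix (Fin b) (Fin b) F) i₀ i₀ with hd
  have hd0 : d ≠ 0 := fun h0 => by
    have := hent ⟨0, ha⟩ ⟨0, ha⟩ i₀ i₀
    rw [← hd, h0, mul_zero] at this
    simp at this
  have hgP : ((g ^ P : GL (Fin a) F) : Matrix (Fin a) (Fin a) F) = d⁻¹ • 1 := Matrix.ext fun i k => by
    have := hent i k i₀ i₀
    rw [← hd] at this
    rw [Matrix.smul_apply, smul_eq_mul, Matrix.one_apply]
    by_cases hik : i = k
    · simp only [hik, and_self, if_true] at this ⊢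
      field_simp at this ⊢
      linear_combination this
    · simp only [hik, false_and, if_false, mul_eq_zero, hd0, or_false] at this ⊢
      simp [this]
  obtain ⟨μ, hμ⟩ : ∃ μ : F, μ ^ P = d⁻¹ := by
    haveI : ExpChar F p := ExpChar.prime Fact.out
    have hbij : Function.Bijective (fun x : F => x ^ P) :=
      Finite.injective_iff_bijective.mp (iterateFrobenius_inj F p j)
    exact hbij.2 _
  have hμ0 : μ ≠ 0 := fun h0 => by
    rw [h0, zero_pow (pow_ne_zero _ (Fact.out : p.Prime).ne_zero)] at hμ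
    exact inv_ne_zero hd0 hμ.symm
  let μu : GL (Fin a) F := Units.map (algebraMap F (Matrix (Fin a) (Fin a) F)).toMonoidHom (Units.mk0 μ hμ0)
  let μv : GL (Fin b) F := Units.map (algebraMap F (Matrix (Fin b) (Fin b) F)).toMonoidHom (Units.mk0 μ hμ0)
  refine ⟨μu⁻¹ * g, μv * h, ?_, ⟨P, ?_⟩, ⟨P, ?_⟩⟩
  · rw [hz']
    refine Units.ext ?_
    rw [kr_coe, kr_coe, Units.val_mul, Units.val_mul, Matrix.mul_kronecker_mul]
    have : (((μu⁻¹ : GL (Fin a) F)) : Matrix (Fin a) (Fin a) F) ⊗ₖ
        ((μv : GL (Fin b) F) : Matrix (Fin b) (Fin b) F) = 1 := by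
      ext p r
      simp [μu, μv, Algebra.algebraMap_eq_smul_one, Matrix.one_apply, Prod.ext_iff]
      split_ifs <;> simp_all
    rw [this, one_mul]
  · rw [← pow_sub_one p, Units.val_mul, Commute.mul_pow, ← Units.val_pow_eq_pow_val g,
      ← Units.val_pow_eq_pow_val μu⁻¹, hgP]
    · simp [μu, ← map_pow, ← hμ, Algebra.algebraMap_eq_smul_one, smul_smul, hμ0, P]
    · exact (Algebra.commutes _ _)
  · have hhP : ((h ^ P : GL (Fin b) F) : Matrix (Fin b) (Fin b) F) = d • 1 := Matrix.ext fun j l => by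
      have := hent ⟨0, ha⟩ ⟨0, ha⟩ j l
      rw [hgP, Matrix.smul_apply, Matrix.one_apply_eq, smul_eq_mul, mul_one] at this
      rw [Matrix.smul_apply, smul_eq_mul, Matrix.one_apply]
      field_simp at this
      rw [this]
      simp
    rw [← pow_sub_one p, Units.val_mul, Commute.mul_pow, ← Units.val_pow_eq_pow_val h, hhP]
    · have hμ' : μ ^ p ^ j = d⁻¹ := hμ
      simp [μv, smul_pow, hμ', Algebra.algebraMap_eq_smul_one, smul_smul, mul_inv_cancel₀ hd0]
    · exact (Algebra.commutes _ _)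

/-- Classification of the unipotent elements of rank less than `2 * a`. -/
theorem classify (ha : 1 ≤ a) (hab : a < b) {z : GL (Fin a × Fin b) F}
    (hz : z ∈ Geo.kroneckerSubgroup a b F) (hzi : z ∈ isom (hp σ)) {j : ℕ} (hzp : z ^ p ^ j = 1)
    (hz1 : z ≠ 1) (hR : ((z : Matrix (Fin a × Fin b) (Fin a × Fin b) F) - 1).rank < 2 * a) :
    a ≤ ((z : Matrix (Fin a × Fin b) (Fin a × Fin b) F) - 1).rank ∧
    (IsRootB σ z ∨ IsRootA σ z ∨
      (a + b ≤ ((z : Matrix (Fin a × Fin b) (Fin a × Fin b) F) - 1).rank + 2 ∧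
        ∃ (g : GL (Fin a) F) (h : GL (Fin b) F), z = kr g h ∧
          ((g : Matrix (Fin a) (Fin a) F) - 1).rank ≤ 1 ∧
          ((h : Matrix (Fin b) (Fin b) F) - 1).rank ≤ 1 ∧
          ((h : Matrix (Fin b) (Fin b) F) - 1) * ((h : Matrix (Fin b) (Fin b) F) - 1) = 0)) := by
  obtain ⟨g, h, rfl, hgn, hhn⟩ := kron_split S p ha (by omega) hz hzp
  have h1 := rank_left_le hgn hhn
  have h2 : b * ((g : Matrix (Fin a) (Fin a) F) - 1).rank ≤
      ((kr g h : Matrix (Fin a × Fin b) (Fin a × Fin b) F) - 1).rank := by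
    refine (rank_left_le hhn hgn).trans (le_of_eq ?_)
    rw [← sw_kr, show ((sw a b (kr g h) : GL (Fin b × Fin a) F) : Matrix (Fin b × Fin a) (Fin b × Fin a) F) =
      Matrix.reindex (Equiv.prodComm _ _) (Equiv.prodComm _ _)
        (kr g h : Matrix (Fin a × Fin b) (Fin a × Fin b) F) from rfl]
    have := ClMax99.TensorRank.rank_reindex_sub (Equiv.prodComm (Fin a) (Fin b))
      (kr g h : Matrix (Fin a × Fin b) (Fin a × Fin b) F) 1
    rwa [one_smul, one_smul] at this
  set R := ((kr g h : Matrix (Fin a × Fin b) (Fin a × Fin b) F) - 1).rank with hRdef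
  set rM := ((h : Matrix (Fin b) (Fin b) F) - 1).rank with hrM
  set rN := ((g : Matrix (Fin a) (Fin a) F) - 1).rank with hrN
  have hM1 : rM ≤ 1 := by
    by_contra hc
    have := Nat.mul_le_mul_left a (show 2 ≤ rM by omega)
    omega
  have hN1 : rN ≤ 1 := by
    by_contra hc
    have := Nat.mul_le_mul_left b (show 2 ≤ rN by omega)
    omega
  have hg1 : rN = 0 → g = 1 := fun h0 => Units.ext (sub_eq_zero.mp
    (ran_eq_bot_iff.mp (Submodule.finrank_eq_zero.mp h0)))
  have hh1 : rM = 0 → h = 1 := fun h0 => Units.ext (sub_eq_zero.mp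
    (ran_eq_bot_iff.mp (Submodule.finrank_eq_zero.mp h0)))
  rcases (show rM = 0 ∨ rM = 1 by omega) with hM | hM <;>
    rcases (show rN = 0 ∨ rN = 1 by omega) with hN | hN
  · refine absurd ?_ hz1
    rw [hg1 hN, hh1 hM]
    exact Units.ext Matrix.one_kronecker_one
  · rw [hh1 hM] at hzi ⊢
    obtain ⟨w, t, e1, e2, e3, e4, e5⟩ := exists_ut S (isom_of_kr_one_right S (by omega) hzi) hgn hN
    refine ⟨?_, Or.inr (Or.inl ⟨w, t, e1, e2, e3, e4, by rw [e5]; rfl⟩)⟩
    rw [hN, mul_one] at h2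
    omega
  · rw [hg1 hN] at hzi ⊢
    obtain ⟨w, t, e1, e2, e3, e4, e5⟩ := exists_ut S (isom_of_kr_one_left S ha hzi) hhn hM
    exact ⟨by rw [hM, mul_one] at h1; exact h1, Or.inl ⟨w, t, e1, e2, e3, e4, by rw [e5]; rfl⟩⟩
  · exact ⟨by rw [hM, mul_one] at h1; exact h1, Or.inr (Or.inr ⟨rank_pair_le hgn hhn hN hM,
      g, h, rfl, hN1, hM1, sq_zero_of_rank_one hhn hM1⟩)⟩

end Unitary

end Cfsg.Agent.TU18
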