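import Cfsg.Agent.TU18.NoL
import Cfsg.Agent.TU18.Iso

/-!
An element fixing a root subspace and outside the stabiliser gives a doubly isotropic centre
(helper18).

`InP P` says that the endomorphism `z ↦ z + (P (z, w)) ⊗ w` belongs to the group.
-/

set_option autoImplicit false
set_option linter.unusedSectionVars false
set_option maxHeartbeats 1600000

namespace Cfsg.Agent.TU18

open Matrix Cfsg.Agent.MaxSub Cfsg.Agent.TensorMax Module
open scoped Kronecker

variable {F : Type*} [Field F] [Fintype F] {a b q : ℕ} {σ : F ≃+* F}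

local notation:73 g:74 " ◆ " x:73 => (Units.val g) *ᵥ x

/-- The rank one matrix of the fixed vector. -/
def nw (σ : F ≃+* F) (w : Fin b → F) : Matrix (Fin b) (Fin b) F := vecMulVec w (rep (hp σ) w)

/-- The endomorphism attached to `P` belongs to `M`. -/
def InP (σ : F ≃+* F) (M : Subgroup (GL (Fin a × Fin b) F)) (w : Fin b → F)
    (P : Matrix (Fin a) (Fin a) F) : Prop :=
  ∃ g ∈ M, (g : Matrix (Fin a × Fin b) (Fin a × Fin b) F) = 1 + P ⊗ₖ nw σ w

variable (S : Ctx q σ)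
include S

theorem nw_sq {w : Fin b → F} (hw : hp σ w w = 0) : nw σ w * nw σ w = 0 := by
  rw [nw, vecMulVec_mul_vecMulVec, hrep_dot (uf S), hw]
  simp

theorem cur_tt (P : Matrix (Fin a) (Fin a) F) (w : Fin b → F) (z : Fin a × Fin b → F) :
    (P ⊗ₖ nw σ w) *ᵥ z = emb w (P *ᵥ Cw σ w z) := by
  funext r
  simp only [nw, hp_rep S, Matrix.mulVec, dotProduct, Fintype.sum_prod_type,
    Matrix.kroneckerMap_apply, vecMulVec_apply, emb_apply, Cw_apply, hp, Finset.sum_mul, Finset.mul_sum]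
  exact Finset.sum_congr rfl fun k _ => Finset.sum_congr rfl fun l _ => by ring

variable {M : Subgroup (GL (Fin a × Fin b) F)} {w : Fin b → F}

theorem tt_mul (hw : hp σ w w = 0) (P Q : Matrix (Fin a) (Fin a) F) :
    ((1 : Matrix (Fin a × Fin b) (Fin a × Fin b) F) + P ⊗ₖ nw σ w) * (1 + Q ⊗ₖ nw σ w) =
      1 + (P + Q) ⊗ₖ nw σ w := by
  rw [Matrix.add_mul, Matrix.one_mul, Matrix.mul_add, Matrix.mul_one, ← Matrix.mul_kronecker_mul,
    nw_sq S hw, Matrix.kronecker_zero, Matrix.add_kronecker]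
  abel

omit S in
theorem InP.zero : InP σ M w (0 : Matrix (Fin a) (Fin a) F) :=
  ⟨1, one_mem M, by rw [Units.val_one, Matrix.zero_kronecker, add_zero]⟩

theorem InP.add (hw : hp σ w w = 0) {P Q : Matrix (Fin a) (Fin a) F} (hP : InP σ M w P)
    (hQ : InP σ M w Q) : InP σ M w (P + Q) := by
  obtain ⟨g, hg, e⟩ := hP
  obtain ⟨g', hg', e'⟩ := hQ
  exact ⟨g * g', mul_mem hg hg', by rw [Units.val_mul, e, e', tt_mul S hw]⟩

theorem InP.neg (hw : hp σ w w = 0) {P : Matrix (Fin a) (Fin a) F} (hP : InP σ M w P) :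
    InP σ M w (-P) := by
  obtain ⟨g, hg, e⟩ := hP
  refine ⟨g⁻¹, inv_mem hg, ?_⟩
  calc ((g⁻¹ : GL (Fin a × Fin b) F) : Matrix (Fin a × Fin b) (Fin a × Fin b) F)
      = ((g⁻¹ : GL (Fin a × Fin b) F) : Matrix (Fin a × Fin b) (Fin a × Fin b) F) *
          ((g : Matrix (Fin a × Fin b) (Fin a × Fin b) F) * (1 + (-P) ⊗ₖ nw σ w)) := by
        rw [e, tt_mul S hw, add_neg_cancel, Matrix.zero_kronecker, add_zero, Matrix.mul_one]
    _ = 1 + (-P) ⊗ₖ nw σ w := by rw [← Matrix.mul_assoc, Units.inv_mul, Matrix.one_mul]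

theorem InP.sub (hw : hp σ w w = 0) {P Q : Matrix (Fin a) (Fin a) F} (hP : InP σ M w P)
    (hQ : InP σ M w Q) : InP σ M w (P - Q) := by
  rw [sub_eq_add_neg]
  exact InP.add S hw hP (InP.neg S hw hQ)

variable (hM : Hyp σ M)
include hM

theorem InP.conj {P : Matrix (Fin a) (Fin a) F} (hP : InP σ M w P) {G : GL (Fin a) F}
    (hG : G ∈ HermStab.su (hp σ : (Fin a → F) → (Fin a → F) → F)) :
    InP σ M w ((G : Matrix (Fin a) (Fin a) F) * P * ((G⁻¹ : GL (Fin a) F) : Matrix (Fin a) (Fin a) F)) := by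
  obtain ⟨g, hg, e⟩ := hP
  have hk : kr G (1 : GL (Fin b) F) ∈ M :=
    hM.kron _ (kr_mem _ _) ⟨kr_isom S hG.1 (Subgroup.one_mem _), det_kr_eq_one hG.2 (map_one _)⟩
  refine ⟨kr G 1 * g * (kr G 1)⁻¹, mul_mem (mul_mem hk hg) (inv_mem hk), ?_⟩
  rw [Units.val_mul, Units.val_mul, e, Matrix.mul_add, Matrix.add_mul, Matrix.mul_one, Units.mul_inv,
    kr_inv, kr_coe, kr_coe, inv_one, Units.val_one, ← Matrix.mul_kronecker_mul,
    ← Matrix.mul_kronecker_mul, Matrix.one_mul, Matrix.mul_one]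

theorem InP.real (hb : 3 ≤ b) (hw0 : w ≠ 0) (hw : hp σ w w = 0) {P : Matrix (Fin a) (Fin a) F}
    (hP : InP σ M w P) {r : F} (hr : σ r = r) : InP σ M w (r • P) := by
  by_cases hr0 : r = 0
  · rw [hr0, zero_smul]
    exact InP.zero
  obtain ⟨g, hg, e⟩ := hP
  obtain ⟨s, hs⟩ := exists_norm (uf S (ι := Fin b)) hr
  have hs0 : s ≠ 0 := fun h => hr0 (by rw [← hs, h, mul_zero])
  obtain ⟨h, hh, hhw⟩ := exists_move_iso S hb hw0 hw (w' := s • w)
    (smul_ne_zero hs0 hw0) (by rw [(uf S).smul_left, hsmul_right (uf S), hw, mul_zero, mul_zero])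
  have hk : kr (1 : GL (Fin a) F) h ∈ M :=
    hM.kron _ (kr_mem _ _) ⟨kr_isom S (Subgroup.one_mem _) hh.1, det_kr_eq_one (map_one _) hh.2⟩
  refine ⟨kr 1 h * g * (kr 1 h)⁻¹, mul_mem (mul_mem hk hg) (inv_mem hk), ?_⟩
  rw [Units.val_mul, Units.val_mul, e, Matrix.mul_add, Matrix.add_mul, Matrix.mul_one, Units.mul_inv,
    kr_inv, kr_coe, kr_coe, inv_one, Units.val_one, ← Matrix.mul_kronecker_mul,
    ← Matrix.mul_kronecker_mul, Matrix.one_mul, Matrix.mul_one]
  congr 1
  rw [nw, mul_vecMulVec, vecMulVec_mul, hhw, hrep_vecMul_inv (uf S) hh.1, hhw, hrep_smul (uf S),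
    Matrix.vecMulVec_smul, Matrix.smul_vecMulVec, smul_smul, hs, Matrix.kronecker_smul,
    Matrix.smul_kronecker]

theorem InP.skew (hw : hp σ w w = 0) {t : F} (ht : t + σ t = 0) : InP σ M w (t • 1) := by
  refine ⟨uB σ a w t, uB_memM S hM hw ht, ?_⟩
  rw [nw, Matrix.smul_kronecker, ← Matrix.kronecker_smul, ← Matrix.vecMulVec_smul, ← uB_val S hw,
    add_sub_cancel]

theorem InP.skewAdj (hw0 : w ≠ 0) (hw : hp σ w w = 0) {P : Matrix (Fin a) (Fin a) F}
    (hP : InP σ M w P) (x y : Fin a → F) : hp σ (P *ᵥ x) y + hp σ x (P *ᵥ y) = 0 := by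
  obtain ⟨g, hg, e⟩ := hP
  obtain ⟨u, hu1, hu2, huu⟩ := exists_partner S hw0 hw
  have hgu : ∀ x : Fin a → F, g ◆ emb u x = emb u x + emb w (P *ᵥ x) := fun x => by
    rw [e, add_mulVec, one_mulVec, cur_tt S, Cw_emb S, hu1, one_smul]
  have h := mem_isom.mp (hM.le hg).1 (emb u x) (emb u y)
  rw [hgu, hgu, (uf S).add_left, hadd_right (uf S) (emb u x), hadd_right (uf S) (emb w (P *ᵥ x)),
    hp_emb_emb S, hp_emb_emb S, hp_emb_emb S, hp_emb_emb S, hw, hu1, hu2, huu] at h
  linear_combination h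

/-- A rank one element is a centre. -/
theorem centre_of_rankOne (hb : 3 ≤ b) (hw0 : w ≠ 0) (hw : hp σ w w = 0) {x : Fin a → F}
    (hx : hp σ x x = 0) {c : F} (hc0 : c ≠ 0) (hc : c + σ c = 0) {Q : Matrix (Fin a) (Fin a) F}
    (hQ : InP σ M w Q) (hQx : ∀ y, Q *ᵥ y = (c * hp σ y x) • x) :
    HermStab.Centre σ (hp σ) M (emb w x) := by
  have hxx : hp σ (emb w x) (emb w x) = 0 := by rw [hp_emb_emb S, hx, zero_mul]
  refine ⟨hxx, fun c' hc' => ?_⟩
  have hr : σ (c' / c) = c' / c := by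
    rw [map_div₀, eq_neg_of_add_eq_zero_right hc', eq_neg_of_add_eq_zero_right hc, neg_div_neg_eq]
  obtain ⟨g, hg, e⟩ := InP.real S hM hb hw0 hw hQ hr
  refine (gl_ext fun z => ?_ : g = ut (hp σ) (emb w x) c') ▸ hg
  rw [e, add_mulVec, one_mulVec, cur_tt S, ut_mulVec (uf S) hxx, smul_mulVec, hQx,
    show hp σ z (emb w x) = hp σ (Cw σ w z) x by
      rw [(uf S).herm, hp_emb S, ← (uf S).herm], smul_smul, ← mul_assoc, div_mul_cancel₀ _ hc0, map_smul]

/-- A non-scalar element gives a doubly isotropic centre. -/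
theorem centre_of_nonscalar (ha : 2 ≤ a) (hb : 3 ≤ b) (hex : a = 2 → 3 ≤ q) (hw0 : w ≠ 0)
    (hw : hp σ w w = 0) {P : Matrix (Fin a) (Fin a) F} (hP : InP σ M w P) (hns : ¬ IsScal P) :
    ∃ x : Fin a → F, x ≠ 0 ∧ hp σ x x = 0 ∧ HermStab.Centre σ (hp σ) M (emb w x) := by
  obtain ⟨x, hx, hPx⟩ : ∃ x : Fin a → F, hp σ x x = 0 ∧ ∀ μ : F, P *ᵥ x ≠ μ • x := by
    by_contra hno
    push Not at hno
    exact hns (eigen_scalar S ha hno)
  have hx0 : x ≠ 0 := fun h => hPx 0 (by rw [h, mulVec_zero, smul_zero])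
  obtain ⟨t, ht0, ht⟩ := exists_skew (uf S (ι := Fin a))
  have hskew := fun {P : Matrix (Fin a) (Fin a) F} (hP : InP σ M w P) => InP.skewAdj S hM hw0 hw hP
  -- the difference with a transvection conjugate
  have hQ : ∀ {P : Matrix (Fin a) (Fin a) F}, InP σ M w P → ∀ t : F, t + σ t = 0 →
      ∃ Q, InP σ M w Q ∧ ∀ y, Q *ᵥ y = (-t) • (hp σ y x • (P *ᵥ x) + hp σ y (P *ᵥ x) • x +
        (t * hp σ (P *ᵥ x) x * hp σ y x) • x) := by
    intro P hP t ht
    set G := ut (hp σ) x t with hG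
    refine ⟨_, InP.sub S hw (InP.conj S hM hP (HermStab.ut_mem_su (uf S) hx ht : G ∈ _)) hP, fun y => ?_⟩
    have hinv : (G⁻¹ : GL (Fin a) F) ◆ y = y + (-t * hp σ y x) • x := by
      refine MaxSub.mulVec_injective G ?_
      show G ◆ _ = G ◆ _
      rw [mulVec_inv_mulVec, hG, ut_mulVec (uf S) hx, (uf S).add_left, (uf S).smul_left, hx]
      module
    have hPy : hp σ (P *ᵥ y) x = -hp σ y (P *ᵥ x) := eq_neg_of_add_eq_zero_left (hskew hP y x)
    rw [sub_mulVec, ← mulVec_mulVec, ← mulVec_mulVec, hinv, ut_mulVec (uf S) hx, mulVec_add,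
      mulVec_smul, (uf S).add_left, (uf S).smul_left, hPy]
    module
  by_cases h3 : 3 ≤ a
  · -- reduce to an orthogonal image
    obtain ⟨P', hP', hP'0, hP'1⟩ : ∃ P' : Matrix (Fin a) (Fin a) F, InP σ M w P' ∧
        hp σ (P' *ᵥ x) x = 0 ∧ P' *ᵥ x ∉ Submodule.span F {x} := by
      by_cases hk : hp σ (P *ᵥ x) x = 0
      · exact ⟨P, hP, hk, fun h => by
          obtain ⟨μ, hμ⟩ := Submodule.mem_span_singleton.mp h
          exact hPx μ hμ.symm⟩
      obtain ⟨y, hy, hys⟩ := exists_perp S h3 x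
      obtain ⟨b₀, hb₀⟩ := exists_trace (uf S (ι := Fin a)) (r := -hp σ y y)
        (by rw [map_neg, ← (uf S).herm])
      set G := HermStab.qe (hp σ) x y b₀ with hG
      have hGx : G ◆ x = x := by
        rw [hG, HermStab.qe_mulVec (uf S) hx hy, hx, hswap_zero (uf S) hy]
        simp
      have hGix : (G⁻¹ : GL (Fin a) F) ◆ x = x := by
        conv_lhs => rw [← hGx]
        exact inv_mulVec_mulVec G x
      refine ⟨_, InP.sub S hw (InP.conj S hM hP (HermStab.qe_mem_su (uf S) hx hy hb₀ : G ∈ _)) hP,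
        ?_, ?_⟩
      · rw [sub_mulVec, ← mulVec_mulVec, ← mulVec_mulVec, hGix, hsub_left (uf S),
          show hp σ (G ◆ P *ᵥ x) x = hp σ (P *ᵥ x) x by
            have h1 : hp σ (G ◆ P *ᵥ x) (G ◆ x) = hp σ (P *ᵥ x) x :=
              mem_isom.mp (HermStab.qe_mem_su (uf S) hx hy hb₀).1 _ _
            rwa [hGx] at h1,
          sub_self]
      · rw [sub_mulVec, ← mulVec_mulVec, ← mulVec_mulVec, hGix, HermStab.qe_mulVec (uf S) hx hy]
        intro hm
        refine hys ((Submodule.smul_mem_iff _ hk).mp ?_)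
        have hm' := add_mem (sub_mem hm (Submodule.smul_mem _ (b₀ * hp σ (P *ᵥ x) x)
          (Submodule.mem_span_singleton_self x))) (Submodule.smul_mem _ (hp σ (P *ᵥ x) y)
          (Submodule.mem_span_singleton_self x))
        convert hm' using 1
        module
    set z := P' *ᵥ x with hz
    obtain ⟨Q, hQP, hQy⟩ := hQ hP' t ht
    obtain ⟨y', hy', hy'x⟩ := exists_dual (uf S) hP'1
    have hy'x' := (hy'x x (Submodule.mem_span_singleton_self x)).1
    obtain ⟨r, hr⟩ := exists_trace (uf S (ι := Fin a)) (r := (1 : F)) (map_one σ)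
    set y := σ r • y' with hy
    have hyx : hp σ y x = 0 := by rw [hy, (uf S).smul_left, hy'x', mul_zero]
    obtain ⟨b₀, hb₀⟩ := exists_trace (uf S (ι := Fin a)) (r := -hp σ y y)
      (by rw [map_neg, ← (uf S).herm])
    set G := HermStab.qe (hp σ) x y b₀ with hG
    have hGsu : G ∈ HermStab.su (hp σ : (Fin a → F) → (Fin a → F) → F) :=
      HermStab.qe_mem_su (uf S) hx hyx hb₀
    have hGx : G ◆ x = x := by
      rw [hG, HermStab.qe_mulVec (uf S) hx hyx, hx, hswap_zero (uf S) hyx]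
      simp
    set ν := -r with hν
    have hGz : G ◆ z = z + ν • x := by
      rw [hG, HermStab.qe_mulVec (uf S) hx hyx, hP'0, hy, hsmul_right (uf S), S.inv,
        (uf S).herm z y', hy', map_one, hν]
      module
    refine ⟨x, hx0, hx, centre_of_rankOne S hM hb hw0 hw hx (c := t) ht0 ht
      (InP.sub S hw (InP.conj S hM hQP hGsu) hQP) fun v => ?_⟩
    have hi1 : hp σ ((G⁻¹ : GL (Fin a) F) ◆ v) x = hp σ v x := by
      conv_rhs => rw [← mulVec_inv_mulVec G v, ← hGx, mem_isom.mp hGsu.1]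
    have hi2 : hp σ ((G⁻¹ : GL (Fin a) F) ◆ v) z = hp σ v (z + ν • x) := by
      conv_rhs => rw [← mulVec_inv_mulVec G v, ← hGz, mem_isom.mp hGsu.1]
    rw [sub_mulVec, ← mulVec_mulVec, ← mulVec_mulVec, hQy, hQy, hi1, hi2, hP'0, mulVec_smul,
      mulVec_add, mulVec_add, mulVec_smul, mulVec_smul, mulVec_smul, hGx, hGz, hadd_right (uf S),
      hsmul_right (uf S), hν, map_neg]
    linear_combination (norm := module) (t * hp σ v x) • congrArg (· • x) hr
  · have hk : hp σ (P *ᵥ x) x ≠ 0 := fun h0 => by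
      obtain ⟨u, hu, hu', -⟩ := exists_partner S hx0 hx
      refine hPx (hp σ (P *ᵥ x) u) ?_
      have hli : LinearIndependent F ![x, u] := by
        rw [LinearIndependent.pair_iff]
        intro c d hcd
        have h1 := congrArg (hp σ · x) hcd
        simp only [(uf S).add_left, (uf S).smul_left, hx, hu, mul_zero, zero_add, mul_one,
          hzero_left (uf S)] at h1
        refine ⟨?_, h1⟩
        rw [h1, zero_smul, add_zero] at hcd
        exact (smul_eq_zero.mp hcd).resolve_right hx0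
      have hspan := hli.span_eq_top_of_card_eq_finrank' (by rw [finrank_fin_fun, Fintype.card_fin]; omega)
      have hmem : P *ᵥ x ∈ Submodule.span F (Set.range ![x, u]) := by rw [hspan]; trivial
      rw [Matrix.range_cons_cons_empty, Submodule.mem_span_pair] at hmem
      obtain ⟨c, d, hcd⟩ := hmem
      rw [← hcd, (uf S).add_left, (uf S).smul_left, (uf S).smul_left, hx, hu, mul_zero, zero_add,
        mul_one] at h0
      rw [← hcd, h0, zero_smul, add_zero, (uf S).smul_left, hu', mul_one]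
    obtain ⟨r, hr, hr0, hr1⟩ := exists_real S (hex (by omega))
    obtain ⟨Q, hQP, hQy⟩ := hQ hP t ht
    obtain ⟨Q', hQ'P, hQ'y⟩ := hQ hP (r * t) (by rw [map_mul, hr]; linear_combination r * ht)
    set c := -(r * (r - 1) * t * t * hp σ (P *ᵥ x) x) with hc
    have hc0 : c ≠ 0 := neg_ne_zero.mpr
      (mul_ne_zero (mul_ne_zero (mul_ne_zero (mul_ne_zero hr0 (sub_ne_zero.mpr hr1)) ht0) ht0) hk)
    have hcs : c + σ c = 0 := by
      have h1 := hskew hP x x
      rw [(uf S).herm x (P *ᵥ x)] at h1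
      rw [hc, map_neg, map_mul, map_mul, map_mul, map_mul, map_sub, map_one, hr,
        eq_neg_of_add_eq_zero_right ht]
      linear_combination -(r * (r - 1) * t * t) * h1
    refine ⟨x, hx0, hx, centre_of_rankOne S hM hb hw0 hw hx hc0 hcs
      (InP.sub S hw hQ'P (InP.real S hM hb hw0 hw hQP hr)) fun y => ?_⟩
    rw [sub_mulVec, smul_mulVec, hQy, hQ'y, hc]
    module

omit hM in
theorem decomp_eq (u : Fin b → F) (z : Fin a × Fin b → F) :
    z = emb u (Cw σ w z) +
      ∑ j, emb (Pi.single j 1 - σ (w j) • u) (fun i => z (i, j)) := by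
  funext r
  rw [Pi.add_apply, Finset.sum_apply]
  simp only [emb_apply, Cw_apply, hp, Finset.sum_mul, Pi.sub_apply, Pi.single_apply, Pi.smul_apply,
    smul_eq_mul, mul_sub, Finset.sum_sub_distrib]
  simp [mul_comm, mul_left_comm]

theorem end_case (ha : 2 ≤ a) (hb : 3 ≤ b) (hex : a = 2 → 3 ≤ q) (hw0 : w ≠ 0) (hw : hp σ w w = 0)
    {s : GL (Fin a × Fin b) F} (hsM : s ∈ M) (hsK : s ∉ Geo.kroneckerSubgroup a b F)
    {A : GL (Fin a) F} (hs : ∀ x, s ◆ emb w x = emb w (A ◆ x)) :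
    ∃ x : Fin a → F, x ≠ 0 ∧ hp σ x x = 0 ∧ HermStab.Centre σ (hp σ) M (emb w x) := by
  by_contra hno
  have hall : ∀ P, InP σ M w P → IsScal P := fun P hP => by
    by_contra hns
    exact hno (centre_of_nonscalar S hM ha hb hex hw0 hw hP hns)
  have hsi := (hM.le hsM).1
  obtain ⟨u, hu, hu', -⟩ := exists_partner S hw0 hw
  obtain ⟨t, ht0, ht⟩ := exists_skew (uf S (ι := Fin b))
  set Am := (A : Matrix (Fin a) (Fin a) F) with hAm
  set Ai := ((A⁻¹ : GL (Fin a) F) : Matrix (Fin a) (Fin a) F) with hAi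
  have hsinv : ∀ x, (s⁻¹ : GL (Fin a × Fin b) F) ◆ emb w x = emb w (Ai *ᵥ x) := fun x => by
    refine MaxSub.mulVec_injective s ?_
    show s ◆ _ = s ◆ _
    rw [mulVec_inv_mulVec, hs, hAi, mulVec_inv_mulVec]
  -- contraction and the inverse
  have hC : ∀ z, Cw σ w ((s⁻¹ : GL (Fin a × Fin b) F) ◆ z) = adj σ Am *ᵥ Cw σ w z := fun z =>
    hp_ext_right S fun v => by
      rw [← hp_emb S, ← hp_adj S, ← hp_emb S, ← hs, ← mem_isom.mp hsi (emb w v), mulVec_inv_mulVec]
  have hC' : ∀ z, Cw σ w (s ◆ z) = adj σ Ai *ᵥ Cw σ w z := fun z =>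
    hp_ext_right S fun v => by
      rw [← hp_emb S, ← hp_adj S, ← hp_emb S, ← hsinv, ← mem_isom.mp hsi _ z, mulVec_inv_mulVec]
  -- the first element
  obtain ⟨κ, hκ⟩ : ∃ κ : F, Am * adj σ Am = κ • 1 := by
    refine (isScal_of_smul ht0 (hall _ ⟨s * uB σ a w t * s⁻¹,
      mul_mem (mul_mem hsM (uB_memM S hM hw ht)) (inv_mem hsM), ?_⟩) : IsScal _)
    refine Matrix.toLin'.injective (LinearMap.ext fun z => ?_)
    simp only [Matrix.toLin'_apply, add_mulVec, one_mulVec, cur_tt S, Units.val_mul, ← mulVec_mulVec,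
      uB_mulVec S hw, mulVec_add, mulVec_inv_mulVec, hs, hC, smul_mulVec, mulVec_smul]
  have hadj : adj σ Am = κ • Ai := by
    calc adj σ Am = Ai * (Am * adj σ Am) := by
          rw [← Matrix.mul_assoc, hAi, hAm, Units.inv_mul, Matrix.one_mul]
      _ = κ • Ai := by rw [hκ, Matrix.mul_smul, Matrix.mul_one]
  have hκ0 : κ ≠ 0 := fun h => by
    rw [h, zero_smul] at hadj
    have hA0 := congrArg (adj σ) hadj
    rw [adj_adj S] at hA0
    haveI : Nonempty (Fin a) := ⟨⟨0, by omega⟩⟩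
    exact A.ne_zero (hA0.trans (Matrix.ext fun i j => by simp [adj]))
  -- the contractions of the inverse on the orthogonal complement
  have hD : ∀ y y' : Fin b → F, hp σ y w = 0 → hp σ y' w = 0 → ∃ θ : F,
      ∀ x, Cw σ y ((s⁻¹ : GL (Fin a × Fin b) F) ◆ emb y' x) = θ • (Ai *ᵥ x) := by
    intro y y' hy hy'
    let L : (Fin a → F) →ₗ[F] (Fin a → F) := (Cw σ y).comp
      (((s⁻¹ : GL (Fin a × Fin b) F) : Matrix (Fin a × Fin b) (Fin a × Fin b) F).mulVecLin.comp (emb y'))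
    set D := LinearMap.toMatrix' L with hDdef
    have hDx : ∀ x, D *ᵥ x = Cw σ y ((s⁻¹ : GL (Fin a × Fin b) F) ◆ emb y' x) := fun x =>
      LinearMap.toMatrix'_mulVec L x
    have hDadj : ∀ η, Cw σ y' (s ◆ emb y η) = adj σ D *ᵥ η := fun η => hp_ext_right S fun v => by
      rw [← hp_emb S, ← hp_adj S, hDx, ← mulVec_inv_mulVec s (emb y' v), mem_isom.mp hsi,
        (uf S).herm, hp_emb S, ← (uf S).herm, mulVec_inv_mulVec]
    obtain ⟨b₀, hb₀⟩ := exists_trace (uf S (ι := Fin b)) (r := -hp σ y y) (by rw [map_neg, ← (uf S).herm])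
    set k := kr (1 : GL (Fin a) F) (HermStab.qe (hp σ) w y b₀) with hk
    have hk' : ∀ {y : Fin b → F} {b₀ : F}, hp σ y w = 0 → b₀ + σ b₀ = -hp σ y y →
        kr (1 : GL (Fin a) F) (HermStab.qe (hp σ) w y b₀) ∈ M ∧ ∀ z,
          kr (1 : GL (Fin a) F) (HermStab.qe (hp σ) w y b₀) ◆ z =
            z + emb y (Cw σ w z) + emb w (b₀ • Cw σ w z - Cw σ y z) := by
      intro y b₀ hy hb₀
      refine ⟨hM.kron _ (kr_mem _ _) ⟨kr_isom S (Subgroup.one_mem _)
        (HermStab.qe_mem_su (uf S) hw hy hb₀).1, det_kr_eq_one (map_one _)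
        (HermStab.qe_det _ _ _)⟩, fun z => ?_⟩
      conv_lhs => rw [eq_sum_emb z]
      simp only [mulVec_sum, kr_emb, Units.val_one, one_mulVec, HermStab.qe_mulVec (uf S) hw hy]
      funext r
      simp only [Finset.sum_apply, Pi.add_apply, Pi.sub_apply, emb_apply, Pi.smul_apply, smul_eq_mul,
        Cw_apply, hp_single_left, hp, Finset.sum_mul, Finset.mul_sum, mul_sub, mul_add, add_mul, sub_mul,
        Finset.sum_add_distrib, Finset.sum_sub_distrib]
      simp [Pi.single_apply, mul_comm, mul_left_comm]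
      ring
    set E := Am * D with hE
    have hscal : ∀ l : F, IsScal (σ l • adj σ E - l • E) := by
      intro l
      have hly : hp σ (l • y') w = 0 := by rw [(uf S).smul_left, hy', mul_zero]
      obtain ⟨b₁, hb₁⟩ := exists_trace (uf S (ι := Fin b)) (r := -hp σ (l • y') (l • y'))
        (by rw [map_neg, ← (uf S).herm])
      obtain ⟨hkM, hkz⟩ := hk' (b₀ := b₀) hy hb₀
      obtain ⟨hjM, hjz⟩ := hk' (b₀ := b₁) hly hb₁
      set j := kr (1 : GL (Fin a) F) (HermStab.qe (hp σ) w (l • y') b₁) with hj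
      set ρ := s * k * s⁻¹ with hρ
      have hρM : ρ ∈ M := mul_mem (mul_mem hsM hkM) (inv_mem hsM)
      set P := σ l • adj σ E - l • E with hPdef
      refine hall P ⟨ρ * j * ρ⁻¹ * j⁻¹,
        mul_mem (mul_mem (mul_mem hρM hjM) (inv_mem hρM)) (inv_mem hjM), ?_⟩
      have hρz : ∀ z, ρ ◆ z = z + s ◆ emb y (adj σ Am *ᵥ Cw σ w z) +
          emb w (Am *ᵥ (b₀ • adj σ Am *ᵥ Cw σ w z - Cw σ y ((s⁻¹ : GL (Fin a × Fin b) F) ◆ z))) :=
        fun z => by
          rw [hρ, Units.val_mul, Units.val_mul, ← mulVec_mulVec, ← mulVec_mulVec, hkz, hC, mulVec_add,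
            mulVec_add, mulVec_inv_mulVec, hs]
      have key : ((1 : Matrix (Fin a × Fin b) (Fin a × Fin b) F) + P ⊗ₖ nw σ w) *
          ((j * ρ : GL (Fin a × Fin b) F) : Matrix (Fin a × Fin b) (Fin a × Fin b) F) =
          ((ρ * j : GL (Fin a × Fin b) F) : Matrix (Fin a × Fin b) (Fin a × Fin b) F) := by
        refine Matrix.toLin'.injective (LinearMap.ext fun z => ?_)
        simp only [Matrix.toLin'_apply, ← mulVec_mulVec, Units.val_mul, add_mulVec, one_mulVec, cur_tt S]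
        have hsy : ∀ η, Cw σ w (s ◆ emb y η) = 0 := fun η => by
          rw [hC', Cw_emb S, hy, zero_smul, mulVec_zero]
        have h1 : Cw σ w (ρ ◆ z) = Cw σ w z := by
          rw [hρz, map_add, map_add, hsy, Cw_emb S, hw, zero_smul, add_zero, add_zero]
        have h2 : Cw σ w (j ◆ ρ ◆ z) = Cw σ w z := by
          rw [hjz, map_add, map_add, Cw_emb S, Cw_emb S, hly, hw, zero_smul, zero_smul, add_zero,
            add_zero, h1]
        have h3 : Cw σ w (j ◆ z) = Cw σ w z := by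
          rw [hjz, map_add, map_add, Cw_emb S, Cw_emb S, hly, hw, zero_smul, zero_smul, add_zero,
            add_zero]
        have h4 : Cw σ (l • y') (s ◆ emb y (adj σ Am *ᵥ Cw σ w z)) =
            σ l • (adj σ E *ᵥ Cw σ w z) := by
          rw [Cw_smul S, hDadj, mulVec_mulVec, hE, adj_mul]
        have hy'' : hp σ w (l • y') = 0 := hswap_zero (uf S) hly
        have h5 : Cw σ y ((s⁻¹ : GL (Fin a × Fin b) F) ◆ (j ◆ z)) =
            Cw σ y ((s⁻¹ : GL (Fin a × Fin b) F) ◆ z) + l • (D *ᵥ Cw σ w z) := by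
          rw [hjz, mulVec_add, mulVec_add, map_add, map_add, hsinv, Cw_emb S, hswap_zero (uf S) hy,
            zero_smul, add_zero, emb_smul, mulVec_smul, map_smul, hDx]
        rw [h2, hjz (ρ ◆ z), h1, hρz (j ◆ z), h3, h5, hjz z]
        rw [hρz z, map_add (Cw σ (l • y')), map_add (Cw σ (l • y')), Cw_emb S, hy'', zero_smul, add_zero, h4,
          hPdef]
        simp only [sub_mulVec, smul_mulVec, mulVec_sub, mulVec_add, mulVec_smul, map_add, map_sub,
          map_smul, hE, mulVec_mulVec]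
        module
      have hu1 : ρ * j = ρ * j * ρ⁻¹ * j⁻¹ * (j * ρ) := by group
      rw [hu1, Units.val_mul] at key
      exact ((Units.isUnit (j * ρ)).mul_right_cancel key).symm
    obtain ⟨l, hl⟩ : ∃ l, σ l ≠ l := by
      by_contra h
      push Not at h
      exact S.ne_refl (RingEquiv.ext h)
    have h7 : IsScal ((l - σ l) • E) := by
      have h1 := hscal 1
      rw [map_one, one_smul, one_smul] at h1
      have h8 := (h1.smul (σ l)).sub (hscal l)
      convert h8 using 1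
      module
    obtain ⟨θ, hθ⟩ := isScal_of_smul (sub_ne_zero.mpr (Ne.symm hl)) h7
    refine ⟨θ, fun x => ?_⟩
    rw [← hDx, show D = Ai * E by rw [hE, ← Matrix.mul_assoc, hAi, hAm, Units.inv_mul, Matrix.one_mul],
      hθ, Matrix.mul_smul, Matrix.mul_one, smul_mulVec]
  -- the inverse is a tensor product
  let ys : Fin b → Fin b → F := fun j => Pi.single j 1 - σ (w j) • u
  have hys : ∀ j, hp σ (ys j) w = 0 := fun j => by
    rw [hsub_left (uf S), (uf S).smul_left, hu, hp_single_left, mul_one, sub_self]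
  have hsplit : ∀ z : Fin a × Fin b → F, ∀ j, (fun i => z (i, j)) =
      Cw σ (ys j) z + w j • Cw σ u z := fun z j => by
    have h1 : (Pi.single j 1 : Fin b → F) = ys j + σ (w j) • u := (sub_add_cancel _ _).symm
    have h2 : (fun i => z (i, j)) = Cw σ (Pi.single j 1) z := funext fun i => by
      rw [Cw_apply, hp_single_right]
    rw [h2, h1, Cw_add S, Cw_smul S, S.inv]
  -- one vector with the inverse image in standard form
  have step : ∀ (v : Fin b → F), (∃ θ : Fin b → F, ∀ j, ∀ x,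
      Cw σ (ys j) ((s⁻¹ : GL (Fin a × Fin b) F) ◆ emb v x) = θ j • (Ai *ᵥ x)) →
      ∃ (θ : Fin b → F) (E : Matrix (Fin a) (Fin a) F), ∀ x,
        (s⁻¹ : GL (Fin a × Fin b) F) ◆ emb v x = emb θ (Ai *ᵥ x) + emb w (Ai *ᵥ (E *ᵥ x)) := by
    rintro v ⟨θ, hθ⟩
    let L : (Fin a → F) →ₗ[F] (Fin a → F) := (Cw σ u).comp
      (((s⁻¹ : GL (Fin a × Fin b) F) : Matrix (Fin a × Fin b) (Fin a × Fin b) F).mulVecLin.comp (emb v))
    refine ⟨θ, Am * LinearMap.toMatrix' L, fun x => funext fun r => ?_⟩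
    have h1 := congrFun (hsplit ((s⁻¹ : GL (Fin a × Fin b) F) ◆ emb v x) r.2) r.1
    rw [mulVec_mulVec, ← Matrix.mul_assoc, hAi, hAm, Units.inv_mul, Matrix.one_mul,
      LinearMap.toMatrix'_mulVec, h1, hθ]
    simp only [Pi.add_apply, emb_apply, Pi.smul_apply, smul_eq_mul, L, LinearMap.comp_apply,
      mulVecLin_apply, ← hAi]
    ring
  -- conjugation of an element of the first factor
  have hg : ∀ G ∈ HermStab.su (hp σ : (Fin a → F) → (Fin a → F) → F), ∃ c ∈ M,
      ∀ (v : Fin b → F) (θ : Fin b → F) (E : Matrix (Fin a) (Fin a) F), (∀ x,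
        (s⁻¹ : GL (Fin a × Fin b) F) ◆ emb v x = emb θ (Ai *ᵥ x) + emb w (Ai *ᵥ (E *ᵥ x))) → ∀ x,
        c ◆ emb v x = emb v x + emb w
          (((G : Matrix (Fin a) (Fin a) F) * E * ((G⁻¹ : GL (Fin a) F) : Matrix (Fin a) (Fin a) F) - E) *ᵥ x) := by
    intro G hG
    set g := A⁻¹ * G * A with hg
    have hgsu : g ∈ HermStab.su (hp σ : (Fin a → F) → (Fin a → F) → F) := by
      refine ⟨mem_isom.mpr fun x y => ?_, ?_⟩
      · have hA : ∀ x y : Fin a → F, hp σ (A ◆ x) (A ◆ y) = σ κ * hp σ x y := fun x y => by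
          rw [hp_adj S, hadj, smul_mulVec, hAi, inv_mulVec_mulVec, hsmul_right (uf S)]
        have h1 : ∀ x y : Fin a → F, hp σ x y = (σ κ)⁻¹ * hp σ (A ◆ x) (A ◆ y) := fun x y => by
          rw [hA, inv_mul_cancel_left₀ ((map_ne_zero σ).mpr hκ0)]
        rw [h1, h1 x y, hg, Units.val_mul, Units.val_mul, ← mulVec_mulVec, ← mulVec_mulVec,
          ← mulVec_mulVec, ← mulVec_mulVec, mulVec_inv_mulVec, mulVec_inv_mulVec, mem_isom.mp hG.1]
      · show Matrix.GeneralLinearGroup.det g = 1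
        rw [hg, map_mul, map_mul, map_inv, show Matrix.GeneralLinearGroup.det G = 1 from hG.2]
        simp
    have hk1 : kr g (1 : GL (Fin b) F) ∈ M :=
      hM.kron _ (kr_mem _ _) ⟨kr_isom S hgsu.1 (Subgroup.one_mem _), det_kr_eq_one hgsu.2 (map_one _)⟩
    have hk2 : kr G (1 : GL (Fin b) F) ∈ M :=
      hM.kron _ (kr_mem _ _) ⟨kr_isom S hG.1 (Subgroup.one_mem _), det_kr_eq_one hG.2 (map_one _)⟩
    refine ⟨s * kr g 1 * s⁻¹ * (kr G 1)⁻¹,
      mul_mem (mul_mem (mul_mem hsM hk1) (inv_mem hsM)) (inv_mem hk2), fun v θ E hE x => ?_⟩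
    have hgA : ∀ y, g ◆ (Ai *ᵥ y) = Ai *ᵥ (G ◆ y) := fun y => by
      rw [hg, Units.val_mul, Units.val_mul, ← mulVec_mulVec, ← mulVec_mulVec, hAi, mulVec_inv_mulVec]
    have hθ : ∀ η, s ◆ emb θ (Ai *ᵥ η) = emb v η - emb w (E *ᵥ η) := fun η => by
      rw [eq_sub_iff_add_eq]
      have h2 := congrArg (s ◆ ·) (hE η)
      simp only [mulVec_inv_mulVec, mulVec_add, hs] at h2
      rw [hAi, mulVec_inv_mulVec] at h2
      exact h2.symm
    rw [kr_inv, inv_one, Units.val_mul, Units.val_mul, Units.val_mul, ← mulVec_mulVec, ← mulVec_mulVec,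
      ← mulVec_mulVec, kr_emb, Units.val_one, one_mulVec, hE, mulVec_add, kr_emb, kr_emb, Units.val_one,
      one_mulVec, one_mulVec, hgA, hgA, mulVec_inv_mulVec, mulVec_add, hθ, hs, hAi, mulVec_inv_mulVec,
      sub_mulVec, ← mulVec_mulVec, ← mulVec_mulVec, map_sub]
    abel
  -- the orthogonal complement
  have hperp : ∀ y, hp σ y w = 0 →
      ∃ θ : Fin b → F, ∀ x, (s⁻¹ : GL (Fin a × Fin b) F) ◆ emb y x = emb θ (Ai *ᵥ x) := by
    intro y hy
    have hex' : ∀ y, hp σ y w = 0 → ∃ (θ : Fin b → F) (E : Matrix (Fin a) (Fin a) F), ∀ x,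
        (s⁻¹ : GL (Fin a × Fin b) F) ◆ emb y x = emb θ (Ai *ᵥ x) + emb w (Ai *ᵥ (E *ᵥ x)) := fun y hy =>
      step y ⟨fun j => (hD (ys j) y (hys j) hy).choose, fun j => (hD (ys j) y (hys j) hy).choose_spec⟩
    obtain ⟨θ, E, hθ⟩ := hex' y hy
    obtain ⟨b₀, hb₀⟩ := exists_trace (uf S (ι := Fin b)) (r := -hp σ y y) (by rw [map_neg, ← (uf S).herm])
    suffices hE : IsScal E by
      obtain ⟨μ, rfl⟩ := hE
      refine ⟨θ + μ • w, fun x => ?_⟩
      rw [hθ, smul_mulVec, one_mulVec, mulVec_smul, map_smul, emb_add, emb_smul]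
    have hlin : ∀ l : F, ∀ x, (s⁻¹ : GL (Fin a × Fin b) F) ◆ emb (l • y) x =
        emb (l • θ) (Ai *ᵥ x) + emb w (Ai *ᵥ ((l • E) *ᵥ x)) := fun l x => by
      rw [emb_smul, mulVec_smul, hθ, emb_smul, smul_mulVec, mulVec_smul, map_smul, smul_add]
    refine scalar_of_conj S ha hex fun G hG => ?_
    obtain ⟨c, hc, hcv⟩ := hg G hG
    set Δ := (G : Matrix (Fin a) (Fin a) F) * E * ((G⁻¹ : GL (Fin a) F) : Matrix (Fin a) (Fin a) F) - E
      with hΔ
    have hcw : ∀ x, c ◆ emb w x = emb w x := fun x => by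
      rw [hcv w 0 1 (fun x => by rw [hsinv, one_mulVec, show emb (0 : Fin b → F) (Ai *ᵥ x) = 0 from
        funext fun r => mul_zero _, zero_add]), Matrix.mul_one, Units.mul_inv, sub_self, zero_mulVec,
        map_zero, add_zero]
    have hci := (hM.le hc).1
    have hCc : ∀ z, Cw σ w (c ◆ z) = Cw σ w z := fun z => hp_ext_right S fun v => by
      rw [← hp_emb S, ← hp_emb S]
      conv_lhs => rw [← hcw v, mem_isom.mp hci]
    have hscal : ∀ l : F, IsScal (l • Δ - σ l • adj σ Δ) := by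
      intro l
      have hly : hp σ (l • y) w = 0 := by rw [(uf S).smul_left, hy, mul_zero]
      obtain ⟨b₁, hb₁⟩ := exists_trace (uf S (ι := Fin b)) (r := -hp σ (l • y) (l • y))
        (by rw [map_neg, ← (uf S).herm])
      set k := kr (1 : GL (Fin a) F) (HermStab.qe (hp σ) w (l • y) b₁) with hk
      have hkM : k ∈ M := hM.kron _ (kr_mem _ _) ⟨kr_isom S (Subgroup.one_mem _)
        (HermStab.qe_mem_su (uf S) hw hly hb₁).1, det_kr_eq_one (map_one _) (HermStab.qe_det _ _ _)⟩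
      have hkz : ∀ z, k ◆ z = z + emb (l • y) (Cw σ w z) + emb w (b₁ • Cw σ w z - Cw σ (l • y) z) := by
        intro z
        conv_lhs => rw [eq_sum_emb z]
        simp only [hk, mulVec_sum, kr_emb, Units.val_one, one_mulVec, HermStab.qe_mulVec (uf S) hw hly]
        funext r
        simp only [Finset.sum_apply, Pi.add_apply, Pi.sub_apply, emb_apply, Pi.smul_apply, smul_eq_mul,
          Cw_apply, hp_single_left, hp, Finset.sum_mul, Finset.mul_sum, mul_sub, mul_add, add_mul, sub_mul,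
          Finset.sum_add_distrib, Finset.sum_sub_distrib]
        simp [Pi.single_apply, mul_comm, mul_left_comm]
        ring
      refine hall _ ⟨c * k * c⁻¹ * k⁻¹, mul_mem (mul_mem (mul_mem hc hkM) (inv_mem hc)) (inv_mem hkM), ?_⟩
      have hcl : ∀ x, c ◆ emb (l • y) x = emb (l • y) x + emb w (l • (Δ *ᵥ x)) := fun x => by
        rw [hcv (l • y) (l • θ) (l • E) (hlin l) x, hΔ, Matrix.mul_smul, Matrix.smul_mul,
          ← smul_sub, smul_mulVec]
      have hCl : ∀ z, Cw σ (l • y) (c ◆ z) = Cw σ (l • y) z - σ l • (adj σ Δ *ᵥ Cw σ w z) := fun z =>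
        hp_ext_right S fun v => by
          rw [← hp_emb S, hsub_right (uf S), hsmul_right (uf S), S.inv, ← hp_adj S, ← hp_emb S,
            ← hp_emb S]
          have h2 := mem_isom.mp hci (emb (l • y) v) z
          rw [hcl, (uf S).add_left, map_smul, (uf S).smul_left,
            show hp σ (emb w (Δ *ᵥ v)) (c ◆ z) = hp σ (emb w (Δ *ᵥ v)) z by
              conv_lhs => rw [← hcw (Δ *ᵥ v), mem_isom.mp hci]] at h2
          linear_combination h2
      have key : ((1 : Matrix (Fin a × Fin b) (Fin a × Fin b) F) + (l • Δ - σ l • adj σ Δ) ⊗ₖ nw σ w) *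
          ((k * c : GL (Fin a × Fin b) F) : Matrix (Fin a × Fin b) (Fin a × Fin b) F) =
          ((c * k : GL (Fin a × Fin b) F) : Matrix (Fin a × Fin b) (Fin a × Fin b) F) := by
        refine Matrix.toLin'.injective (LinearMap.ext fun z => ?_)
        simp only [Matrix.toLin'_apply, ← mulVec_mulVec, Units.val_mul, add_mulVec, one_mulVec, cur_tt S]
        rw [hkz, hkz, map_add, map_add, Cw_emb S, Cw_emb S, hly, hw, zero_smul, zero_smul, add_zero,
          add_zero, hCc, hCl, mulVec_add, mulVec_add, hcl, hcw]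
        simp only [sub_mulVec, smul_mulVec, map_add, map_sub, map_smul]
        module
      have hu1 : c * k = c * k * c⁻¹ * k⁻¹ * (k * c) := by group
      rw [hu1, Units.val_mul] at key
      exact ((Units.isUnit (k * c)).mul_right_cancel key).symm
    obtain ⟨l, hl⟩ : ∃ l, σ l ≠ l := by
      by_contra h
      push Not at h
      exact S.ne_refl (RingEquiv.ext h)
    have h1 := hscal 1
    rw [map_one, one_smul, one_smul] at h1
    have h8 := (hscal l).sub (h1.smul (σ l))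
    refine isScal_of_smul (sub_ne_zero.mpr (Ne.symm hl)) ?_
    convert h8 using 1
    module
  choose! h hh using hperp
  -- the partner
  obtain ⟨θu, Eu, hθu⟩ : ∃ (θ : Fin b → F) (E : Matrix (Fin a) (Fin a) F), ∀ x,
      (s⁻¹ : GL (Fin a × Fin b) F) ◆ emb u x = emb θ (Ai *ᵥ x) + emb w (Ai *ᵥ (E *ᵥ x)) := by
    let V : Submodule F (Fin b → F) :=
      { carrier := {v | ∃ κ' : F, ∀ x, Cw σ v ((s⁻¹ : GL (Fin a × Fin b) F) ◆ emb u x) = κ' • (Ai *ᵥ x)}
        zero_mem' := ⟨0, fun x => by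
          rw [show (0 : Fin b → F) = (0 : F) • 0 from (zero_smul F _).symm, Cw_smul S, map_zero, zero_smul,
            zero_smul]⟩
        add_mem' := fun {v v'} hv hv' => by
          obtain ⟨k₁, hk₁⟩ := hv
          obtain ⟨k₂, hk₂⟩ := hv'
          exact ⟨k₁ + k₂, fun x => by rw [Cw_add S, hk₁, hk₂, add_smul]⟩
        smul_mem' := fun r v hv => by
          obtain ⟨k₁, hk₁⟩ := hv
          exact ⟨σ r * k₁, fun x => by rw [Cw_smul S, hk₁, smul_smul]⟩ }
    have hhV : ∀ y, hp σ y w = 0 → h y ∈ V := fun y hy => ⟨σ (hp σ y u) * κ, fun x => hp_ext_right S fun v => by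
      rw [← hp_emb S, hsmul_right (uf S), map_mul, S.inv,
        show hp σ v (Ai *ᵥ x) = (σ κ)⁻¹ * hp σ (A ◆ v) x by
          rw [hp_adj S, hadj, smul_mulVec, hsmul_right (uf S),
            inv_mul_cancel_left₀ ((map_ne_zero σ).mpr hκ0)],
        mul_assoc, mul_inv_cancel_left₀ ((map_ne_zero σ).mpr hκ0), mul_comm (hp σ y u)]
      rw [← hp_emb_emb S y u (A ◆ v) x, ← mem_isom.mp hsi, mulVec_inv_mulVec]
      congr 1
      have := congrArg (s ◆ ·) (hh y hy (A ◆ v))
      simp only [mulVec_inv_mulVec, hAi, inv_mulVec_mulVec] at this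
      exact this.symm⟩
    have hV : ∀ y, hp σ y w = 0 → y ∈ V := by
      intro y hy
      by_contra hyV
      obtain ⟨φ, hφ, hφy⟩ := exists_annihilator hyV
      set x₀ : Fin a → F := Pi.single ⟨0, by omega⟩ 1 with hx₀
      set ζ := s ◆ emb y x₀ with hζ
      have hζw : Cw σ w ζ = 0 := by rw [hζ, hC', Cw_emb S, hy, zero_smul, mulVec_zero]
      have h1 : emb y x₀ = (s⁻¹ : GL (Fin a × Fin b) F) ◆ ζ := (inv_mulVec_mulVec s _).symm
      rw [decomp_eq S (w := w) u ζ, hζw, map_zero, zero_add, mulVec_sum] at h1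
      have h2 := congrArg (ctr φ) h1
      rw [map_sum, ctr_emb, hφy, one_smul] at h2
      rw [Finset.sum_eq_zero fun j _ => show ctr φ ((s⁻¹ : GL (Fin a × Fin b) F) ◆
          emb (Pi.single j 1 - σ (w j) • u) (fun i => ζ (i, j))) = 0 by
        rw [hh _ (hys j), ctr_emb, hφ _ (hhV _ (hys j)), zero_smul]] at h2
      exact one_ne_zero (α := F) (by simpa [hx₀] using congrFun h2 ⟨0, by omega⟩)
    exact step u ⟨fun j => (hV _ (hys j)).choose, fun j => (hV _ (hys j)).choose_spec⟩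
  suffices hE : IsScal Eu by
    obtain ⟨μ, rfl⟩ := hE
    have hall' : ∀ j, ∃ θ : Fin b → F, ∀ x,
        (s⁻¹ : GL (Fin a × Fin b) F) ◆ emb (Pi.single j 1) x = emb θ (Ai *ᵥ x) := fun j => by
      refine ⟨h (ys j) + σ (w j) • (θu + μ • w), fun x => ?_⟩
      have e : (Pi.single j 1 : Fin b → F) = ys j + σ (w j) • u := (sub_add_cancel _ _).symm
      rw [e, emb_add, emb_smul, mulVec_add, mulVec_smul, hh _ (hys j), hθu, smul_mulVec, one_mulVec,
        mulVec_smul, map_smul, emb_add, emb_smul, emb_add, emb_smul]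
    choose H hH using hall'
    set Hm : Matrix (Fin b) (Fin b) F := Matrix.of fun l j => H j l with hHm
    have hkron : ((s⁻¹ : GL (Fin a × Fin b) F) : Matrix (Fin a × Fin b) (Fin a × Fin b) F) = Ai ⊗ₖ Hm := by
      refine Matrix.ext fun r r' => ?_
      have h1 := congrFun (hH r'.2 (Pi.single r'.1 1)) r
      have h2 : emb (Pi.single r'.2 (1 : F)) (Pi.single r'.1 1 : Fin a → F) = Pi.single r' 1 := by
        funext p
        simp [emb_apply, Pi.single_apply, Prod.ext_iff]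
        split_ifs <;> simp_all
      rw [h2, mulVec_single_one] at h1
      simp only [Matrix.col_apply, emb_apply, mulVec_single_one] at h1
      rw [h1, Matrix.kroneckerMap_apply, hHm, Matrix.of_apply]
    have hdet : Hm.det ≠ 0 := fun h0 => by
      have h1 := congrArg Matrix.det hkron
      rw [Matrix.det_kronecker, h0, zero_pow (by simp; omega), mul_zero] at h1
      exact (Matrix.GeneralLinearGroup.det (s⁻¹)).ne_zero h1
    have hinK : s⁻¹ ∈ Geo.kroneckerSubgroup a b F :=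
      ⟨A⁻¹, Matrix.GeneralLinearGroup.mkOfDetNeZero Hm hdet, hkron⟩
    exact hsK (by simpa using inv_mem hinK)
  refine scalar_of_conj S ha hex fun G hG => ?_
  obtain ⟨c, hc, hcv⟩ := hg G hG
  refine hall _ ⟨c, hc, Matrix.toLin'.injective (LinearMap.ext fun z => ?_)⟩
  simp only [Matrix.toLin'_apply, add_mulVec, one_mulVec, cur_tt S]
  conv_lhs => rw [decomp_eq S (w := w) u z, mulVec_add, mulVec_sum, hcv u θu Eu hθu]
  conv_rhs => arg 1; rw [decomp_eq S (w := w) u z]
  rw [add_right_comm]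
  congr 2
  refine Finset.sum_congr rfl fun j _ => ?_
  rw [hcv _ (h (ys j)) 0 (fun x => by rw [hh _ (hys j), zero_mulVec, mulVec_zero, map_zero, add_zero]),
    Matrix.mul_zero, Matrix.zero_mul, sub_zero, zero_mulVec, map_zero, add_zero]

end Cfsg.Agent.TU18
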