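import Mathlib

/-!
Groups generated by two quadratic unipotent elements `1 + U`, `1 + X`: the element `U * X + X * U` is central,
and the `p`-part of `(1 + U) * (1 + X)` lies in a normal `p`-subgroup and has small rank (helper18).
-/

set_option autoImplicit false
set_option linter.unusedSectionVars false

namespace Cfsg.Agent.TU18

open Matrix Module

variable {ι : Type} [Fintype ι] [DecidableEq ι] {F : Type*} [Field F] [Finite F]

/-- The range of a matrix. -/
abbrev ran (M : Matrix ι ι F) : Submodule F (ι → F) := LinearMap.range M.mulVecLin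

/-- The image of a subspace under a matrix. -/
abbrev mp (M : Matrix ι ι F) (P : Submodule F (ι → F)) : Submodule F (ι → F) := P.map M.mulVecLin

theorem ran_mul (A B : Matrix ι ι F) : ran (A * B) = mp A (ran B) := by
  rw [ran, Matrix.mulVecLin_mul, LinearMap.range_comp]

theorem ran_mul_le (A B : Matrix ι ι F) : ran (A * B) ≤ ran A := by
  rw [ran_mul]; exact LinearMap.map_le_range

theorem ran_add_le (A B : Matrix ι ι F) : ran (A + B) ≤ ran A ⊔ ran B := by
  rintro _ ⟨v, rfl⟩
  rw [mulVecLin_apply, add_mulVec]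
  exact Submodule.add_mem_sup ⟨v, rfl⟩ ⟨v, rfl⟩

theorem ran_neg_le (A : Matrix ι ι F) : ran (-A) ≤ ran A := by
  rintro _ ⟨v, rfl⟩
  exact ⟨-v, by simp [mulVec_neg, neg_mulVec]⟩

theorem ran_eq_bot_iff {A : Matrix ι ι F} : ran A = ⊥ ↔ A = 0 := by
  rw [ran, LinearMap.range_eq_bot]
  constructor
  · intro h
    refine Matrix.ext fun i j => ?_
    have := congrFun (LinearMap.congr_fun h (Pi.single j 1)) i
    simpa using this
  · rintro rfl; ext v; simp

theorem fin_sup_le (P Q : Submodule F (ι → F)) :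
    finrank F ↥(P ⊔ Q) ≤ finrank F P + finrank F Q :=
  Submodule.finrank_add_le_finrank_add_finrank P Q

theorem fin_mp_le (A : Matrix ι ι F) (P : Submodule F (ι → F)) : finrank F (mp A P) ≤ finrank F P :=
  Submodule.finrank_map_le _ P

theorem rank_def (A : Matrix ι ι F) : A.rank = finrank F (ran A) := rfl

theorem rank_split {e Y : Matrix ι ι F} (he : e * e = e) (hc : Commute e Y) :
    (e * Y).rank + ((1 - e) * Y).rank = Y.rank := by
  have hsup : ran (e * Y) ⊔ ran ((1 - e) * Y) = ran Y := by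
    refine le_antisymm (sup_le ?_ ?_) ?_
    · rw [hc.eq]; exact ran_mul_le _ _
    · rw [show (1 - e) * Y = Y * (1 - e) by rw [mul_sub, sub_mul, mul_one, one_mul, hc.eq]]
      exact ran_mul_le _ _
    · calc ran Y = ran (e * Y + (1 - e) * Y) := by
            rw [sub_mul, one_mul, add_sub_cancel]
        _ ≤ _ := ran_add_le _ _
  have hinf : ran (e * Y) ⊓ ran ((1 - e) * Y) = ⊥ := by
    refine eq_bot_iff.mpr fun v hv => ?_
    obtain ⟨⟨y, hy⟩, ⟨y', hy'⟩⟩ := hv
    simp only [mulVecLin_apply] at hy hy'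
    have h1 : e *ᵥ v = v := by rw [← hy, mulVec_mulVec, ← mul_assoc, he]
    have h2 : e *ᵥ v = 0 := by
      rw [← hy', mulVec_mulVec, ← mul_assoc, mul_sub, mul_one, he, sub_self, zero_mul, zero_mulVec]
    rw [h1] at h2
    exact (Submodule.mem_bot F).mpr h2
  have h := Submodule.finrank_sup_add_finrank_inf_eq (ran (e * Y)) (ran ((1 - e) * Y))
  rw [hsup, hinf, finrank_bot] at h
  simp only [rank_def]
  omega

theorem exists_idem_pow {M : Type*} [Monoid M] [Finite M] (t : M) :
    ∃ k, 0 < k ∧ t ^ k * t ^ k = t ^ k := by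
  obtain ⟨i, j, hne, he⟩ := Finite.exists_ne_map_eq_of_infinite (fun n : ℕ => t ^ n)
  obtain ⟨n, d, hd, he⟩ : ∃ n d, 0 < d ∧ t ^ (n + d) = t ^ n := by
    rcases lt_or_gt_of_ne hne with h | h
    · exact ⟨i, j - i, by omega, by rw [show i + (j - i) = j by omega]; exact he.symm⟩
    · exact ⟨j, i - j, by omega, by rw [show j + (i - j) = i by omega]; exact he⟩
  have hstep : ∀ r s, n ≤ s → t ^ (s + r * d) = t ^ s := by
    intro r
    induction r with
    | zero => simp
    | succ r ih =>
      intro s hs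
      have h1 := ih (s + d) (by omega)
      rw [show s + (r + 1) * d = s + d + r * d by ring, h1]
      conv_rhs => rw [show s = n + (s - n) by omega]
      rw [show s + d = n + d + (s - n) by omega, pow_add _ (n + d), he, ← pow_add]
  refine ⟨(n + 1) * d, Nat.mul_pos (Nat.succ_pos n) hd, ?_⟩
  rw [← pow_add]
  exact hstep _ _ (le_trans (Nat.le_succ n) (Nat.le_mul_of_pos_right _ hd))

theorem isNilpotent_of_mul_unit {A : Type*} [Semiring A] {x d : A} (hd : IsUnit d) (hc : Commute x d)
    (h : IsNilpotent (x * d)) : IsNilpotent x := by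
  obtain ⟨n, hn⟩ := h
  rw [hc.mul_pow] at hn
  exact ⟨n, (hd.pow n).mul_left_eq_zero.mp hn⟩

/-- `U * X + X * U`. -/
def th (U X : Matrix ι ι F) : Matrix ι ι F := U * X + X * U

variable {U X : Matrix ι ι F}

theorem th_swap : th U X = th X U := add_comm _ _

theorem th_mul_left (hU : U * U = 0) : th U X * U = U * X * U := by
  rw [th, add_mul, mul_assoc X, hU, mul_zero, add_zero]

theorem th_mul_right (hX : X * X = 0) : th U X * X = X * U * X := by
  rw [th_swap, th_mul_left hX]

theorem th_comm_U (hU : U * U = 0) : Commute (th U X) U := by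
  show th U X * U = U * th U X
  rw [th_mul_left hU, th, mul_add, ← mul_assoc, hU, zero_mul, zero_add, mul_assoc]

theorem th_comm_X (hX : X * X = 0) : Commute (th U X) X := by
  rw [th_swap]; exact th_comm_U hX

/-- The algebra generated by `U` and `X`. -/
abbrev alg (U X : Matrix ι ι F) : Subalgebra F (Matrix ι ι F) := Algebra.adjoin F {U, X}

/-- The algebra generated by `th U X`. -/
abbrev cen (U X : Matrix ι ι F) : Subalgebra F (Matrix ι ι F) := Algebra.adjoin F {th U X}

theorem mem_alg_left : U ∈ alg U X := Algebra.subset_adjoin (Set.mem_insert _ _)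

theorem mem_alg_right : X ∈ alg U X := Algebra.subset_adjoin (Set.mem_insert_of_mem _ rfl)

theorem th_mem_alg : th U X ∈ alg U X :=
  add_mem (mul_mem mem_alg_left mem_alg_right) (mul_mem mem_alg_right mem_alg_left)

theorem cen_le : cen U X ≤ alg U X :=
  Algebra.adjoin_le (Set.singleton_subset_iff.mpr th_mem_alg)

theorem th_mem_cen : th U X ∈ cen U X := Algebra.subset_adjoin rfl

theorem cen_comm {c y : Matrix ι ι F} (hc : c ∈ cen U X) (hy : Commute (th U X) y) : Commute c y := by
  induction hc using Algebra.adjoin_induction with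
  | mem z hz => rw [Set.mem_singleton_iff.mp hz]; exact hy
  | algebraMap r => exact Algebra.commutes r y
  | add a b _ _ ha hb => exact ha.add_left hb
  | mul a b _ _ ha hb => exact ha.mul_left hb

theorem th_comm_alg (hU : U * U = 0) (hX : X * X = 0) {y : Matrix ι ι F} (hy : y ∈ alg U X) :
    Commute (th U X) y := by
  induction hy using Algebra.adjoin_induction with
  | mem z hz =>
    rcases hz with rfl | hz
    · exact th_comm_U hU
    · rw [Set.mem_singleton_iff.mp hz]; exact th_comm_X hX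
  | algebraMap r => exact (Algebra.commutes r _).symm
  | add a b _ _ ha hb => exact ha.add_right hb
  | mul a b _ _ ha hb => exact ha.mul_right hb

theorem cen_comm_alg (hU : U * U = 0) (hX : X * X = 0) {c y : Matrix ι ι F} (hc : c ∈ cen U X)
    (hy : y ∈ alg U X) : Commute c y :=
  cen_comm hc (th_comm_alg hU hX hy)

/-- The ideal spanned by `U, X, U * X, X * U` over the central algebra. -/
def InS (U X s : Matrix ι ι F) : Prop :=
  ∃ a b c d : Matrix ι ι F, a ∈ cen U X ∧ b ∈ cen U X ∧ c ∈ cen U X ∧ d ∈ cen U X ∧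
    s = a * U + b * X + c * (U * X) + d * (X * U)

theorem InS.swap {s : Matrix ι ι F} (h : InS U X s) : InS X U s := by
  obtain ⟨a, b, c, d, ha, hb, hc, hd, rfl⟩ := h
  unfold InS
  simp only [cen, th_swap (U := X) (X := U)]
  exact ⟨b, a, d, c, hb, ha, hd, hc, by abel⟩

theorem InS.zero : InS U X (0 : Matrix ι ι F) :=
  ⟨0, 0, 0, 0, zero_mem _, zero_mem _, zero_mem _, zero_mem _, by simp⟩

theorem InS.add {s t : Matrix ι ι F} (hs : InS U X s) (ht : InS U X t) : InS U X (s + t) := by
  obtain ⟨a, b, c, d, ha, hb, hc, hd, rfl⟩ := hs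
  obtain ⟨a', b', c', d', ha', hb', hc', hd', rfl⟩ := ht
  exact ⟨a + a', b + b', c + c', d + d', add_mem ha ha', add_mem hb hb', add_mem hc hc', add_mem hd hd',
    by simp only [add_mul]; abel⟩

theorem InS.smul {r s : Matrix ι ι F} (hr : r ∈ cen U X) (hs : InS U X s) : InS U X (r * s) := by
  obtain ⟨a, b, c, d, ha, hb, hc, hd, rfl⟩ := hs
  exact ⟨r * a, r * b, r * c, r * d, mul_mem hr ha, mul_mem hr hb, mul_mem hr hc, mul_mem hr hd,
    by simp only [mul_add, mul_assoc]⟩

theorem InS.neg {s : Matrix ι ι F} (hs : InS U X s) : InS U X (-s) := by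
  have := hs.smul (neg_mem (one_mem (cen U X)))
  rwa [neg_one_mul] at this

theorem InS.left : InS U X U :=
  ⟨1, 0, 0, 0, one_mem _, zero_mem _, zero_mem _, zero_mem _, by simp⟩

theorem InS.right : InS U X X :=
  ⟨0, 1, 0, 0, zero_mem _, one_mem _, zero_mem _, zero_mem _, by simp⟩

theorem InS.mem_alg {s : Matrix ι ι F} (hs : InS U X s) : s ∈ alg U X := by
  obtain ⟨a, b, c, d, ha, hb, hc, hd, rfl⟩ := hs
  exact add_mem (add_mem (add_mem (mul_mem (cen_le ha) mem_alg_left) (mul_mem (cen_le hb) mem_alg_right))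
    (mul_mem (cen_le hc) (mul_mem mem_alg_left mem_alg_right)))
    (mul_mem (cen_le hd) (mul_mem mem_alg_right mem_alg_left))

section
variable (hU : U * U = 0) (hX : X * X = 0)
include hU hX

theorem InS.left_mul {s : Matrix ι ι F} (hs : InS U X s) : InS U X (U * s) := by
  obtain ⟨a, b, c, d, ha, hb, hc, hd, rfl⟩ := hs
  refine ⟨d * th U X, 0, b, 0, mul_mem hd th_mem_cen, zero_mem _, hb, zero_mem _, ?_⟩
  have hm : ∀ r ∈ cen U X, ∀ M : Matrix ι ι F, U * (r * M) = r * (U * M) := fun r hr M => by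
    rw [← mul_assoc, ← (cen_comm hr (th_comm_U hU)).eq, mul_assoc]
  rw [mul_add, mul_add, mul_add, hm a ha, hm b hb, hm c hc, hm d hd, mul_assoc d, th_mul_left hU]
  simp [hU, ← mul_assoc U U, mul_assoc]
  abel

theorem InS.mul_left {s : Matrix ι ι F} (hs : InS U X s) : InS U X (s * U) := by
  obtain ⟨a, b, c, d, ha, hb, hc, hd, rfl⟩ := hs
  refine ⟨c * th U X, 0, 0, b, mul_mem hc th_mem_cen, zero_mem _, zero_mem _, hb, ?_⟩
  rw [add_mul, add_mul, add_mul, mul_assoc c (th U X), th_mul_left hU]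
  simp [hU, mul_assoc]
  abel

theorem InS.alg_mul {s y : Matrix ι ι F} (hy : y ∈ alg U X) (hs : InS U X s) : InS U X (y * s) := by
  induction hy using Algebra.adjoin_induction generalizing s with
  | mem z hz =>
    rcases hz with rfl | hz
    · exact hs.left_mul hU hX
    · rw [Set.mem_singleton_iff.mp hz]; exact (hs.swap.left_mul hX hU).swap
  | algebraMap r => exact hs.smul (algebraMap_mem _ r)
  | add a b _ _ ha hb => rw [add_mul]; exact (ha hs).add (hb hs)
  | mul a b _ _ ha hb => rw [mul_assoc]; exact ha (hb hs)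

theorem InS.mul_alg {s y : Matrix ι ι F} (hy : y ∈ alg U X) (hs : InS U X s) : InS U X (s * y) := by
  induction hy using Algebra.adjoin_induction generalizing s with
  | mem z hz =>
    rcases hz with rfl | hz
    · exact hs.mul_left hU hX
    · rw [Set.mem_singleton_iff.mp hz]; exact (hs.swap.mul_left hX hU).swap
  | algebraMap r => rw [← Algebra.commutes r s]; exact hs.smul (algebraMap_mem _ r)
  | add a b _ _ ha hb => rw [mul_add]; exact (ha hs).add (hb hs)
  | mul a b _ _ ha hb => rw [← mul_assoc]; exact hb (ha hs)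

theorem InS.sq {s : Matrix ι ι F} (hs : InS U X s) :
    ∃ s' ∈ alg U X, s * s = th U X * s' := by
  obtain ⟨a, b, c, d, ha, hb, hc, hd, rfl⟩ := hs
  refine ⟨a * b + (a * d + c * a) * U + (b * c + d * b) * X + c * c * (U * X) + d * d * (X * U), ?_, ?_⟩
  · exact add_mem (add_mem (add_mem (add_mem (cen_le (mul_mem ha hb))
      (mul_mem (cen_le (add_mem (mul_mem ha hd) (mul_mem hc ha))) mem_alg_left))
      (mul_mem (cen_le (add_mem (mul_mem hb hc) (mul_mem hd hb))) mem_alg_right))
      (mul_mem (cen_le (mul_mem hc hc)) (mul_mem mem_alg_left mem_alg_right)))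
      (mul_mem (cen_le (mul_mem hd hd)) (mul_mem mem_alg_right mem_alg_left))
  set t := th U X
  have hm : ∀ r ∈ cen U X, ∀ M ∈ alg U X, ∀ r' N : Matrix ι ι F,
      (r' * M) * (r * N) = (r' * r) * (M * N) := fun r hr M hM r' N => by
    calc r' * M * (r * N) = r' * (M * r) * N := by noncomm_ring
      _ = r' * (r * M) * N := by rw [(cen_comm_alg hU hX hr hM).eq]
      _ = _ := by noncomm_ring
  have huA := mem_alg_left (U := U) (X := X)
  have hxA := mem_alg_right (U := U) (X := X)
  simp only [add_mul, mul_add, hm a ha _ huA, hm b hb _ huA, hm c hc _ huA, hm d hd _ huA,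
    hm a ha _ hxA, hm b hb _ hxA, hm c hc _ hxA, hm d hd _ hxA,
    hm a ha _ (mul_mem huA hxA), hm b hb _ (mul_mem huA hxA), hm c hc _ (mul_mem huA hxA),
    hm d hd _ (mul_mem huA hxA), hm a ha _ (mul_mem hxA huA), hm b hb _ (mul_mem hxA huA),
    hm c hc _ (mul_mem hxA huA), hm d hd _ (mul_mem hxA huA)]
  have h1 : U * (U * X) = 0 := by rw [← mul_assoc, hU, zero_mul]
  have h2 : X * (X * U) = 0 := by rw [← mul_assoc, hX, zero_mul]
  have h3 : U * (X * U) = t * U := by rw [th_mul_left hU, mul_assoc]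
  have h4 : X * (U * X) = t * X := by rw [th_mul_right hX, mul_assoc]
  have h5 : U * X * U = t * U := (th_mul_left hU).symm
  have h6 : X * U * X = t * X := (th_mul_right hX).symm
  have h7 : U * X * X = 0 := by rw [mul_assoc, hX, mul_zero]
  have h8 : X * U * U = 0 := by rw [mul_assoc, hU, mul_zero]
  have h9 : U * X * (U * X) = t * (U * X) := by rw [← mul_assoc, h5, mul_assoc]
  have h10 : X * U * (X * U) = t * (X * U) := by rw [← mul_assoc, h6, mul_assoc]
  have h11 : U * X * (X * U) = 0 := by rw [← mul_assoc, h7, zero_mul]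
  have h12 : X * U * (U * X) = 0 := by rw [← mul_assoc, h8, zero_mul]
  simp only [h1, h2, h3, h4, h5, h6, h7, h8, h9, h10, h11, h12, hU, hX, mul_zero, add_zero, zero_add]
  have ht : ∀ r ∈ cen U X, ∀ M : Matrix ι ι F, r * (t * M) = t * (r * M) := fun r hr M => by
    rw [← mul_assoc, (cen_comm hr (Commute.refl t)).eq, mul_assoc]
  rw [ht _ (mul_mem ha hd), ht _ (mul_mem hc ha), ht _ (mul_mem hb hc), ht _ (mul_mem hd hb),
    ht _ (mul_mem hc hc), ht _ (mul_mem hd hd), (cen_comm ha (cen_comm hb (Commute.refl t)).symm).eq.symm]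
  have hab : t * (a * b) = a * b * (U * X) + a * b * (X * U) := by
    rw [← mul_add, show U * X + X * U = t from rfl, (cen_comm (mul_mem ha hb) (Commute.refl t)).eq]
  rw [hab]
  abel

end

/-- A chosen power of `th U X` that is idempotent. -/
noncomputable def epow (U X : Matrix ι ι F) : ℕ := (exists_idem_pow (th U X)).choose

/-- The idempotent power of `th U X`. -/
noncomputable def idem (U X : Matrix ι ι F) : Matrix ι ι F := th U X ^ epow U X

theorem epow_pos : 0 < epow U X := (exists_idem_pow (th U X)).choose_spec.1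

theorem idem_mul_idem : idem U X * idem U X = idem U X := (exists_idem_pow (th U X)).choose_spec.2

theorem idem_compl : (1 - idem U X) * (1 - idem U X) = 1 - idem U X := by
  rw [sub_mul, one_mul, mul_sub, mul_one, idem_mul_idem, sub_self, sub_zero]

theorem idem_mul_compl : idem U X * (1 - idem U X) = 0 := by
  rw [mul_sub, mul_one, idem_mul_idem, sub_self]

theorem idem_eq : idem U X = th U X * th U X ^ (epow U X - 1) := by
  rw [idem, ← pow_succ']; congr 1; have := epow_pos (U := U) (X := X); omega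

theorem idem_mem : idem U X ∈ cen U X := pow_mem th_mem_cen _

theorem compl_mem : 1 - idem U X ∈ cen U X := sub_mem (one_mem _) idem_mem

theorem th_compl_nilpotent : IsNilpotent (th U X * (1 - idem U X)) := by
  refine ⟨epow U X, ?_⟩
  have hc : Commute (th U X) (1 - idem U X) := (cen_comm compl_mem (Commute.refl _)).symm
  rw [hc.mul_pow, show epow U X = (epow U X - 1) + 1 by have := epow_pos (U := U) (X := X); omega,
    pow_succ (1 - idem U X), ← mul_assoc]
  have h1 : ∀ j : ℕ, (1 - idem U X) ^ (j + 1) = 1 - idem U X := by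
    intro j
    induction j with
    | zero => rw [zero_add, pow_one]
    | succ j ih => rw [pow_succ, ih, idem_compl]
  rw [mul_assoc, ← pow_succ, h1, show epow U X - 1 + 1 = epow U X by
    have := epow_pos (U := U) (X := X); omega]
  exact idem_mul_compl

theorem idem_ne_zero (hθ : ¬ IsNilpotent (th U X)) : idem U X ≠ 0 := fun h => hθ ⟨_, h⟩

theorem idem_mulVec_eq_zero {m : ι → F} (hm : th U X *ᵥ m = 0) : idem U X *ᵥ m = 0 := by
  rw [idem_eq, ((Commute.refl (th U X)).pow_right _).eq, ← mulVec_mulVec, hm, mulVec_zero]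

section
variable (hU : U * U = 0) (hX : X * X = 0)
include hU hX

theorem InS.nilpotent {s : Matrix ι ι F} (hs : InS U X s) : IsNilpotent ((1 - idem U X) * s) := by
  obtain ⟨s', hs', hsq⟩ := hs.sq hU hX
  have hc : Commute (1 - idem U X) s := cen_comm_alg hU hX compl_mem hs.mem_alg
  have h2 : ((1 - idem U X) * s) ^ 2 = th U X * (1 - idem U X) * s' := by
    rw [hc.mul_pow, pow_two, pow_two, idem_compl, hsq, ← mul_assoc,
      (cen_comm compl_mem (Commute.refl _)).eq]
  have h3 : IsNilpotent (th U X * (1 - idem U X) * s') :=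
    (Commute.mul_left (th_comm_alg hU hX hs') (cen_comm_alg hU hX compl_mem hs')).isNilpotent_mul_right
      th_compl_nilpotent
  rw [← h2] at h3
  exact h3.of_pow

end

/-- Membership in the nilpotent ideal attached to the central nilpotents `α`, `β`. -/
def InI (U X α β n : Matrix ι ι F) : Prop :=
  n ∈ alg U X ∧ (∃ y ∈ alg U X, ∃ y' ∈ alg U X, idem U X * n = α * y + β * y') ∧
    ∃ s, InS U X s ∧ (1 - idem U X) * n = (1 - idem U X) * s

theorem nilpotent_pair {A : Type*} [Ring A] {α β y y' : A} (hα : IsNilpotent α) (hβ : IsNilpotent β)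
    (ha : Commute α y) (hb : Commute β y) (hb' : Commute β y') (hab : Commute α β) :
    IsNilpotent (α * y + β * y') := by
  have hkey : ∀ k : ℕ, ∃ w : A, Commute β w ∧ (α * y + β * y') ^ k = (α * y) ^ k + β * w := by
    intro k
    induction k with
    | zero => exact ⟨0, Commute.zero_right _, by simp⟩
    | succ k ih =>
      obtain ⟨w, hw, h⟩ := ih
      have hc1 : Commute β ((α * y) ^ k) := (hab.symm.mul_right hb).pow_right k
      refine ⟨(α * y) ^ k * y' + w * (α * y) + w * (β * y'), ?_, ?_⟩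
      · exact ((hc1.mul_right hb').add_right (hw.mul_right (hab.symm.mul_right hb))).add_right
          (hw.mul_right ((Commute.refl β).mul_right hb'))
      · rw [pow_succ, h, pow_succ (α * y), add_mul, mul_add, mul_add,
          show (α * y) ^ k * (β * y') = β * ((α * y) ^ k * y') by
            rw [← mul_assoc, ← hc1.eq, mul_assoc]]
        noncomm_ring
  obtain ⟨i, hi⟩ := hα
  obtain ⟨w, hw, h⟩ := hkey i
  rw [ha.mul_pow, hi, zero_mul, zero_add] at h
  exact IsNilpotent.of_pow (h ▸ hw.isNilpotent_mul_right hβ)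

section
variable {α β : Matrix ι ι F} (hU : U * U = 0) (hX : X * X = 0) (hα : α ∈ cen U X) (hβ : β ∈ cen U X)
include hU hX hα hβ

theorem InI.add {n m : Matrix ι ι F} (hn : InI U X α β n) (hm : InI U X α β m) :
    InI U X α β (n + m) := by
  obtain ⟨hna, ⟨y, hy, y', hy', he⟩, s, hs, hc⟩ := hn
  obtain ⟨hma, ⟨z, hz, z', hz', he'⟩, t, ht, hc'⟩ := hm
  exact ⟨add_mem hna hma, ⟨y + z, add_mem hy hz, y' + z', add_mem hy' hz',
    by rw [mul_add, he, he', mul_add, mul_add]; abel⟩, s + t, hs.add ht, by rw [mul_add, mul_add, hc, hc']⟩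

theorem InI.alg_mul {n w : Matrix ι ι F} (hw : w ∈ alg U X) (hn : InI U X α β n) :
    InI U X α β (w * n) := by
  obtain ⟨hna, ⟨y, hy, y', hy', he⟩, s, hs, hc⟩ := hn
  refine ⟨mul_mem hw hna, ⟨w * y, mul_mem hw hy, w * y', mul_mem hw hy', ?_⟩, w * s, hs.alg_mul hU hX hw, ?_⟩
  · rw [← mul_assoc, (cen_comm_alg hU hX idem_mem hw).eq, mul_assoc, he, mul_add, ← mul_assoc,
      ← (cen_comm_alg hU hX hα hw).eq, mul_assoc, ← mul_assoc w β, ← (cen_comm_alg hU hX hβ hw).eq,
      mul_assoc]
  · rw [← mul_assoc, (cen_comm_alg hU hX compl_mem hw).eq, mul_assoc, hc, ← mul_assoc,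
      ← (cen_comm_alg hU hX compl_mem hw).eq, mul_assoc]

theorem InI.mul_alg {n w : Matrix ι ι F} (hw : w ∈ alg U X) (hn : InI U X α β n) :
    InI U X α β (n * w) := by
  obtain ⟨hna, ⟨y, hy, y', hy', he⟩, s, hs, hc⟩ := hn
  exact ⟨mul_mem hna hw, ⟨y * w, mul_mem hy hw, y' * w, mul_mem hy' hw,
    by rw [← mul_assoc, he, add_mul, mul_assoc, mul_assoc]⟩, s * w, hs.mul_alg hU hX hw,
    by rw [← mul_assoc, hc, mul_assoc]⟩

theorem InI.nilpotent (hαn : IsNilpotent α) (hβn : IsNilpotent β) {n : Matrix ι ι F}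
    (hn : InI U X α β n) : IsNilpotent n := by
  obtain ⟨hna, ⟨y, hy, y', hy', he⟩, s, hs, hc⟩ := hn
  have h1 : IsNilpotent (idem U X * n) := by
    rw [he]
    exact nilpotent_pair hαn hβn (cen_comm_alg hU hX hα hy) (cen_comm_alg hU hX hβ hy)
      (cen_comm_alg hU hX hβ hy') (cen_comm_alg hU hX hα (cen_le hβ))
  have h2 : IsNilpotent ((1 - idem U X) * n) := by rw [hc]; exact hs.nilpotent hU hX
  have h3 := (cen_comm_alg hU hX idem_mem (mul_mem (cen_le compl_mem) hna)).mul_left
    ((cen_comm_alg hU hX compl_mem hna).symm.mul_right (Commute.refl n))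
  have := h3.isNilpotent_add h1 h2
  rwa [← add_mul, add_sub_cancel, one_mul] at this

end

section
variable {u x : GL ι F}

theorem inv_val (hU : U * U = 0) (hu : (u : Matrix ι ι F) = 1 + U) :
    ((u⁻¹ : GL ι F) : Matrix ι ι F) = 1 - U :=
  left_inv_eq_right_inv (Units.inv_mul u) (by
    rw [hu, add_mul, one_mul, mul_sub, mul_one, hU]; abel)

theorem closure_mem_alg (hU : U * U = 0) (hX : X * X = 0) (hu : (u : Matrix ι ι F) = 1 + U)
    (hx : (x : Matrix ι ι F) = 1 + X) {g : GL ι F} (hg : g ∈ Subgroup.closure ({u, x} : Set (GL ι F))) :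
    (g : Matrix ι ι F) ∈ alg U X ∧ ((g⁻¹ : GL ι F) : Matrix ι ι F) ∈ alg U X := by
  induction hg using Subgroup.closure_induction with
  | mem z hz =>
    rcases hz with rfl | hz
    · exact ⟨hu ▸ add_mem (one_mem _) mem_alg_left, inv_val hU hu ▸ sub_mem (one_mem _) mem_alg_left⟩
    · rw [Set.mem_singleton_iff.mp hz]
      exact ⟨hx ▸ add_mem (one_mem _) mem_alg_right, inv_val hX hx ▸ sub_mem (one_mem _) mem_alg_right⟩
  | one => simp [one_mem]
  | mul a b _ _ ha hb =>
    exact ⟨by rw [Units.val_mul]; exact mul_mem ha.1 hb.1,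
      by rw [_root_.mul_inv_rev, Units.val_mul]; exact mul_mem hb.2 ha.2⟩
  | inv a _ ha => exact ⟨ha.2, by rw [inv_inv]; exact ha.1⟩

variable (p : ℕ) [Fact p.Prime] [CharP F p] [Nonempty ι]

theorem pow_sub_one (g : Matrix ι ι F) (k : ℕ) : g ^ p ^ k - 1 = (g - 1) ^ p ^ k := by
  haveI : CharP (Matrix ι ι F) p := charP_of_injective_algebraMap (algebraMap F (Matrix ι ι F)).injective p
  rw [sub_pow_char_pow_of_commute (p := p) (h := Commute.one_right g), one_pow]

/-- The subgroup of the elements congruent to one modulo the nilpotent ideal is a normal `p`-subgroup. -/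
theorem exists_pSubgroup (hU : U * U = 0) (hX : X * X = 0) (hu : (u : Matrix ι ι F) = 1 + U)
    (hx : (x : Matrix ι ι F) = 1 + X) {α β : Matrix ι ι F} (hα : α ∈ cen U X) (hβ : β ∈ cen U X)
    (hαn : IsNilpotent α) (hβn : IsNilpotent β) :
    ∃ Q : Subgroup (GL ι F), IsPGroup p Q ∧ Q ≤ Subgroup.closure {u, x} ∧
      (∀ h ∈ Subgroup.closure ({u, x} : Set (GL ι F)), ∀ g ∈ Q, h * g * h⁻¹ ∈ Q) ∧
      ∀ g ∈ Subgroup.closure ({u, x} : Set (GL ι F)), InI U X α β ((g : Matrix ι ι F) - 1) → g ∈ Q := by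
  let Q : Subgroup (GL ι F) :=
    { carrier := {g | g ∈ Subgroup.closure ({u, x} : Set (GL ι F)) ∧
        InI U X α β ((g : Matrix ι ι F) - 1)}
      one_mem' := ⟨one_mem _, by
        rw [Units.val_one, sub_self]
        exact ⟨zero_mem _, ⟨0, zero_mem _, 0, zero_mem _, by simp⟩, 0, InS.zero, rfl⟩⟩
      mul_mem' := fun {g h} hg hh => ⟨mul_mem hg.1 hh.1, by
        have : ((g * h : GL ι F) : Matrix ι ι F) - 1 =
            ((g : Matrix ι ι F) - 1) * ((h : Matrix ι ι F) - 1) +
              (((g : Matrix ι ι F) - 1) + ((h : Matrix ι ι F) - 1)) := by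
          rw [Units.val_mul]; noncomm_ring
        rw [this]
        exact (hh.2.alg_mul hU hX hα hβ hg.2.1).add hU hX hα hβ (hg.2.add hU hX hα hβ hh.2)⟩
      inv_mem' := fun {g} hg => ⟨inv_mem hg.1, by
        have : ((g⁻¹ : GL ι F) : Matrix ι ι F) - 1 =
            -((g⁻¹ : GL ι F) : Matrix ι ι F) * ((g : Matrix ι ι F) - 1) := by
          rw [mul_sub, neg_mul, Units.inv_mul, mul_one]; abel
        rw [this]
        exact hg.2.alg_mul hU hX hα hβ (neg_mem (closure_mem_alg hU hX hu hx hg.1).2)⟩ }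
  refine ⟨Q, ?_, fun g hg => hg.1, fun h hh g hg => ⟨mul_mem (mul_mem hh hg.1) (inv_mem hh), ?_⟩,
    fun g hg hI => ⟨hg, hI⟩⟩
  · rintro ⟨g, hg, hI⟩
    obtain ⟨j, hj⟩ := hI.nilpotent hU hX hα hβ hαn hβn
    refine ⟨j, Subtype.ext (Units.ext ?_)⟩
    show ((g : Matrix ι ι F)) ^ p ^ j = 1
    have h1 := pow_sub_one p (g : Matrix ι ι F) j
    rwa [pow_eq_zero_of_le (Nat.lt_pow_self (Fact.out : p.Prime).one_lt).le hj, sub_eq_zero] at h1
  · have : ((h * g * h⁻¹ : GL ι F) : Matrix ι ι F) - 1 =
        (h : Matrix ι ι F) * ((g : Matrix ι ι F) - 1) * ((h⁻¹ : GL ι F) : Matrix ι ι F) := by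
      rw [Units.val_mul, Units.val_mul, mul_sub, sub_mul, mul_one, Units.mul_inv]
    rw [this]
    exact (hg.2.alg_mul hU hX hα hβ (closure_mem_alg hU hX hu hx hh).1).mul_alg hU hX hα hβ
      (closure_mem_alg hU hX hu hx hh).2

/-- If `th U X` is nilpotent the two elements generate a `p`-group. -/
theorem isPGroup_of_nilpotent (hU : U * U = 0) (hX : X * X = 0) (hu : (u : Matrix ι ι F) = 1 + U)
    (hx : (x : Matrix ι ι F) = 1 + X) (hθ : IsNilpotent (th U X)) :
    IsPGroup p (Subgroup.closure ({u, x} : Set (GL ι F))) := by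
  obtain ⟨j, hj⟩ := hθ
  have he : idem U X = 0 := by
    have h1 : ∀ i : ℕ, idem U X ^ (i + 1) = idem U X := by
      intro i
      induction i with
      | zero => rw [zero_add, pow_one]
      | succ i ih => rw [pow_succ, ih, idem_mul_idem]
    rw [← h1 j, idem, ← pow_mul]
    exact pow_eq_zero_of_le (le_trans (Nat.le_succ j) (Nat.le_mul_of_pos_left _ epow_pos)) hj
  obtain ⟨Q, hQ, -, -, hin⟩ := exists_pSubgroup p hU hX hu hx (α := 0) (β := 0) (zero_mem _) (zero_mem _)
    IsNilpotent.zero IsNilpotent.zero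
  refine hQ.to_le ((Subgroup.closure_le Q).mpr ?_)
  rintro g hg
  rcases hg with rfl | hg
  · refine hin _ (Subgroup.subset_closure (Set.mem_insert _ _)) ⟨?_, ⟨0, zero_mem _, 0, zero_mem _, ?_⟩,
      U, InS.left, ?_⟩ <;> simp [hu, he, mem_alg_left]
  · rw [Set.mem_singleton_iff.mp hg]
    refine hin _ (Subgroup.subset_closure (Set.mem_insert_of_mem _ rfl))
      ⟨?_, ⟨0, zero_mem _, 0, zero_mem _, ?_⟩, X, InS.right, ?_⟩ <;> simp [hx, he, mem_alg_right]

end

end Cfsg.Agent.TU18
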