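import Cfsg.Agent.UDec18.Setup
import Cfsg.Agent.TensorMax.Lines
import Cfsg.Agent.TU18.Engine

/-!
The standard unitary form on a tensor product and its root elements (helper18).
-/

set_option autoImplicit false
set_option linter.unusedSectionVars false

namespace Cfsg.Agent.TU18

open Matrix Cfsg.Agent.MaxSub Cfsg.Agent.TensorMax Module
open scoped Kronecker

variable {F : Type*} [Field F]

/-- The standard sesquilinear form attached to `σ`. -/
def hp (σ : F ≃+* F) {ι : Type} [Fintype ι] (x y : ι → F) : F := ∑ i, x i * σ (y i)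

/-- The field with `q ^ 2` elements and its involution. -/
structure Ctx (q : ℕ) (σ : F ≃+* F) [Fintype F] : Prop where
  card : Fintype.card F = q ^ 2
  pow : ∀ x, σ x = x ^ q
  ne_refl : σ ≠ RingEquiv.refl F
  inv : ∀ x, σ (σ x) = x

section Generic

variable [Fintype F] {q : ℕ} {σ : F ≃+* F} {ι : Type} [Fintype ι] [DecidableEq ι]
variable (S : Ctx q σ)

theorem hp_single_right (x : ι → F) (i : ι) : hp σ x (Pi.single i 1) = x i := by
  simp [hp, Pi.single_apply, apply_ite σ]

theorem hp_single_left (y : ι → F) (i : ι) : hp σ (Pi.single i 1) y = σ (y i) := by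
  simp [hp, Pi.single_apply]

include S

theorem uf : Geo.IsUnitaryForm σ (hp σ : (ι → F) → (ι → F) → F) where
  ne_refl := S.ne_refl
  involutive := S.inv
  add_left x y v := by simp [hp, add_mul, Finset.sum_add_distrib]
  smul_left c x v := by simp [hp, Finset.mul_sum, mul_assoc]
  herm v w := by simp [hp, S.inv, mul_comm]
  nondegenerate v hv := by
    obtain ⟨i, hi⟩ := Function.ne_iff.mp hv
    refine ⟨⟨Pi.single i 1, ?_⟩, ⟨Pi.single i 1, ?_⟩⟩
    all_goals first
      | (rw [hp_single_right]; exact hi)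
      | (rw [hp_single_left]; exact (map_ne_zero σ).mpr hi)

theorem std (n : ℕ) : UDec18.Std q σ (hp σ : (Fin n → F) → (Fin n → F) → F) :=
  ⟨uf S, S.card, S.pow, fun _ _ => rfl⟩

theorem hp_ext_right {x y : ι → F} (h : ∀ v, hp σ v x = hp σ v y) : x = y := funext fun i => by
  have h1 := h (Pi.single i 1)
  rw [hp_single_left, hp_single_left] at h1
  exact σ.injective h1

theorem hp_ext_left {x y : ι → F} (h : ∀ v, hp σ x v = hp σ y v) : x = y := funext fun i => by
  have h1 := h (Pi.single i 1)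
  rwa [hp_single_right, hp_single_right] at h1

theorem hp_rep (w : ι → F) : rep (hp σ) w = fun i => σ (w i) := by
  funext i
  simp [rep, hp, Pi.single_apply]

end Generic

variable {a b : ℕ}

/-- The contraction of the second factor against `w`. -/
def Cw (σ : F ≃+* F) (w : Fin b → F) : (Fin a × Fin b → F) →ₗ[F] (Fin a → F) :=
  ctr fun j => σ (w j)

theorem Cw_apply (σ : F ≃+* F) (w : Fin b → F) (z : Fin a × Fin b → F) (i : Fin a) :
    Cw σ w z i = hp σ (fun j => z (i, j)) w := by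
  simp [Cw, ctr, hp, dotProduct, mul_comm]

theorem eq_sum_emb (z : Fin a × Fin b → F) :
    z = ∑ j, emb (Pi.single j 1) fun i => z (i, j) := by
  funext p
  simp [emb, Finset.sum_apply, Pi.single_apply]

theorem emb_smul (w : Fin b → F) (c : F) (x : Fin a → F) : emb (c • w) x = c • emb w x := by
  funext p; simp [emb]; ring

theorem emb_add (w w' : Fin b → F) (x : Fin a → F) : emb (w + w') x = emb w x + emb w' x := by
  funext p; simp [emb, mul_add]

theorem emb_apply (w : Fin b → F) (x : Fin a → F) (p : Fin a × Fin b) :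
    emb w x p = x p.1 * w p.2 := rfl

theorem emb_eq_zero {w : Fin b → F} (hw : w ≠ 0) {x : Fin a → F} (h : emb w x = 0) : x = 0 :=
  emb_injective hw (h.trans (map_zero _).symm)

section Product

variable [Fintype F] {q : ℕ} {σ : F ≃+* F} (S : Ctx q σ)
include S

theorem hp_emb (w : Fin b → F) (x : Fin a → F) (z : Fin a × Fin b → F) :
    hp σ (emb w x) z = hp σ x (Cw σ w z) := by
  simp only [hp, Fintype.sum_prod_type, emb_apply, Cw, ctr, LinearMap.coe_mk, AddHom.coe_mk,
    dotProduct, map_sum, map_mul, S.inv, Finset.mul_sum]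
  exact Finset.sum_congr rfl fun i _ => Finset.sum_congr rfl fun j _ => by ring

theorem Cw_emb (w v : Fin b → F) (x : Fin a → F) : Cw σ w (emb v x) = hp σ v w • x := by
  rw [Cw, ctr_emb]
  simp [hp, dotProduct, mul_comm]

theorem hp_emb_emb (w v : Fin b → F) (x y : Fin a → F) :
    hp σ (emb w x) (emb v y) = hp σ x y * hp σ w v := by
  rw [hp_emb S, Cw_emb S, hsmul_right (uf S), ← (uf S).herm, mul_comm]

theorem Cw_smul (c : F) (w : Fin b → F) (z : Fin a × Fin b → F) :
    Cw σ (c • w) z = σ c • Cw σ w z := by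
  funext i; simp [Cw_apply, hsmul_right (uf S)]

theorem Cw_add (w v : Fin b → F) (z : Fin a × Fin b → F) :
    Cw σ (w + v) z = Cw σ w z + Cw σ v z := by
  funext i; simp [Cw_apply, hadd_right (uf S)]

/-- A Kronecker product of isometries is an isometry. -/
theorem kr_isom {g : GL (Fin a) F} {h : GL (Fin b) F} (hg : g ∈ isom (hp σ)) (hh : h ∈ isom (hp σ)) :
    kr g h ∈ isom (hp σ) := by
  refine mem_isom.mpr fun x y => ?_
  have hl : ∀ u v : Fin b → F, ∀ r s : Fin a → F,
      hp σ ((kr g h : Matrix (Fin a × Fin b) (Fin a × Fin b) F) *ᵥ emb u r)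
        ((kr g h : Matrix (Fin a × Fin b) (Fin a × Fin b) F) *ᵥ emb v s) =
      hp σ (emb u r) (emb v s) := fun u v r s => by
    rw [kr_emb, kr_emb, hp_emb_emb S, hp_emb_emb S, mem_isom.mp hg, mem_isom.mp hh]
  conv_rhs => rw [eq_sum_emb x, eq_sum_emb y]
  conv_lhs => rw [eq_sum_emb x, eq_sum_emb y]
  have hsum : ∀ (X Y : Fin b → Fin a × Fin b → F),
      hp σ (∑ j, X j) (∑ k, Y k) = ∑ j, ∑ k, hp σ (X j) (Y k) := fun X Y => by
    show MaxSub.hl (uf S) (∑ k, Y k) (∑ j, X j) = _
    rw [map_sum]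
    refine Finset.sum_congr rfl fun j _ => ?_
    show hp σ (X j) (∑ k, Y k) = _
    simp only [hp, Finset.sum_apply, map_sum, Finset.mul_sum]
    exact Finset.sum_comm
  rw [mulVec_sum, mulVec_sum, hsum, hsum]
  exact Finset.sum_congr rfl fun j _ => Finset.sum_congr rfl fun k _ => hl _ _ _ _

/-- The isometries of the factors are determined by their Kronecker product. -/
theorem isom_of_kr_one_left (ha : 1 ≤ a) {h : GL (Fin b) F}
    (hk : kr (1 : GL (Fin a) F) h ∈ isom (hp σ)) : h ∈ isom (hp σ) := by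
  refine mem_isom.mpr fun x y => ?_
  have := mem_isom.mp hk (emb x (Pi.single ⟨0, ha⟩ 1)) (emb y (Pi.single ⟨0, ha⟩ 1))
  rw [kr_emb, kr_emb, hp_emb_emb S, hp_emb_emb S, Units.val_one, one_mulVec, hp_single_right] at this
  simpa using this

theorem isom_of_kr_one_right (hb : 1 ≤ b) {g : GL (Fin a) F}
    (hk : kr g (1 : GL (Fin b) F) ∈ isom (hp σ)) : g ∈ isom (hp σ) := by
  refine mem_isom.mpr fun x y => ?_
  have := mem_isom.mp hk (emb (Pi.single ⟨0, hb⟩ 1) x) (emb (Pi.single ⟨0, hb⟩ 1) y)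
  rw [kr_emb, kr_emb, hp_emb_emb S, hp_emb_emb S, Units.val_one, one_mulVec, hp_single_right] at this
  simpa using this

end Product

/-- The group of unitary determinant one matrices of the tensor product. -/
abbrev suT (σ : F ≃+* F) (a b : ℕ) : Subgroup (GL (Fin a × Fin b) F) :=
  HermStab.su (hp σ : (Fin a × Fin b → F) → (Fin a × Fin b → F) → F)

/-- The root element `1 ⊗ τ`. -/
noncomputable def uB (σ : F ≃+* F) (a : ℕ) {b : ℕ} (w : Fin b → F) (t : F) : GL (Fin a × Fin b) F :=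
  kr 1 (ut (hp σ) w t)

/-- The root element `τ ⊗ 1`. -/
noncomputable def uA (σ : F ≃+* F) {a : ℕ} (b : ℕ) (x : Fin a → F) (t : F) : GL (Fin a × Fin b) F :=
  kr (ut (hp σ) x t) 1

/-- The transposition of the factors. -/
def sw (a b : ℕ) : GL (Fin a × Fin b) F ≃* GL (Fin b × Fin a) F :=
  Geo.glReindex (Equiv.prodComm _ _)

theorem sw_apply (g : GL (Fin a × Fin b) F) (p r : Fin b × Fin a) :
    (sw a b g : Matrix (Fin b × Fin a) (Fin b × Fin a) F) p r =
      (g : Matrix (Fin a × Fin b) (Fin a × Fin b) F) (p.2, p.1) (r.2, r.1) := rfl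

theorem sw_mulVec (g : GL (Fin a × Fin b) F) (z : Fin b × Fin a → F) :
    (sw a b g : Matrix (Fin b × Fin a) (Fin b × Fin a) F) *ᵥ z =
      fun p => ((g : Matrix (Fin a × Fin b) (Fin a × Fin b) F) *ᵥ fun r => z (r.2, r.1)) (p.2, p.1) := by
  funext p
  simp only [Matrix.mulVec, dotProduct, sw_apply]
  exact Fintype.sum_equiv (Equiv.prodComm _ _) _ _ fun r => rfl

theorem sw_kr (g : GL (Fin a) F) (h : GL (Fin b) F) : sw a b (kr g h) = kr h g :=
  Units.ext (Matrix.ext fun p r => by simp [sw_apply, kr_coe, mul_comm])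

theorem sw_sw (g : GL (Fin a × Fin b) F) : sw b a (sw a b g) = g :=
  Units.ext (Matrix.ext fun p r => by rw [sw_apply, sw_apply])

theorem sw_kron {g : GL (Fin a × Fin b) F} (hg : g ∈ Geo.kroneckerSubgroup a b F) :
    sw a b g ∈ Geo.kroneckerSubgroup b a F := by
  obtain ⟨x, y, h⟩ := hg
  have : g = kr x y := Units.ext h
  rw [this, sw_kr]
  exact ⟨y, x, rfl⟩

theorem sw_isom {σ : F ≃+* F} {g : GL (Fin a × Fin b) F} (hg : g ∈ isom (hp σ)) :
    sw a b g ∈ isom (hp σ) := by
  refine mem_isom.mpr fun x y => ?_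
  have h := mem_isom.mp hg (fun r => x (r.2, r.1)) (fun r => y (r.2, r.1))
  simp only [hp] at h ⊢
  rw [sw_mulVec, sw_mulVec]
  refine Eq.trans ?_ (h.trans ?_)
  · exact (Fintype.sum_equiv (Equiv.prodComm _ _) _ _ fun r => rfl).symm
  · exact Fintype.sum_equiv (Equiv.prodComm _ _) _ _ fun r => rfl

theorem sw_det (g : GL (Fin a × Fin b) F) :
    Matrix.GeneralLinearGroup.det (sw a b g) = Matrix.GeneralLinearGroup.det g :=
  Units.ext (Matrix.det_reindex_self _ _)

theorem sw_su {σ : F ≃+* F} {g : GL (Fin a × Fin b) F} (hg : g ∈ suT σ a b) : sw a b g ∈ suT σ b a :=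
  ⟨sw_isom hg.1, (sw_det g).trans hg.2⟩

section Roots

variable [Fintype F] {q : ℕ} {σ : F ≃+* F} (S : Ctx q σ)
include S

theorem uB_mulVec {w : Fin b → F} (hw : hp σ w w = 0) (t : F) (z : Fin a × Fin b → F) :
    (uB σ a w t : Matrix (Fin a × Fin b) (Fin a × Fin b) F) *ᵥ z = z + emb w (t • Cw σ w z) := by
  rw [uB, ut, kr_tv_mulVec (ut_dot (uf S) hw t)]
  congr 2
  funext i
  simp [ctr, Cw, hp_rep S, dotProduct, Finset.mul_sum, mul_assoc]

theorem uB_val {w : Fin b → F} (hw : hp σ w w = 0) (t : F) :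
    (uB σ a w t : Matrix (Fin a × Fin b) (Fin a × Fin b) F) - 1 =
      (1 : Matrix (Fin a) (Fin a) F) ⊗ₖ vecMulVec w (t • rep (hp σ) w) := by
  rw [uB, ut, kr_coe, Units.val_one, tv_coe (ut_dot (uf S) hw t), Matrix.kronecker_add,
    Matrix.one_kronecker_one, add_sub_cancel_left]

theorem uB_sub_mulVec {w : Fin b → F} (hw : hp σ w w = 0) (t : F) (z : Fin a × Fin b → F) :
    ((uB σ a w t : Matrix (Fin a × Fin b) (Fin a × Fin b) F) - 1) *ᵥ z = emb w (t • Cw σ w z) := by
  rw [sub_mulVec, one_mulVec, uB_mulVec S hw, add_sub_cancel_left]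

theorem uB_sq {w : Fin b → F} (hw : hp σ w w = 0) (t : F) :
    ((uB σ a w t : Matrix (Fin a × Fin b) (Fin a × Fin b) F) - 1) *
      ((uB σ a w t : Matrix (Fin a × Fin b) (Fin a × Fin b) F) - 1) = 0 := by
  refine Matrix.toLin'.injective (LinearMap.ext fun z => ?_)
  simp only [Matrix.toLin'_apply, map_zero, LinearMap.zero_apply, ← mulVec_mulVec, uB_sub_mulVec S hw,
    Cw_emb S, hw, zero_smul, smul_zero, map_zero]

theorem ran_uB {w : Fin b → F} (hw0 : w ≠ 0) (hw : hp σ w w = 0) {t : F} (ht : t ≠ 0) :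
    ran ((uB σ a w t : Matrix (Fin a × Fin b) (Fin a × Fin b) F) - 1) =
      LinearMap.range (emb (a := a) w) := by
  refine le_antisymm ?_ ?_
  · rintro _ ⟨z, rfl⟩
    rw [mulVecLin_apply, uB_sub_mulVec S hw]
    exact ⟨_, rfl⟩
  · rintro _ ⟨x, rfl⟩
    obtain ⟨y, hy⟩ := ((uf S).nondegenerate w hw0).1
    refine ⟨emb y ((t * hp σ y w)⁻¹ • x), ?_⟩
    rw [mulVecLin_apply, uB_sub_mulVec S hw, Cw_emb S, smul_smul, smul_smul,
      mul_inv_cancel₀ (mul_ne_zero ht hy), one_smul]

theorem rank_uB {w : Fin b → F} (hw0 : w ≠ 0) (hw : hp σ w w = 0) {t : F} (ht : t ≠ 0) :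
    ((uB σ a w t : Matrix (Fin a × Fin b) (Fin a × Fin b) F) - 1).rank = a := by
  rw [rank_def, ran_uB S hw0 hw ht, LinearMap.finrank_range_of_inj (emb_injective hw0), finrank_fin_fun]

theorem uB_mem {w : Fin b → F} (hw : hp σ w w = 0) {t : F} (ht : t + σ t = 0) :
    uB σ a w t ∈ suT σ a b :=
  ⟨kr_isom S (Subgroup.one_mem _) (ut_mem_isom (uf S) hw ht),
    det_kr_eq_one (map_one _) (det_tv _ _)⟩

theorem uB_kron (w : Fin b → F) (t : F) : uB σ a w t ∈ Geo.kroneckerSubgroup a b F := kr_mem _ _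

theorem sw_uB (w : Fin b → F) (t : F) : sw a b (uB σ a w t) = uA σ a w t := sw_kr _ _

theorem sw_uA (x : Fin a → F) (t : F) : sw a b (uA σ b x t) = uB σ b x t := sw_kr _ _

end Roots

end Cfsg.Agent.TU18
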